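import Mathlib

set_option autoImplicit false

namespace Cfsg.Agent.Lib.Helper62

open Subgroup MulAction

theorem exists_GL_of_end {H : Type*} [Group H] {p e : ℕ} [Fact p.Prime] {M : Type*} [AddCommGroup M]
    [Module (ZMod p) M] [Finite M] (hcard : Nat.card M = p ^ e)
    (ψ : H →* Module.End (ZMod p) M) :
    ∃ φ : H →* GL (Fin e) (ZMod p), ∀ h, φ h = 1 ↔ ψ h = 1 := by
  have hfr : Module.finrank (ZMod p) M = e := by
    have h1 := Module.natCard_eq_pow_finrank (K := ZMod p) (V := M)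
    rw [hcard, Nat.card_zmod] at h1
    exact (Nat.pow_right_injective (Fact.out : p.Prime).two_le h1).symm
  let b := Module.finBasisOfFinrankEq (ZMod p) M hfr
  let θ : (Module.End (ZMod p) M)ˣ ≃* GL (Fin e) (ZMod p) :=
    Units.mapEquiv (LinearMap.toMatrixAlgEquiv b).toMulEquiv
  refine ⟨θ.toMonoidHom.comp ψ.toHomUnits, ?_⟩
  intro h
  rw [MonoidHom.comp_apply]
  change θ (ψ.toHomUnits h) = 1 ↔ _
  rw [EmbeddingLike.map_eq_one_iff, Units.ext_iff]
  simp

theorem exists_GL_of_addEnd {H : Type*} [Group H] {p e : ℕ} [Fact p.Prime] {M : Type*} [AddCommGroup M]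
    [Module (ZMod p) M] [Finite M] (hcard : Nat.card M = p ^ e)
    (ψ : H →* AddMonoid.End M) :
    ∃ φ : H →* GL (Fin e) (ZMod p), ∀ h, φ h = 1 ↔ ψ h = 1 := by
  let ψ' : H →* Module.End (ZMod p) M :=
    { toFun := fun h => (ψ h).toZModLinearMap p
      map_one' := by
        ext x
        rw [map_one]; rfl
      map_mul' := by
        intro a b
        ext x
        rw [map_mul]; rfl }
  obtain ⟨φ, hφ⟩ := exists_GL_of_end hcard ψ'
  refine ⟨φ, fun h => ?_⟩
  rw [hφ]
  constructor
  · intro h1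
    ext x
    exact LinearMap.congr_fun h1 x
  · intro h1
    ext x
    exact DFunLike.congr_fun h1 x

theorem exists_GL_of_addEnd' {H : Type*} [Group H] {p e : ℕ} [Fact p.Prime] {M : Type*} [AddCommGroup M]
    (hexp : ∀ x : M, p • x = 0) [Finite M] (hcard : Nat.card M = p ^ e)
    (ψ : H →* AddMonoid.End M) :
    ∃ φ : H →* GL (Fin e) (ZMod p), ∀ h, φ h = 1 ↔ ψ h = 1 := by
  let := AddCommGroup.zmodModule hexp
  exact exists_GL_of_addEnd hcard ψ

theorem exists_GL_of_mulAut {H : Type*} [Group H] {p e : ℕ} [Fact p.Prime] {V : Type*} [CommGroup V]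
    (hexp : ∀ x : V, x ^ p = 1) [Finite V] (hcard : Nat.card V = p ^ e)
    (ψ : H →* MulAut V) :
    ∃ φ : H →* GL (Fin e) (ZMod p), ∀ h, φ h = 1 ↔ ψ h = 1 := by
  let ψ' : H →* AddMonoid.End (Additive V) :=
    { toFun := fun h => (MulEquiv.toAdditive (ψ h)).toAddMonoidHom
      map_one' := by
        ext x
        rw [map_one]; rfl
      map_mul' := by
        intro a b
        ext x
        rw [map_mul]; rfl }
  have hψ : ∀ (h : H) (x : V), ψ' h (Additive.ofMul x) = Additive.ofMul (ψ h x) := fun h x => rfl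
  obtain ⟨φ, hφ⟩ := exists_GL_of_addEnd' (p := p) (e := e) (M := Additive V) (by
    intro x
    induction x using Additive.rec with
    | ofMul x =>
    rw [← ofMul_pow, hexp]; rfl) (by rw [← hcard]; rfl) ψ'
  refine ⟨φ, fun h => ?_⟩
  rw [hφ]
  constructor
  · intro h1
    ext x
    have h2 := hψ h x
    rw [h1] at h2
    exact (Additive.ofMul.injective h2).symm
  · intro h1
    ext x
    induction x using Additive.rec with
    | ofMul x =>
    rw [hψ, h1]; rfl

theorem exists_GL_rep {H : Type*} [Group H] [Finite H] (V : Subgroup H) [hV : V.Normal]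
    (hc : ∀ a ∈ V, ∀ b ∈ V, a * b = b * a) {p e : ℕ} (hp : p.Prime)
    (hcard : Nat.card V = p ^ e) (hexp : ∀ a ∈ V, a ^ p = 1) :
    ∃ φ : H →* GL (Fin e) (ZMod p), φ.ker = centralizer (V : Set H) := by
  have := Fact.mk hp
  let : CommGroup V := { (inferInstance : Group V) with
    mul_comm := fun a b => Subtype.ext (hc a.1 a.2 b.1 b.2) }
  obtain ⟨φ, hφ⟩ := exists_GL_of_mulAut (p := p) (e := e) (V := V)
    (fun x => Subtype.ext (hexp x.1 x.2)) hcard (MulAut.conjNormal (H := V))
  refine ⟨φ, ?_⟩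
  ext h
  rw [MonoidHom.mem_ker, hφ, mem_centralizer_iff]
  constructor
  · intro h1 v hv
    have h3 : MulAut.conjNormal h (⟨v, hv⟩ : V) = ⟨v, hv⟩ := by rw [h1]; rfl
    have h4 := congrArg Subtype.val h3
    rw [MulAut.conjNormal_apply] at h4
    rw [mul_inv_eq_iff_eq_mul] at h4
    exact h4.symm
  · intro h1
    ext x
    rw [MulAut.conjNormal_apply, ← h1 x.1 x.2, mul_inv_cancel_right]
    rfl


theorem card_dvd_card_sub_one {F X : Type*} [Group F] [Finite F] [Fintype X] [MulAction F X] (a : X)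
    (hfix : ∀ f : F, f • a = a) (hfree : ∀ (f : F) (x : X), x ≠ a → f • x = x → f = 1) :
    Nat.card F ∣ Fintype.card X - 1 := by
  classical
  have := Fintype.ofFinite F
  have h1 := sum_card_fixedBy_eq_card_orbits_mul_card_group F X
  have h2 : ∀ f : F, Fintype.card (fixedBy X f) = (if f = 1 then Fintype.card X - 1 else 0) + 1 := by
    intro f
    have hX : 0 < Fintype.card X := Fintype.card_pos_iff.mpr ⟨a⟩
    split_ifs with hf
    · subst hf
      rw [Nat.sub_add_cancel hX]
      apply Fintype.card_congr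
      exact ⟨fun x => x.1, fun x => ⟨x, one_smul _ _⟩, fun x => rfl, fun x => rfl⟩
    · rw [Fintype.card_eq_one_iff]
      refine ⟨⟨a, hfix f⟩, fun y => ?_⟩
      by_contra hy
      exact hf (hfree f y.1 (fun h => hy (Subtype.ext h)) y.2)
  simp_rw [h2] at h1
  rw [Finset.sum_add_distrib, Finset.sum_ite_eq' Finset.univ (1 : F), if_pos (Finset.mem_univ _)] at h1
  simp only [Finset.sum_const, Finset.card_univ, smul_eq_mul, mul_one] at h1
  rw [Nat.card_eq_fintype_card]
  have hq : 0 < Fintype.card (Quotient (orbitRel F X)) := Fintype.card_pos_iff.mpr ⟨Quotient.mk _ a⟩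
  refine ⟨Fintype.card (Quotient (orbitRel F X)) - 1, ?_⟩
  obtain ⟨q, hq'⟩ : ∃ q, Fintype.card (Quotient (orbitRel F X)) = q + 1 := ⟨_, (Nat.succ_pred_eq_of_pos hq).symm⟩
  rw [hq'] at h1 ⊢
  rw [Nat.add_sub_cancel]
  have : Fintype.card X - 1 + Fintype.card F = q * Fintype.card F + Fintype.card F := by
    rw [h1]; ring
  rw [mul_comm]
  omega

end Cfsg.Agent.Lib.Helper62
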