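import Cfsg.Agent.Lib.Helper28.BG12b
import Cfsg.Agent.Lib.Helper14.BG11A
import Cfsg.Agent.S1324
import Cfsg.Agent.S1451
import Cfsg.Agent.S1452
import Cfsg.Agent.S1408

set_option autoImplicit false

namespace Cfsg.Agent.Lib.Helper62.BG124

open Subgroup

universe u

variable {G : Type u} [Group G] [Finite G]

theorem P2 {p : ℕ} [Fact p.Prime] {A K : Subgroup G} (hA : Cfsg.IsElementaryAbelian p A)
    (hA2 : Nat.card A = p ^ 2) (hAK : A ≤ normalizer (K : Set G)) (hK : ¬ p ∣ Nat.card K)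
    (h : ∀ B₀ : Subgroup G, B₀ ≤ A → Nat.card B₀ = p →
      K ⊓ centralizer (B₀ : Set G) ≤ centralizer (A : Set G)) :
    K ≤ centralizer (A : Set G) := by
  have hp : p.Prime := Fact.out
  have h1 := Cfsg.Agent.S1324.result p A K hA hA2.ge hK hAK
  rw [h1]
  apply iSup_le
  rintro ⟨B, hBA, hrel⟩
  have h2 : Nat.card B * B.relIndex A = Nat.card A := by
    have h5 := Subgroup.relIndex_mul_relIndex ⊥ B A bot_le hBA
    rwa [Subgroup.relIndex_bot_left, Subgroup.relIndex_bot_left] at h5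
  rw [hA2] at h2
  have h3 : B.relIndex A ∣ p ^ 2 := ⟨_, by rw [← h2, mul_comm]⟩
  obtain ⟨j, hj, hj'⟩ := (Nat.dvd_prime_pow hp).mp h3
  have hj1 : j ≤ 1 := by
    by_contra hcon
    have hj2 : j = 2 := by omega
    rw [hj', hj2] at hrel
    have := hp.one_lt
    nlinarith
  change K ⊓ centralizer (B : Set G) ≤ centralizer (A : Set G)
  rcases Nat.le_one_iff_eq_zero_or_eq_one.mp hj1 with rfl | rfl
  · rw [hj', pow_zero, mul_one] at h2
    have hBeq : B = A := Subgroup.eq_of_le_of_card_ge hBA (by rw [h2, hA2])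
    rw [hBeq]
    exact inf_le_right
  · rw [hj', pow_one, sq] at h2
    exact h B hBA (Nat.eq_of_mul_eq_mul_right hp.pos h2)

end Cfsg.Agent.Lib.Helper62.BG124
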