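import Mathlib
import Cfsg.Agent.Lib.Helper62.ZJComplement
import Cfsg.Agent.Lib.Helper15.ZJBridge

set_option autoImplicit false

namespace Cfsg.Agent.Lib.Helper62

open Subgroup Cfsg.Agent.Lib.Helper77 Cfsg.Agent.Lib.Helper15.ZJ

universe u

/-! ### the Thompson subgroup `JJ e R = ⟨AE e R⟩` -/

/-- the Thompson subgroup -/
def JJ {X : Type*} [Group X] (e : ℕ) (R : Subgroup X) : Subgroup X := sSup (AE e R)

theorem JJ_le {X : Type*} [Group X] (e : ℕ) (R : Subgroup X) : JJ e R ≤ R := sSup_AE_le e R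

theorem JJ_map {X Y : Type*} [Group X] [Group Y] {e : ℕ} {R : Subgroup X} (f : X →* Y)
    (hf : Set.InjOn f (R : Set X)) : JJ e (R.map f) = (JJ e R).map f := by
  unfold JJ
  rw [AE_map f hf, sSup_image]
  exact ((gc_map_comap f).l_sSup).symm

theorem normalizer_le_normalizer_JJ {X : Type*} [Group X] (e : ℕ) (R : Subgroup X) :
    normalizer (R : Set X) ≤ normalizer (JJ e R : Set X) := by
  intro x hx
  rw [mem_normalizer_iff_map_conj_eq] at hx ⊢
  have h1 := JJ_map (e := e) (R := R) (MulAut.conj x).toMonoidHom (MulAut.conj x).injective.injOn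
  exact h1.symm.trans (congrArg (JJ e) hx)

theorem JJ_ne_bot {p : ℕ} [hp : Fact p.Prime] {X : Type*} [Group X] [Finite X] {e : ℕ}
    (he : e = 0 ∨ e = p) {R : Subgroup X} (hR : IsPGroup p R) (hne : R ≠ ⊥) : JJ e R ≠ ⊥ := by
  intro h
  apply ZE_ne_bot he hR hne
  rw [← le_bot_iff, ← h]
  exact ZE_le_sSup e R

theorem JJ_eq_of_forall_le {X : Type*} [Group X] [Finite X] {e : ℕ} {T S : Subgroup X} (hTS : T ≤ S)
    (h : ∀ A ∈ AE e S, A ≤ T) : JJ e T = JJ e S := by
  obtain ⟨A0, hA0⟩ := AE_nonempty e S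
  have : AE e T = AE e S := by
    ext A
    rw [mem_AE_sub_iff hTS hA0 (h A0 hA0)]
    exact ⟨fun h => h.1, fun h' => ⟨h', h A h'⟩⟩
  unfold JJ
  rw [this]

/-! ### the centre `ZZ R = R ⊓ C(R)` -/

/-- the centre of a subgroup -/
def ZZ {X : Type*} [Group X] (R : Subgroup X) : Subgroup X := R ⊓ centralizer (R : Set X)

theorem ZZ_le {X : Type*} [Group X] (R : Subgroup X) : ZZ R ≤ R := inf_le_left

theorem ZZ_map {X Y : Type*} [Group X] [Group Y] {R : Subgroup X} (f : X →* Y)
    (hf : Set.InjOn f (R : Set X)) : ZZ (R.map f) = (ZZ R).map f := by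
  ext y
  constructor
  · rintro ⟨⟨x, hx, rfl⟩, h2⟩
    refine ⟨x, ⟨hx, ?_⟩, rfl⟩
    change x ∈ centralizer (R : Set X)
    rw [mem_centralizer_iff]
    intro r hr
    apply hf (R.mul_mem hr hx) (R.mul_mem hx hr)
    rw [map_mul, map_mul]
    exact mem_centralizer_iff.1 h2 _ ⟨r, hr, rfl⟩
  · rintro ⟨x, ⟨hx, h2⟩, rfl⟩
    refine ⟨⟨x, hx, rfl⟩, ?_⟩
    change f x ∈ centralizer ((R.map f : Subgroup Y) : Set Y)
    rw [mem_centralizer_iff]
    rintro _ ⟨r, hr, rfl⟩
    rw [← map_mul, ← map_mul, mem_centralizer_iff.1 h2 r hr]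

theorem normalizer_le_normalizer_ZZ {X : Type*} [Group X] (R : Subgroup X) :
    normalizer (R : Set X) ≤ normalizer (ZZ R : Set X) := by
  intro x hx
  rw [mem_normalizer_iff_map_conj_eq] at hx ⊢
  have h1 := ZZ_map (R := R) (MulAut.conj x).toMonoidHom (MulAut.conj x).injective.injOn
  exact h1.symm.trans (congrArg ZZ hx)

theorem ZZ_ne_bot {p : ℕ} [hp : Fact p.Prime] {X : Type*} [Group X] [Finite X]
    {R : Subgroup X} (hR : IsPGroup p R) (hne : R ≠ ⊥) : ZZ R ≠ ⊥ := by
  obtain ⟨z, hzR, hz1, -, hzc⟩ := exists_central_order_p hR hne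
  intro h
  apply hz1
  rw [← mem_bot, ← h]
  exact ⟨hzR, mem_centralizer_iff.2 hzc⟩

theorem NPC.of_le {p : ℕ} [Fact p.Prime] {X : Type*} [Group X] [Finite X] {A B : Subgroup X}
    (hAB : A ≤ B) (h : NPC p B) : NPC p A :=
  NPC.of_injective (inclusion hAB) (inclusion_injective hAB) h

/-- a `p'`-element `x` with `x v = m v x`, `m` of `p`-power order commuting with `x`: `m = 1`. -/
theorem eq_one_of_coprime_commute {X : Type*} [Group X] {x v m : X} {n : ℕ}
    (hxv : x * v = m * v * x) (hxm : x * m = m * x) (hm : m ^ n = 1)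
    (hxo : (orderOf x).Coprime n) : m = 1 := by
  have key : ∀ k : ℕ, x ^ k * v = m ^ k * v * x ^ k := by
    intro k
    induction k with
    | zero => simp
    | succ k ihk =>
      have hxmk : x * m ^ k = m ^ k * x := (show Commute x m from hxm).pow_right k
      calc x ^ (k + 1) * v = x * (x ^ k * v) := by rw [pow_succ']; group
        _ = x * (m ^ k * v * x ^ k) := by rw [ihk]
        _ = (x * m ^ k) * v * x ^ k := by group
        _ = m ^ k * (x * v) * x ^ k := by rw [hxmk]; group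
        _ = m ^ k * (m * v * x) * x ^ k := by rw [hxv]
        _ = m ^ (k + 1) * v * x ^ (k + 1) := by rw [pow_succ, pow_succ']; group
  have h5 := key (orderOf x)
  rw [pow_orderOf_eq_one, one_mul, mul_one] at h5
  have h6 : m ^ orderOf x = 1 := by
    have : m ^ orderOf x * v = 1 * v := by rw [← h5, one_mul]
    exact mul_right_cancel this
  have h7 : orderOf m ∣ Nat.gcd (orderOf x) n :=
    Nat.dvd_gcd (orderOf_dvd_of_pow_eq_one h6) (orderOf_dvd_of_pow_eq_one hm)
  rw [hxo, Nat.dvd_one, orderOf_eq_one_iff] at h7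
  exact h7

/-- a `p'`-element normalizing an abelian `p`-group and centralizing its elements of order `p`
centralizes it -/
theorem centralizes_of_centralizes_omega {p : ℕ} {X : Type*} [Group X]
    {V : Subgroup X} (hVp : IsPGroup p V) (hVc : ∀ a ∈ V, ∀ b ∈ V, a * b = b * a) {y : X}
    (hyV : ∀ v ∈ V, y * v * y⁻¹ ∈ V) (hyo : (orderOf y).Coprime p)
    (hy : ∀ v ∈ V, v ^ p = 1 → y * v = v * y) : ∀ v ∈ V, y * v = v * y := by
  have key : ∀ (k : ℕ), ∀ v ∈ V, v ^ p ^ k = 1 → y * v = v * y := by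
    intro k
    induction k with
    | zero =>
      intro v _ hv
      rw [pow_zero, pow_one] at hv
      rw [hv, mul_one, one_mul]
    | succ k ih =>
      intro v hv hvk
      have h1 : y * v ^ p = v ^ p * y := ih _ (V.pow_mem hv p) (by rw [← pow_mul, ← pow_succ']; exact hvk)
      obtain ⟨w, hw⟩ : ∃ w, w = y * v * y⁻¹ * v⁻¹ := ⟨_, rfl⟩
      have hwV : w ∈ V := hw ▸ V.mul_mem (hyV v hv) (V.inv_mem hv)
      have hwp : w ^ p = 1 := by
        rw [hw, (show Commute (y * v * y⁻¹) v⁻¹ from hVc _ (hyV v hv) _ (V.inv_mem hv)).mul_pow,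
          conj_pow, h1, mul_inv_cancel_right, inv_pow, mul_inv_cancel]
      have hyw := hy w hwV hwp
      have hyv : y * v = w * v * y := by rw [hw]; group
      have := eq_one_of_coprime_commute hyv hyw hwp hyo
      rw [hyv, this, one_mul]
  intro v hv
  obtain ⟨k, hk⟩ := hVp ⟨v, hv⟩
  exact key k v hv (congrArg Subtype.val hk)

/-- if `C(O_p) ≤ O_p` there is no nontrivial normal `p'`-subgroup -/
theorem pprime_normal_trivial {p : ℕ} [hp : Fact p.Prime] {X : Type*} [Group X] [Finite X]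
    (hC : centralizer (Cfsg.pCore p X : Set X) ≤ Cfsg.pCore p X) (D : Subgroup X) (hD : D.Normal)
    (hDc : (Nat.card D).Coprime p) : D = ⊥ := by
  have hHp : IsPGroup p (Cfsg.pCore p X) := Cfsg.Agent.Lib.Helper14.isPGroup_pCore
  have hHn : (Cfsg.pCore p X).Normal := inferInstance
  have hdisj : D ⊓ Cfsg.pCore p X = ⊥ := by
    obtain ⟨k, hk⟩ := IsPGroup.iff_card.1 hHp
    exact (disjoint_of_coprime_natCard (by rw [hk]; exact Nat.Coprime.pow_right k hDc)).eq_bot
  have h1 : D ≤ centralizer (Cfsg.pCore p X : Set X) := by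
    intro d hd
    rw [mem_centralizer_iff]
    intro h hh
    have h2 : d * h * d⁻¹ * h⁻¹ ∈ D ⊓ Cfsg.pCore p X := by
      constructor
      · have : d * h * d⁻¹ * h⁻¹ = d * (h * d⁻¹ * h⁻¹) := by group
        rw [this]
        exact D.mul_mem hd (hD.conj_mem _ (D.inv_mem hd) h)
      · exact (Cfsg.pCore p X).mul_mem (hHn.conj_mem h hh d) ((Cfsg.pCore p X).inv_mem hh)
    rw [hdisj, mem_bot, mul_inv_eq_one, mul_inv_eq_iff_eq_mul] at h2
    exact h2.symm
  rw [← le_bot_iff, ← hdisj]
  exact le_inf le_rfl (h1.trans hC)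

theorem JJ_normal_of_end {p : ℕ} [hp : Fact p.Prime] (hp2 : p ≠ 2) {e : ℕ} (he : e = 0 ∨ e = p)
    {X : Type u} [Group X] [Finite X] {K : Subgroup X} (hPAP : PAP p (Cfsg.pCore p X) K)
    (hC : centralizer (Cfsg.pCore p X : Set X) ≤ Cfsg.pCore p X) (T : Sylow p X)
    (hZ : NPC p (centralizer (ZZ (T : Subgroup X) : Set X))) : (JJ e (T : Subgroup X)).Normal := by
  have he' : e = 0 ∨ Odd e := by
    rcases he with h | h
    · exact Or.inl h
    · exact Or.inr (h ▸ hp.out.odd_of_ne_two hp2)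
  have hHp : IsPGroup p (Cfsg.pCore p X) := Cfsg.Agent.Lib.Helper14.isPGroup_pCore
  have hHT : Cfsg.pCore p X ≤ T := Cfsg.Agent.Lib.Helper14.pCore_le_sylow T
  obtain ⟨V₀, hV₀⟩ : ∃ V₀ : Subgroup X, V₀ = normalClosure (ZZ (T : Subgroup X) : Set X) := ⟨_, rfl⟩
  have hV₀n : V₀.Normal := hV₀ ▸ normalClosure_normal
  have hZV₀ : ZZ (T : Subgroup X) ≤ V₀ := hV₀ ▸ le_normalClosure
  have hV₀C : ∀ L : Subgroup X, L.Normal → IsPGroup p L → V₀ ≤ centralizer (L : Set X) := by
    intro L hLn hLp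
    rw [hV₀]
    apply normalClosure_le_normal
    have hLT : L ≤ T := hLp.le_sylow_of_normal T
    exact (inf_le_right : ZZ (T : Subgroup X) ≤ centralizer ((T : Subgroup X) : Set X)).trans
      (centralizer_le hLT)
  have hV₀H : V₀ ≤ Cfsg.pCore p X := (hV₀C _ inferInstance hHp).trans hC
  have hV₀c : ∀ a ∈ V₀, ∀ b ∈ V₀, a * b = b * a := fun a ha b hb =>
    mem_centralizer_iff.1 (hV₀C _ inferInstance hHp hb) a (hV₀H ha)
  let V : Subgroup X :=
    { carrier := {v | v ∈ V₀ ∧ v ^ e = 1}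
      one_mem' := ⟨V₀.one_mem, one_pow _⟩
      mul_mem' := by
        rintro a b ⟨ha, ha'⟩ ⟨hb, hb'⟩
        exact ⟨V₀.mul_mem ha hb, by
          rw [(show Commute a b from hV₀c a ha b hb).mul_pow, ha', hb', one_mul]⟩
      inv_mem' := by
        rintro a ⟨ha, ha'⟩
        exact ⟨V₀.inv_mem ha, by rw [inv_pow, ha', inv_one]⟩ }
  have hVn : V.Normal := ⟨by
    rintro n ⟨hn, hn'⟩ g
    exact ⟨hV₀n.conj_mem n hn g, by rw [conj_pow, hn', mul_one, mul_inv_cancel]⟩⟩
  have hVV₀ : V ≤ V₀ := fun v hv => hv.1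
  have hVH : V ≤ Cfsg.pCore p X := hVV₀.trans hV₀H
  have hVp : IsPGroup p V := hHp.to_le hVH
  have h0 := pprime_normal_trivial hC
  -- Claim 1
  have hcl1 : ∀ y ∈ centralizer (V : Set X), (orderOf y).Coprime p → y = 1 := by
    intro y hy hyo
    have hy0 : y ∈ centralizer (V₀ : Set X) := by
      rw [mem_centralizer_iff]
      intro v hv
      rcases he with rfl | rfl
      · exact mem_centralizer_iff.1 hy v ⟨hv, pow_zero v⟩
      · exact (centralizes_of_centralizes_omega (hHp.to_le hV₀H) hV₀c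
          (fun v hv => hV₀n.conj_mem v hv y) hyo
          (fun v hv hvp => (mem_centralizer_iff.1 hy v ⟨hv, hvp⟩).symm) v hv).symm
    obtain ⟨s, hs⟩ : ∃ s : Set X, s = {y | y ∈ centralizer (V₀ : Set X) ∧ (orderOf y).Coprime p} :=
      ⟨_, rfl⟩
    have hEn : (closure s).Normal := by
      apply Cfsg.Agent.Lib.Helper40.closure_normal_of_conj
      intro n y hy
      rw [hs] at hy ⊢
      refine ⟨(inferInstance : (centralizer (V₀ : Set X)).Normal).conj_mem y hy.1 n, ?_⟩
      rw [Cfsg.Agent.Lib.Helper40.orderOf_conj]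
      exact hy.2
    obtain ⟨D, hDn, hDc, k, hk⟩ := hZ
    have hED : closure s ≤ D.map (centralizer (ZZ (T : Subgroup X) : Set X)).subtype := by
      rw [closure_le]
      intro w hw
      rw [hs] at hw
      have hwZ : w ∈ centralizer (ZZ (T : Subgroup X) : Set X) := centralizer_le hZV₀ hw.1
      refine ⟨⟨w, hwZ⟩, ?_, rfl⟩
      apply mem_of_coprime_of_index_pow D hk
      rw [← Subgroup.orderOf_coe]
      exact hw.2
    have hEc : (Nat.card (closure s)).Coprime p := by
      refine Nat.Coprime.coprime_dvd_left (card_dvd_of_le hED) ?_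
      rwa [card_map_of_injective (subtype_injective _)]
    have hbot := h0 _ hEn hEc
    have hyE : y ∈ closure s := subset_closure (by rw [hs]; exact ⟨hy0, hyo⟩)
    rwa [hbot, mem_bot] at hyE
  have hC₁H : centralizer (V : Set X) ≤ Cfsg.pCore p X := by
    apply Cfsg.Agent.Lib.Helper14.le_pCore inferInstance
    rintro ⟨y, hy⟩
    obtain ⟨a, ha⟩ := Cfsg.Agent.Lib.Helper40.exists_pow_coprime p y
    exact ⟨a, Subtype.ext (hcl1 _ (pow_mem hy _) ha)⟩
  -- Claim 2
  have hcl2 : ∀ L : Subgroup X, L.Normal → (∀ l ∈ L, ∃ n : ℕ, l ^ p ^ n ∈ centralizer (V : Set X)) →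
      L ≤ centralizer (V : Set X) := by
    intro L hLn hL
    have hLp : IsPGroup p L := by
      rintro ⟨l, hl⟩
      obtain ⟨n, hn⟩ := hL l hl
      obtain ⟨m, hm⟩ := hHp ⟨_, hC₁H hn⟩
      refine ⟨n + m, Subtype.ext ?_⟩
      have := congrArg Subtype.val hm
      simpa [pow_add, pow_mul] using this
    rw [le_centralizer_iff]
    exact hVV₀.trans (hV₀C L hLn hLp)
  -- Claim 3
  have hcl3 : ∀ A ∈ AE e (T : Subgroup X), A ≤ centralizer (V : Set X) := by
    by_contra hcon
    push Not at hcon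
    obtain ⟨A₁, hA₁, hA₁C⟩ := hcon
    have hne : Nonempty {A : Subgroup X // A ∈ AE e (T : Subgroup X) ∧ ¬ A ≤ centralizer (V : Set X)} :=
      ⟨⟨A₁, hA₁, hA₁C⟩⟩
    obtain ⟨⟨A, hA, hAC⟩, hmax⟩ := Finite.exists_max
      (fun A : {A : Subgroup X // A ∈ AE e (T : Subgroup X) ∧ ¬ A ≤ centralizer (V : Set X)} =>
        Nat.card (A.1 ⊓ V : Subgroup X))
    by_cases hVA : V ≤ normalizer (A : Set X)
    · apply hAC
      intro a ha
      have hq := quad_of_normalizes hA.2.1.1 hVA ha
      exact hcl2 _ normalClosure_normal (hPAP.pstable hp2 hVn hVp (quadOn_of_commutator hq))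
        (subset_normalClosure (Set.mem_singleton a))
    · obtain ⟨A', hA'T, hA'PE, hA'card, hlt, hA'N⟩ := replacement hp2 T.2 (hVH.trans hHT)
        (fun s _ x hx => hVn.conj_mem x hx s) hA.1 he' hA.2.1
        (by
          intro x hx y hy
          rw [hV₀c x hx.1 y hy.1, mul_inv_cancel_right, mul_inv_cancel]
          exact A.one_mem) hVA
      have hA'AE : A' ∈ AE e (T : Subgroup X) :=
        ⟨hA'T, hA'PE, fun B hB hB' => hA'card ▸ hA.2.2 B hB hB'⟩
      have hA'C : A' ≤ centralizer (V : Set X) := by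
        by_contra h
        have h1 := hmax ⟨A', hA'AE, h⟩
        exact absurd (card_lt_card_of_lt hlt) (not_lt.2 h1)
      apply hVA
      refine le_trans ?_ hA'N
      intro v hv
      exact mem_of_commute hA'AE (hHT (hVH hv)) hv.2
        (fun a ha => (mem_centralizer_iff.1 (hA'C ha) v hv).symm)
  have h4 := JJ_eq_of_forall_le (hC₁H.trans hHT) hcl3
  rw [← h4, ← normalizer_eq_top_iff, eq_top_iff]
  refine le_trans ?_ (normalizer_le_normalizer_JJ e _)
  rw [normalizer_eq_top]

/-- Thompson's normal `p`-complement theorem (`p` odd): `N(J(P))` and `C(Z(P))` have normal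
`p`-complements, then so does `G`. -/
theorem npc_of_npc_JJ_ZZ {p : ℕ} [hp : Fact p.Prime] (hp2 : p ≠ 2) {e : ℕ}
    (he : e = 0 ∨ e = p) {G : Type u} [Group G] [Finite G] (P : Sylow p G)
    (hN : NPC p (normalizer (JJ e (P : Subgroup G) : Set G)))
    (hZ : NPC p (centralizer (ZZ (P : Subgroup G) : Set G))) : NPC p G := by
  have F : Frame p (fun (X : Type u) _ => True)
      (fun X _ R => NPC p (normalizer (JJ e R : Set X)) ∧ NPC p (centralizer (ZZ R : Set X))) :=
    { sub := fun _ _ _ _ => trivial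
      quot := fun _ _ _ _ _ => trivial
      loc := by
        intro X _ _ _ R hR h
        constructor
        · refine h _ (JJ_le e _) (JJ_ne_bot he R.2 hR) ?_
          intro Z _ _ i hi
          rw [← JJ_map i hi.injOn]
          exact normalizer_le_normalizer_JJ e _
        · refine NPC.of_le (centralizer_le_normalizer _) (h _ (ZZ_le _) (ZZ_ne_bot R.2 hR) ?_)
          intro Z _ _ i hi
          rw [← ZZ_map i hi.injOn]
          exact normalizer_le_normalizer_ZZ _
      res := by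
        intro X _ _ Y R hRY h
        constructor
        · apply npc_normalizer_of_injective Y.subtype Y.subtype_injective
          rw [← JJ_map Y.subtype Y.subtype_injective.injOn, subgroupOf_map_subtype,
            inf_of_le_left hRY]
          exact h.1
        · apply npc_centralizer_of_injective Y.subtype Y.subtype_injective
          rw [← ZZ_map Y.subtype Y.subtype_injective.injOn, subgroupOf_map_subtype,
            inf_of_le_left hRY]
          exact h.2
      pquot := by
        intro X _ _ D _ hD R h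
        rw [JJ_map _ (injOn_mk'_of_coprime D hD R.2), ZZ_map _ (injOn_mk'_of_coprime D hD R.2)]
        exact ⟨npc_normalizer_quot D hD (R.2.to_le (JJ_le e _)) h.1,
          npc_centralizer_quot D hD (R.2.to_le (ZZ_le _)) h.2⟩
      fin := by
        intro X _ _ _ hH hC hq hco
        obtain ⟨T⟩ : Nonempty (Sylow p X) := inferInstance
        obtain ⟨K, hPAP⟩ := exists_PAP (Cfsg.pCore p X) Cfsg.Agent.Lib.Helper14.isPGroup_pCore hq T
          (hco T)
        have hn := JJ_normal_of_end hp2 he hPAP hC T (hH T).2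
        exact NPC.of_eq_top (normalizer_eq_top_iff.2 hn) (hH T).1 }
  apply F.main _ G rfl trivial
  intro T
  obtain ⟨g, rfl⟩ := MulAction.exists_smul_eq G P T
  have h1 : ((g • P : Sylow p G) : Subgroup G) = (P : Subgroup G).map (MulAut.conj g).toMonoidHom := rfl
  rw [h1, JJ_map _ (MulAut.conj g).injective.injOn, ZZ_map _ (MulAut.conj g).injective.injOn,
    ← map_normalizer_eq_of_bijective _ (MulAut.conj g).bijective]
  refine ⟨NPC.of_mulEquiv (equivMapOfInjective _ _ (MulAut.conj g).injective) hN, ?_⟩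
  apply npc_centralizer_of_injective (MulAut.conj g⁻¹).toMonoidHom (MulAut.conj g⁻¹).injective
  rw [map_map]
  have h2 : (MulAut.conj g⁻¹).toMonoidHom.comp (MulAut.conj g).toMonoidHom = MonoidHom.id G := by
    ext x
    simp only [MonoidHom.comp_apply, MulEquiv.coe_toMonoidHom, MulAut.conj_apply, MonoidHom.id_apply]
    group
  rw [h2, map_id]
  exact hZ

end Cfsg.Agent.Lib.Helper62
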