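import Mathlib
import Cfsg.Agent.Lib.Helper99.SP8.Defs
import Cfsg.Agent.Lib.Helper99.PGB.Defs
import Cfsg.Agent.Lib.Helper99.PGB.TR
import Cfsg.Agent.Lib.Helper11.PGBADD
import Cfsg.Agent.Lib.Helper48.JordanForm
import Cfsg.Agent.Lib.Helper67.SP8MASCH

/-!
# Ladder SP8, rung TOP: removing the top Jordan blocks
-/

set_option autoImplicit false

universe u

namespace Cfsg.Agent.Lib.Helper62.SP8

open Module LinearMap Cfsg.Agent.Lib.Helper48 Cfsg.Agent.Lib.Helper99.SP8
  Cfsg.Agent.Lib.Helper99.PGB Cfsg.Agent.Lib.Helper11.PGB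

section basic

variable {F V : Type*} [Field F] [CharP F 2] [AddCommGroup V] [Module F V]
  (B : LinearMap.BilinForm F V) (halt : ∀ v, B v v = 0)

include halt in
theorem top_symm (x y : V) : B x y = B y x := by
  have h := halt (x + y)
  simp only [map_add, LinearMap.add_apply, halt, zero_add, add_zero] at h
  have h2 : B x y = - B y x := eq_neg_of_add_eq_zero_right h
  rw [h2, CharTwo.neg_eq]

variable {B} {u : End F V} (hu : IsoB B u)

include hu in
theorem top_adj1 (x y : V) : B ((u - 1) x) (u y) = B x ((u - 1) y) := by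
  simp only [LinearMap.sub_apply, Module.End.one_apply, map_sub]
  rw [hu x y]
  have : B x y - B x (u y) = -(B x (u y) - B x y) := by ring
  rw [this, CharTwo.neg_eq]

theorem top_comm_pow (b : ℕ) (z : V) : ((u - 1) ^ b) (u z) = u (((u - 1) ^ b) z) := by
  have h : Commute ((u - 1) ^ b) u :=
    (((Commute.refl u).sub_left (Commute.one_left u))).pow_left b
  have := congrArg (fun φ : End F V => φ z) h.eq
  simpa [Module.End.mul_apply] using this

variable (husurj : Function.Surjective u) {j : ℕ} (hN' : (u - 1) ^ (j + 1) = 0)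

include hu husurj hN' in
theorem top_K2 (a : ℕ) : ∀ (b : ℕ) (x y : V), j + 1 ≤ a + b →
    B (((u - 1) ^ a) x) (((u - 1) ^ b) y) = 0 := by
  induction a with
  | zero =>
    intro b x y h
    have h1 : (u - 1) ^ b = 0 := by
      obtain ⟨k, rfl⟩ : ∃ k, b = j + 1 + k := ⟨b - (j + 1), by omega⟩
      rw [pow_add, hN', zero_mul]
    rw [h1]
    simp
  | succ a ih =>
    intro b x y h
    obtain ⟨z, rfl⟩ := husurj y
    rw [top_comm_pow, pow_succ', Module.End.mul_apply, top_adj1 hu, ← Module.End.mul_apply,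
      ← pow_succ']
    exact ih (b + 1) x z (by omega)

include hN' in
theorem top_M_u (z : V) : ((u - 1) ^ j) (u z) = ((u - 1) ^ j) z := by
  have h1 : u z = (u - 1) z + z := by simp
  rw [h1, map_add, ← Module.End.mul_apply, ← pow_succ, hN']
  simp

include hu husurj hN' in
theorem top_K1 (a : ℕ) : ∀ (b : ℕ) (x y : V), a + b = j →
    B (((u - 1) ^ a) x) (((u - 1) ^ b) y) = B x (((u - 1) ^ j) y) := by
  induction a with
  | zero =>
    intro b x y h
    have : b = j := by omega
    subst this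
    simp
  | succ a ih =>
    intro b x y h
    obtain ⟨z, rfl⟩ := husurj y
    rw [top_comm_pow, pow_succ', Module.End.mul_apply, top_adj1 hu, ← Module.End.mul_apply,
      ← pow_succ', ih (b + 1) x z (by omega), top_M_u hN']

variable {s : End F V} (hs : IsoB B s) (hc : Commute s u)

include hc in
theorem top_s_comm (k : ℕ) (x : V) : s (((u - 1) ^ k) x) = ((u - 1) ^ k) (s x) := by
  have h : Commute s ((u - 1) ^ k) := ((hc.sub_right (Commute.one_right s))).pow_right k
  have := congrArg (fun φ : End F V => φ x) h.eq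
  simpa [Module.End.mul_apply] using this

include halt hu husurj hN' hs hc in
theorem top_alt (hssurj : Function.Surjective (s - 1 : End F V)) (x : V) : B x (((u - 1) ^ j) x) = 0 := by
  have hadd : ∀ a b : V, B (a + b) (((u - 1) ^ j) (a + b))
      = B a (((u - 1) ^ j) a) + B b (((u - 1) ^ j) b) := by
    intro a b
    have h1 : B b (((u - 1) ^ j) a) = B a (((u - 1) ^ j) b) := by
      rw [top_symm B halt]
      have := top_K1 hu husurj hN' j 0 a b (by omega)
      simpa using this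
    simp only [map_add, LinearMap.add_apply]
    rw [h1]
    have h2 := CharTwo.add_self_eq_zero (B a (((u - 1) ^ j) b))
    linear_combination h2
  obtain ⟨z, rfl⟩ := hssurj x
  have h1 : (s - 1) z = s z + (-z) := by simp [sub_eq_add_neg]
  rw [h1, hadd, ← top_s_comm hc, hs]
  simp only [map_neg, LinearMap.neg_apply, neg_neg]
  exact CharTwo.add_self_eq_zero _

end basic

section main

variable {F : Type u} [Field F] {V : Type u} [AddCommGroup V] [Module F V]

/-- the sum map `(c_t) ↦ ∑ N^t c_t`. -/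
noncomputable def topPhi (N : End F V) (C : Submodule F V) (j : ℕ) : (Fin (j + 1) → C) →ₗ[F] V :=
  ∑ t : Fin (j + 1), (N ^ (t : ℕ)) ∘ₗ C.subtype ∘ₗ LinearMap.proj t

theorem topPhi_apply (N : End F V) (C : Submodule F V) (j : ℕ) (c : Fin (j + 1) → C) :
    topPhi N C j c = ∑ t : Fin (j + 1), (N ^ (t : ℕ)) (c t : V) := by
  simp [topPhi, LinearMap.sum_apply]

theorem topPhi_single (N : End F V) (C : Submodule F V) (j : ℕ) (k : Fin (j + 1)) (x : C) :
    topPhi N C j (Pi.single k x) = (N ^ (k : ℕ)) (x : V) := by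
  classical
  rw [topPhi_apply, Finset.sum_eq_single k]
  · simp
  · intro b _ hb
    simp [Pi.single_eq_of_ne hb]
  · simp

theorem top_T (B : LinearMap.BilinForm F V) (N : End F V) (j : ℕ)
    (K1 : ∀ (a b : ℕ) (x y : V), a + b = j → B ((N ^ a) x) ((N ^ b) y) = B x ((N ^ j) y))
    (K2 : ∀ (a b : ℕ) (x y : V), j + 1 ≤ a + b → B ((N ^ a) x) ((N ^ b) y) = 0)
    (C : Submodule F V) (ndC : ∀ c ∈ C, (∀ c' ∈ C, B c ((N ^ j) c') = 0) → c = 0)
    (c : Fin (j + 1) → C) (hc : c ≠ 0) :
    ∃ y ∈ range (topPhi N C j), B (topPhi N C j c) y ≠ 0 := by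
  classical
  have hex : ∃ t : Fin (j + 1), c t ≠ 0 := by
    by_contra h
    push Not at h
    exact hc (funext h)
  obtain ⟨t0, ht0, hmin⟩ : ∃ t0 : Fin (j + 1), c t0 ≠ 0 ∧ ∀ t, t < t0 → c t = 0 := by
    obtain ⟨t0, ht0, hmin⟩ :=
      WellFounded.has_min (wellFounded_lt (α := Fin (j + 1))) {t | c t ≠ 0} hex
    exact ⟨t0, ht0, fun t ht => by_contra fun h => hmin t h ht⟩
  have hex2 : ∃ c' ∈ C, B (c t0 : V) ((N ^ j) c') ≠ 0 := by
    by_contra h
    push Not at h
    exact ht0 (Subtype.ext (ndC _ (c t0).2 h))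
  obtain ⟨c', hc', hne⟩ := hex2
  have ht0j := t0.2
  refine ⟨(N ^ (j - (t0 : ℕ))) c',
    ⟨Pi.single ⟨j - (t0 : ℕ), by omega⟩ ⟨c', hc'⟩, topPhi_single N C j _ _⟩, ?_⟩
  rw [topPhi_apply, map_sum, LinearMap.sum_apply, Finset.sum_eq_single t0]
  · rw [K1 _ _ _ _ (by omega)]
    exact hne
  · intro t _ ht
    rcases lt_or_gt_of_ne ht with h | h
    · rw [hmin t h]
      simp
    · have h2 : (t0 : ℕ) < (t : ℕ) := h
      exact K2 _ _ _ _ (by omega)
  · simp

theorem top_Vt_inv {u : End F V} (C : Submodule F V) (j : ℕ) (σ : End F V) (hσ : Commute σ u)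
    (hσC : ∀ c ∈ C, σ c ∈ C) : ∀ x ∈ range (topPhi (u - 1) C j), σ x ∈ range (topPhi (u - 1) C j) := by
  rintro _ ⟨c, rfl⟩
  refine ⟨fun t => ⟨σ (c t), hσC _ (c t).2⟩, ?_⟩
  rw [topPhi_apply, topPhi_apply, map_sum]
  refine Finset.sum_congr rfl fun t _ => ?_
  have h : Commute σ ((u - 1) ^ (t : ℕ)) := ((hσ.sub_right (Commute.one_right σ))).pow_right _
  have := congrArg (fun φ : End F V => φ (c t : V)) h.eq
  simpa [Module.End.mul_apply] using this.symm

theorem top_Vt_fix {u : End F V} (C : Submodule F V) (j : ℕ) (σ : End F V) (hσ : Commute σ u)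
    (hσC : ∀ c ∈ C, σ c = c) : ∀ x ∈ range (topPhi (u - 1) C j), σ x = x := by
  rintro _ ⟨c, rfl⟩
  rw [topPhi_apply, map_sum]
  refine Finset.sum_congr rfl fun t _ => ?_
  have h : Commute σ ((u - 1) ^ (t : ℕ)) := ((hσ.sub_right (Commute.one_right σ))).pow_right _
  have := congrArg (fun φ : End F V => φ (c t : V)) h.eq
  simp only [Module.End.mul_apply] at this
  rw [this, hσC _ (c t).2]

theorem top_pow_inv (s : End F V) (C : Submodule F V) (hC : ∀ c ∈ C, s c ∈ C) (k : ℕ) :
    ∀ c ∈ C, (s ^ k) c ∈ C := by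
  induction k with
  | zero => intro c hc; simpa using hc
  | succ k ih =>
    intro c hc
    rw [pow_succ', Module.End.mul_apply]
    exact hC _ (ih c hc)

end main

/-- TOP -/
theorem top_reduce {F : Type u} [Field F] [Fintype F] [CharP F 2] {V : Type u} [AddCommGroup V]
    [Module F V] [FiniteDimensional F V] (B : LinearMap.BilinForm F V) (halt : ∀ v, B v v = 0)
    (hnd : ∀ x, (∀ y, B x y = 0) → x = 0) {n m j : ℕ} (hdim : finrank F V = 2 * n)
    (s u : End F V) (hs : IsoB B s) (hu : IsoB B u) (hc : Commute s u) (hm : Odd m)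
    (hsord : ∀ t, s ^ t = 1 ↔ m ∣ t) (hfix : ∀ v, s v = v → v = 0) (hj : 1 ≤ j)
    (hN : (u - 1) ^ j ≠ 0) (hN' : (u - 1) ^ (j + 1) = 0) :
    ∃ (d : ℕ) (X : Type u) (_ : AddCommGroup X) (_ : Module F X) (_ : FiniteDimensional F X)
      (B' : LinearMap.BilinForm F X) (s' : End F X), d + j ≤ n ∧ finrank F X = 2 * d ∧
      (∀ v, B' v v = 0) ∧ (∀ x, (∀ y, B' x y = 0) → x = 0) ∧ IsoB B' s' ∧
      (∀ t, s' ^ t = 1 ↔ m ∣ t) ∧ (∀ v, s' v = v → v = 0) := by
  classical
  have hm0 : 0 < m := hm.pos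
  have hsm : s ^ m = 1 := (hsord m).2 dvd_rfl
  have hmF : (m : F) ≠ 0 := by
    obtain ⟨k, rfl⟩ := hm
    push_cast
    rw [CharTwo.two_eq_zero]
    simp
  have huinj : Function.Injective u := by
    rw [injective_iff_map_eq_zero]
    intro x hx
    apply hnd
    intro y
    rw [← hu x y, hx]
    simp
  have husurj : Function.Surjective u := LinearMap.injective_iff_surjective.1 huinj
  have hs1inj : Function.Injective (s - 1 : End F V) := by
    rw [injective_iff_map_eq_zero]
    intro x hx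
    apply hfix
    simpa [sub_eq_zero] using hx
  have hssurj : Function.Surjective (s - 1 : End F V) :=
    LinearMap.injective_iff_surjective.1 hs1inj
  have K1 := top_K1 hu husurj hN'
  have K2 := top_K2 hu husurj hN'
  have hAlt := top_alt halt hu husurj hN' hs hc hssurj
  have hsy := top_symm B halt
  obtain ⟨C, hCs, hCc⟩ := Cfsg.Agent.Lib.Helper67.SP8.maschke_op s hmF hsm (ker ((u - 1) ^ j)) (by
    intro y hy
    rw [LinearMap.mem_ker] at hy ⊢
    rw [← top_s_comm hc, hy, map_zero])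
  have ndC : ∀ c ∈ C, (∀ c' ∈ C, B c (((u - 1) ^ j) c') = 0) → c = 0 := by
    intro c hcC h
    have h1 : ((u - 1) ^ j) c = 0 := by
      apply hnd
      intro y
      have h2 := K1 j 0 c y (by omega)
      simp only [pow_zero, Module.End.one_apply] at h2
      rw [h2]
      have hy : y ∈ ker ((u - 1) ^ j) ⊔ C := by
        rw [hCc.sup_eq_top]; exact Submodule.mem_top
      obtain ⟨k, hk, c', hc', rfl⟩ := Submodule.mem_sup.1 hy
      rw [map_add, LinearMap.mem_ker.1 hk, zero_add]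
      exact h c' hc'
    have h3 : c ∈ ker ((u - 1) ^ j) ⊓ C := ⟨LinearMap.mem_ker.2 h1, hcC⟩
    rw [hCc.inf_eq_bot] at h3
    exact (Submodule.mem_bot F).1 h3
  have hT := top_T B (u - 1) j K1 K2 C ndC
  have hΦinj : Function.Injective (topPhi (u - 1) C j) := by
    rw [injective_iff_map_eq_zero]
    intro c h0
    by_contra hne
    obtain ⟨y, -, hy⟩ := hT c hne
    rw [h0] at hy
    simp at hy
  obtain ⟨Vt, hVt⟩ : ∃ Vt, Vt = range (topPhi (u - 1) C j) := ⟨_, rfl⟩
  have hdimVt : finrank F Vt = (j + 1) * finrank F C := by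
    rw [hVt, LinearMap.finrank_range_of_inj hΦinj, Module.finrank_pi_fintype]
    simp
  have hVnd : ∀ x ∈ Vt, (∀ y ∈ Vt, B x y = 0) → x = 0 := by
    intro x hx h
    rw [hVt] at hx
    obtain ⟨c, rfl⟩ := hx
    by_contra hne
    have hc0 : c ≠ 0 := by
      rintro rfl
      simp at hne
    obtain ⟨y, hy, hy2⟩ := hT c hc0
    exact hy2 (h y (hVt ▸ hy))
  have hres : (B.restrict Vt).Nondegenerate := by
    refine ⟨fun x hx => ?_, fun x hx => ?_⟩
    · exact Subtype.ext (hVnd x.1 x.2 fun y hy => hx ⟨y, hy⟩)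
    · exact Subtype.ext (hVnd x.1 x.2 fun y hy => by
        rw [hsy]; exact hx ⟨y, hy⟩)
  have hrefl : B.IsRefl := LinearMap.BilinForm.IsAlt.isRefl halt
  have hcompl := LinearMap.BilinForm.isCompl_orthogonal_of_restrict_nondegenerate hrefl hres
  obtain ⟨W, hW⟩ : ∃ W, W = B.orthogonal Vt := ⟨_, rfl⟩
  rw [← hW] at hcompl
  have hWmem : ∀ w ∈ W, ∀ a ∈ Vt, B a w = 0 := by
    intro w hw a ha
    rw [hW] at hw
    exact LinearMap.BilinForm.mem_orthogonal_iff.1 hw a ha
  have hdec : ∀ y : V, ∃ a ∈ Vt, ∃ w ∈ W, a + w = y := by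
    intro y
    have hy : y ∈ Vt ⊔ W := by
      rw [hcompl.sup_eq_top]; exact Submodule.mem_top
    exact Submodule.mem_sup.1 hy
  have hWnd : ∀ x ∈ W, (∀ y ∈ W, B x y = 0) → x = 0 := by
    intro x hx h
    apply hnd
    intro y
    obtain ⟨a, ha, w, hw, rfl⟩ := hdec y
    rw [map_add, h w hw, hsy, hWmem x hx a ha, add_zero]
  have hVts : ∀ k : ℕ, ∀ x ∈ Vt, (s ^ k) x ∈ Vt := by
    intro k x hx
    rw [hVt] at hx ⊢
    exact top_Vt_inv C j (s ^ k) (hc.pow_left k) (top_pow_inv s C hCs k) x hx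
  have hWs : ∀ w ∈ W, s w ∈ W := by
    intro w hw
    rw [hW]
    refine LinearMap.BilinForm.mem_orthogonal_iff.2 fun a ha => ?_
    have h1 : a = s ((s ^ (m - 1)) a) := by
      rw [← Module.End.mul_apply, ← pow_succ', Nat.sub_add_cancel hm0, hsm, Module.End.one_apply]
    show B a (s w) = 0
    rw [h1, hs]
    exact hWmem w hw _ (hVts _ a ha)
  -- the form on `C`
  obtain ⟨S₁, hS₁⟩ : ∃ S₁ : LinearMap.BilinForm F C,
      ∀ c c' : C, S₁ c c' = B (c : V) (((u - 1) ^ j) (c' : V)) :=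
    ⟨B.comp C.subtype (((u - 1) ^ j) ∘ₗ C.subtype), fun _ _ => rfl⟩
  have hS₁alt : ∀ c, S₁ c c = 0 := fun c => by rw [hS₁]; exact hAlt _
  have hS₁nd : ∀ x, (∀ y, S₁ x y = 0) → x = 0 := by
    intro x hx
    exact Subtype.ext (ndC x.1 x.2 fun c' hc' => by rw [← hS₁ x ⟨c', hc'⟩]; exact hx _)
  have hS₁iso : IsoB S₁ (s.restrict hCs : End F C) := by
    intro x y
    rw [hS₁, hS₁]
    show B (s x) (((u - 1) ^ j) (s y)) = _
    rw [← top_s_comm hc, hs]
  have hS₂nd : ∀ x, (∀ y, (B.restrict W) x y = 0) → x = 0 := by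
    intro x hx
    exact Subtype.ext (hWnd x.1 x.2 fun y hy => hx ⟨y, hy⟩)
  have hS₂iso : IsoB (B.restrict W) (s.restrict hWs : End F W) := fun x y => hs _ _
  -- dimensions
  have hCeven : Even (finrank F C) := by
    have h1 := even_finrank_add_finrank_ker_of_isAlt S₁ hS₁alt
    have h2 : ker S₁ = ⊥ := by
      rw [LinearMap.ker_eq_bot']
      intro x hx
      apply hS₁nd
      intro y
      rw [hx]
      rfl
    rwa [h2, finrank_bot, add_zero] at h1
  have hCpos : finrank F C ≠ 0 := by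
    intro h0
    have hCbot : C = ⊥ := Submodule.finrank_eq_zero.1 h0
    apply hN
    have h1 : ker ((u - 1) ^ j) = ⊤ := by
      have := hCc.sup_eq_top
      rwa [hCbot, sup_bot_eq] at this
    exact LinearMap.ker_eq_top.1 h1
  have hsum : finrank F Vt + finrank F W = 2 * n := by
    rw [← hdim]; exact Submodule.finrank_add_eq_of_isCompl hcompl
  obtain ⟨r, hr⟩ := hCeven
  have hr1 : 1 ≤ r := by omega
  obtain ⟨P, hP⟩ : ∃ P, P = (j + 1) * r := ⟨_, rfl⟩
  have hP2 : finrank F Vt = P + P := by rw [hdimVt, hr, hP]; ring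
  have hP3 : r + j ≤ P := by
    rw [hP]
    nlinarith
  refine ⟨r + (n - P), C × W, inferInstance, inferInstance, inferInstance,
    add_form S₁ (B.restrict W),
    (LinearMap.prodMap (s.restrict hCs) (s.restrict hWs) : End F (C × W)), by omega, ?_, ?_,
    add_nondeg hS₁nd hS₂nd, add_iso hS₁iso hS₂iso, ?_, ?_⟩
  · rw [finrank_prod, hr]
    omega
  · intro v
    rw [add_form_apply, hS₁alt]
    show 0 + B _ _ = 0
    rw [halt, add_zero]
  · intro t
    rw [prodMap_pow', add_prodMap_eq_one, restrict_pow_eq_one_iff, restrict_pow_eq_one_iff,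
      ← hsord]
    constructor
    · rintro ⟨h1, h2⟩
      apply LinearMap.ext
      intro y
      obtain ⟨a, ha, w, hw, rfl⟩ := hdec y
      rw [map_add, h2 w hw, Module.End.one_apply]
      congr 1
      rw [hVt] at ha
      exact top_Vt_fix C j (s ^ t) (hc.pow_left t) h1 a ha
    · intro h
      rw [h]
      exact ⟨fun _ _ => rfl, fun _ _ => rfl⟩
  · rintro ⟨c, w⟩ h
    have h1 : s (c : V) = c := congrArg (fun z : C × W => (z.1 : V)) h
    have h2 : s (w : V) = w := congrArg (fun z : C × W => (z.2 : V)) h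
    have h3 : c = 0 := Subtype.ext (hfix _ h1)
    have h4 : w = 0 := Subtype.ext (hfix _ h2)
    rw [h3, h4]
    rfl

end Cfsg.Agent.Lib.Helper62.SP8
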