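import Mathlib
import Cfsg.Agent.Lib.Helper99.SP8.Defs
import Cfsg.Agent.Lib.Helper99.PGB.Defs
import Cfsg.Agent.Lib.Helper48.JordanForm
import Cfsg.Agent.Lib.Helper17.SympCoord

/-!
# Ladder SP8, rung UQ: an invariant quadratic form for a fixed-point-free symplectic isometry
(characteristic two)
-/

set_option autoImplicit false

universe u

namespace Cfsg.Agent.Lib.Helper62.SP8

open Module LinearMap QuadraticMap Cfsg.Agent.Lib.Helper48 Cfsg.Agent.Lib.Helper17
  Cfsg.Agent.Lib.Helper99.SP8 Cfsg.Agent.Lib.Helper99.PGB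

/-- some quadratic form polarising to a given alternating form (characteristic two). -/
theorem uq_exists_Q0 {F V : Type*} [Field F] [CharP F 2] [AddCommGroup V] [Module F V]
    [FiniteDimensional F V] (B : LinearMap.BilinForm F V) (halt : ∀ v, B v v = 0)
    (hnd : ∀ x, (∀ y, B x y = 0) → x = 0) :
    ∃ Q : QuadraticForm F V, ∀ x y, polar Q x y = B x y := by
  classical
  have heven : Even (finrank F V) := by
    have h1 := even_finrank_add_finrank_ker_of_isAlt B halt
    have h2 : ker B = ⊥ := by
      rw [LinearMap.ker_eq_bot']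
      intro x hx
      apply hnd
      intro y
      rw [hx]
      rfl
    rwa [h2, finrank_bot, add_zero] at h1
  obtain ⟨k, hk⟩ := heven
  obtain ⟨Φ, hΦ⟩ := exists_symp_coords B halt hnd (k := k) (by omega)
  let A0 : LinearMap.BilinForm F (Fin k ⊕ Fin k → F) :=
    ∑ i : Fin k, LinearMap.BilinForm.linMulLin (LinearMap.proj (Sum.inr i))
      (LinearMap.proj (Sum.inl i))
  have hA0 : ∀ x y, A0 x y = ∑ i : Fin k, x (Sum.inr i) * y (Sum.inl i) := by
    intro x y
    simp [A0, LinearMap.sum_apply]
  let A : LinearMap.BilinForm F V := A0.comp Φ.symm.toLinearMap Φ.symm.toLinearMap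
  have hA : ∀ x y, A x y = A0 (Φ.symm x) (Φ.symm y) := fun _ _ => rfl
  refine ⟨LinearMap.BilinMap.toQuadraticMap A, fun x y => ?_⟩
  rw [LinearMap.BilinMap.polar_toQuadraticMap, hA, hA, hA0, hA0]
  have h1 := hΦ (Φ.symm x) (Φ.symm y)
  rw [LinearEquiv.apply_symm_apply, LinearEquiv.apply_symm_apply, sympForm_eq_sum] at h1
  rw [h1, ← Finset.sum_add_distrib]
  refine Finset.sum_congr rfl fun i _ => ?_
  rw [sub_eq_add_neg, CharTwo.neg_eq]
  ring

/-- UQ -/
theorem exists_quad {F V : Type*} [Field F] [Fintype F] [CharP F 2] [AddCommGroup V] [Module F V]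
    [FiniteDimensional F V] (B : LinearMap.BilinForm F V) (halt : ∀ v, B v v = 0)
    (hnd : ∀ x, (∀ y, B x y = 0) → x = 0) (T : End F V) (hT : IsoB B T)
    (hfix : ∀ v, T v = v → v = 0) :
    ∃ Q : QuadraticForm F V, (∀ x y, polar Q x y = B x y) ∧ ∀ v, Q (T v) = Q v := by
  classical
  haveI : ExpChar F 2 := ExpChar.prime Nat.prime_two
  obtain ⟨Q0, hQ0⟩ := uq_exists_Q0 B halt hnd
  have hQadd : ∀ x y, Q0 (x + y) = Q0 x + Q0 y + B x y := by
    intro x y
    rw [← hQ0 x y, QuadraticMap.polar]
    ring
  let ψ : V →ₗ[F] F :=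
    { toFun := fun v => (frobeniusEquiv F 2).symm (Q0 (T v) - Q0 v)
      map_add' := by
        intro x y
        rw [← map_add]
        congr 1
        rw [map_add, hQadd, hQadd, hT x y]
        ring
      map_smul' := by
        intro a x
        rw [map_smul, QuadraticMap.map_smul, QuadraticMap.map_smul, RingHom.id_apply, smul_eq_mul,
          smul_eq_mul, smul_eq_mul, ← mul_sub, map_mul, ← pow_two, frobeniusEquiv_symm_pow] }
  have hψ : ∀ v, ψ v ^ 2 = Q0 (T v) - Q0 v := fun v => frobeniusEquiv_symm_pow_p F 2 _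
  have hinj : Function.Injective (T - 1 : End F V) := by
    rw [injective_iff_map_eq_zero]
    intro x hx
    apply hfix
    simpa [sub_eq_zero] using hx
  have hsurj : Function.Surjective (T - 1 : End F V) := LinearMap.injective_iff_surjective.1 hinj
  let e : V ≃ₗ[F] V := LinearEquiv.ofBijective (T - 1 : End F V) ⟨hinj, hsurj⟩
  let l : V →ₗ[F] F := ψ ∘ₗ e.symm.toLinearMap
  have hl : ∀ v, l (T v) - l v = ψ v := by
    intro v
    rw [← map_sub]
    have h1 : T v - v = e v := by
      show T v - v = (T - 1 : End F V) v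
      simp
    rw [h1]
    show ψ (e.symm (e v)) = ψ v
    rw [LinearEquiv.symm_apply_apply]
  refine ⟨Q0 + QuadraticMap.linMulLin l l, fun x y => ?_, fun v => ?_⟩
  · have h1 : polar (⇑(Q0 + QuadraticMap.linMulLin l l)) x y
        = polar Q0 x y + polar (QuadraticMap.linMulLin l l) x y := by
      rw [FunLike.coe_add, polar_add]
    rw [h1, hQ0]
    have h2 : polar (QuadraticMap.linMulLin l l) x y = 0 := by
      simp only [QuadraticMap.polar, QuadraticMap.linMulLin_apply, map_add]
      have := CharTwo.add_self_eq_zero (l x * l y)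
      linear_combination this
    rw [h2, add_zero]
  · rw [_root_.add_apply, _root_.add_apply, QuadraticMap.linMulLin_apply,
      QuadraticMap.linMulLin_apply]
    have h1 := hψ v
    rw [← hl v] at h1
    have h2 := CharTwo.add_self_eq_zero (l (T v) * l v)
    have h5 := CharTwo.add_self_eq_zero (l (T v) * l (T v))
    linear_combination (-1 : F) * h1 + h5 - h2

end Cfsg.Agent.Lib.Helper62.SP8
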