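import Mathlib
import Cfsg.Agent.Lib.Helper62.ZJComplement

set_option autoImplicit false

namespace Cfsg.Agent.Lib.Helper62

open Subgroup Cfsg.Agent.Lib.Helper77 Cfsg.Agent.Lib.Helper15.ZJ

universe u

/-- a nonabelian simple group is not a `p`-group -/
theorem not_isPGroup_of_simple {T : Type*} [Group T] [Finite T] [hT : IsSimpleGroup T]
    (hnc : ∃ a b : T, a * b ≠ b * a) (p : ℕ) [Fact p.Prime] : ¬ IsPGroup p T := by
  intro h
  have h1 : Nontrivial (center T) := h.center_nontrivial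
  rcases hT.eq_bot_or_eq_top_of_normal (center T) inferInstance with h2 | h2
  · exact (nontrivial_iff_ne_bot _).1 h1 h2
  · obtain ⟨a, b, hab⟩ := hnc
    apply hab
    have : b ∈ center T := h2 ▸ mem_top b
    exact (mem_center_iff.1 this a)

/-- a nonabelian simple group has no normal `p`-complement for `p` dividing the order -/
theorem not_npc_of_simple {T : Type*} [Group T] [Finite T] [hT : IsSimpleGroup T]
    (hnc : ∃ a b : T, a * b ≠ b * a) (p : ℕ) [hp : Fact p.Prime] (hdvd : p ∣ Nat.card T) :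
    ¬ NPC p T := by
  rintro ⟨K, hKn, hK, k, hk⟩
  rcases hT.eq_bot_or_eq_top_of_normal K hKn with h | h
  · subst h
    rw [index_bot] at hk
    exact not_isPGroup_of_simple hnc p (IsPGroup.of_card hk)
  · subst h
    rw [card_top] at hK
    exact hp.out.one_lt.ne' (Nat.eq_one_of_dvd_coprimes hK hdvd dvd_rfl)

/-- Burnside: `N(P) ≤ C(P)` gives a normal `p`-complement -/
theorem npc_of_burnside {T : Type*} [Group T] [Finite T] {p : ℕ} [hp : Fact p.Prime] (P : Sylow p T)
    (hP : normalizer ((P : Subgroup T) : Set T) ≤ centralizer ((P : Subgroup T) : Set T)) :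
    NPC p T := by
  have h1 := MonoidHom.ker_transferSylow_isComplement' P hP
  refine ⟨(MonoidHom.transferSylow P hP).ker, inferInstance, ?_, ?_⟩
  · exact (Nat.Coprime.symm ((Nat.Prime.coprime_iff_not_dvd hp.out).2
      (MonoidHom.not_dvd_card_ker_transferSylow P hP)))
  · obtain ⟨k, hk⟩ := (IsPGroup.iff_card.1 P.2)
    exact ⟨k, by rw [h1.symm.index_eq_card, hk]⟩

section diag

variable {G : Type*} {T : Type u} [Group G] [Finite G] [Group T] [Finite T] [hT : IsSimpleGroup T]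
  (hnc : ∃ a b : T, a * b ≠ b * a) (H : Subgroup G) (δ : T →* G) (hδ : Function.Injective δ)
  (hδH : ∀ t, δ t ∈ H) (hn : ∀ h ∈ H, ∀ t, ∃ t', h * δ t * h⁻¹ = δ t') (S : T → Subgroup G)
  (P1 : ∀ t, t ≠ 1 → S t ≤ H ∧ S t ≠ H ∧ ∀ L : Subgroup G, S t ≤ L → L ≤ H → L = S t ∨ L = H)
  (P2 : ∀ t, t ≠ 1 → ∀ h ∈ S t, h * δ t * h⁻¹ = δ t ∨ h * δ t * h⁻¹ = δ t⁻¹)
  (P3 : ∀ t, t ≠ 1 → ∀ u, δ u ∈ S t ↔ u * t = t * u)
  (P4 : ∀ t, t ≠ 1 → ∀ k : ℕ, t ^ k ≠ 1 → S t ≤ S (t ^ k))

include hδ hδH P1 P3 hT in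
/-- canonical subgroups have small normalizers -/
theorem diag_canon {t : T} (ht : t ≠ 1) (U : Subgroup T) (hU0 : U ≠ ⊥) (hU1 : U ≠ ⊤)
    (hS : S t ≤ normalizer ((U.map δ : Subgroup G) : Set G)) {u : T}
    (hu : u ∈ normalizer (U : Set T)) : u * t = t * u := by
  obtain ⟨h1, h2, h3⟩ := P1 t ht
  rcases h3 (H ⊓ normalizer ((U.map δ : Subgroup G) : Set G)) (le_inf h1 hS) inf_le_left with h | h
  · rw [← P3 t ht, ← h]
    exact ⟨hδH u, le_normalizer_map δ ⟨u, hu, rfl⟩⟩
  · exfalso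
    have hUn : U.Normal := by
      constructor
      intro x hx g
      have h4 : δ g ∈ normalizer ((U.map δ : Subgroup G) : Set G) := by
        have : δ g ∈ H ⊓ normalizer ((U.map δ : Subgroup G) : Set G) := by
          rw [h]
          exact hδH g
        exact this.2
      obtain ⟨y, hy, hyx⟩ := (mem_normalizer_iff.1 h4 (δ x)).1 ⟨x, hx, rfl⟩
      have : y = g * x * g⁻¹ := hδ (by rw [hyx, map_mul, map_mul, map_inv])
      exact this ▸ hy
    rcases hT.eq_bot_or_eq_top_of_normal U hUn with h5 | h5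
    · exact hU0 h5
    · exact hU1 h5

include P1 P4 in
theorem diag_S_pow {t : T} (ht : t ≠ 1) {k : ℕ} (hk : t ^ k ≠ 1) : S (t ^ k) = S t := by
  obtain ⟨-, -, h3⟩ := P1 t ht
  obtain ⟨g1, g2, -⟩ := P1 _ hk
  rcases h3 _ (P4 t ht k hk) g1 with h | h
  · exact h
  · exact absurd h g2

include P1 P4 in
theorem diag_S_coprime {x y : T} (hx : x ≠ 1) (hy : y ≠ 1) (hxy : x * y = y * x)
    (hco : (orderOf x).Coprime (orderOf y)) : S x = S y := by
  have key : ∀ {x y : T}, x ≠ 1 → y ≠ 1 → x * y = y * x → (orderOf x).Coprime (orderOf y) →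
      x * y ≠ 1 ∧ S (x * y) = S x := by
    intro x y hx hy hxy hco
    have h1 : (x * y) ^ orderOf y = x ^ orderOf y := by
      rw [(show Commute x y from hxy).mul_pow, pow_orderOf_eq_one, mul_one]
    have h2 : x ^ orderOf y ≠ 1 := by
      intro h
      have h3 := orderOf_dvd_of_pow_eq_one h
      have h4 : orderOf x = 1 := Nat.eq_one_of_dvd_coprimes hco dvd_rfl h3
      exact hx (orderOf_eq_one_iff.1 h4)
    have h5 : x * y ≠ 1 := by
      intro h
      rw [h, one_pow] at h1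
      exact h2 h1.symm
    refine ⟨h5, ?_⟩
    rw [← diag_S_pow H S P1 P4 h5 (h1 ▸ h2), h1, diag_S_pow H S P1 P4 hx h2]
  rw [← (key hx hy hxy hco).2, hxy, (key hy hx hxy.symm hco.symm).2]

include hnc hδ hδH hn P1 P2 P3 P4 in
theorem no_diag : False := by
  -- an odd prime divisor
  obtain ⟨p, hp, hpd, hp2⟩ : ∃ p : ℕ, p.Prime ∧ p ∣ Nat.card T ∧ p ≠ 2 := by
    by_contra hcon
    push Not at hcon
    have : Fact (Nat.Prime 2) := ⟨Nat.prime_two⟩
    apply not_isPGroup_of_simple hnc 2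
    have h1 : Nat.card T ≠ 0 := Nat.card_pos.ne'
    have h2 : Nat.card T = 2 ^ (Nat.card T).primeFactorsList.length :=
      Nat.eq_prime_pow_of_unique_prime_dvd h1 (fun {d} hd hdd => hcon d hd hdd)
    exact IsPGroup.of_card h2
  have : Fact p.Prime := ⟨hp⟩
  obtain ⟨P⟩ : Nonempty (Sylow p T) := inferInstance
  have hPne : (P : Subgroup T) ≠ ⊥ := by
    intro h
    have h1 := P.card_eq_multiplicity
    rw [h, card_bot] at h1
    have h2 : (Nat.card T).factorization p = 0 := by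
      by_contra h3
      have : 1 < p ^ (Nat.card T).factorization p := Nat.one_lt_pow h3 hp.one_lt
      omega
    rcases (Nat.factorization_eq_zero_iff _ _).1 h2 with h3 | h3 | h3
    · exact h3 hp
    · exact h3 hpd
    · exact Nat.card_pos.ne' h3
  obtain ⟨z, hzP, hz1, hzp, hzc⟩ := exists_central_order_p P.2 hPne
  obtain ⟨C, hC⟩ : ∃ C : Subgroup T, C = centralizer {z} := ⟨_, rfl⟩
  have memC : ∀ u, u ∈ C ↔ u * z = z * u := by
    intro u
    rw [hC, mem_centralizer_singleton_iff]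
  have hPC : (P : Subgroup T) ≤ C := fun r hr => (memC r).2 (hzc r hr)
  have hC0 : C ≠ ⊥ := fun h => hPne (le_bot_iff.1 (h ▸ hPC))
  have hC1 : C ≠ ⊤ := by
    intro h
    have hzcen : z ∈ center T := by
      rw [mem_center_iff]
      intro g
      exact (memC g).1 (h ▸ mem_top g)
    rcases hT.eq_bot_or_eq_top_of_normal (center T) inferInstance with h2 | h2
    · exact hz1 ((mem_bot).1 (h2 ▸ hzcen))
    · obtain ⟨a, b, hab⟩ := hnc
      apply hab
      have : b ∈ center T := h2 ▸ mem_top b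
      exact (mem_center_iff.1 this a)
  -- `S z` normalizes the image of `C`
  have hSC : S z ≤ normalizer ((C.map δ : Subgroup G) : Set G) := by
    apply normalizer_of_conj'
    rintro h hh _ ⟨c, hc, rfl⟩
    obtain ⟨c', hc'⟩ := hn h ((P1 z hz1).1 hh) c
    refine ⟨c', ?_, hc'.symm⟩
    change c ∈ C at hc
    change c' ∈ C
    rw [memC] at hc ⊢
    apply hδ
    have e1 : δ c * δ z = δ z * δ c := by rw [← map_mul, ← map_mul, hc]
    have e2 : (h * δ c * h⁻¹) * (h * δ z * h⁻¹) = (h * δ z * h⁻¹) * (h * δ c * h⁻¹) := by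
      calc (h * δ c * h⁻¹) * (h * δ z * h⁻¹) = h * (δ c * δ z) * h⁻¹ := by group
        _ = h * (δ z * δ c) * h⁻¹ := by rw [e1]
        _ = _ := by group
    rw [map_mul, map_mul, ← hc']
    rcases P2 z hz1 h hh with h3 | h3
    · rw [h3] at e2
      exact e2
    · rw [h3, map_inv] at e2
      have : Commute (h * δ c * h⁻¹) (δ z)⁻¹ := e2
      exact (Commute.inv_right_iff.1 this).eq
  have hNC : ∀ u, u ∈ normalizer (C : Set T) → u ∈ C := fun u hu =>
    (memC u).2 (diag_canon H δ hδ hδH S P1 P3 hz1 C hC0 hC1 hSC hu)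
  by_cases hCp : IsPGroup p C
  · -- `C = P`
    have hCP : C = P := (P.3 hCp hPC)
    have hU0 : ZE 0 (P : Subgroup T) ≠ ⊥ := ZE_ne_bot (Or.inl rfl) P.2 hPne
    have hU1 : ZE 0 (P : Subgroup T) ≠ ⊤ := by
      intro h
      apply hC1
      rw [eq_top_iff, ← h, hCP]
      exact ZE_le 0 _
    have hSU : S z ≤ normalizer (((ZE 0 (P : Subgroup T)).map δ : Subgroup G) : Set G) := by
      rw [← ZE_map δ hδ.injOn, ← hCP]
      exact hSC.trans (normalizer_le_normalizer_ZE 0 _)
    have hNU : normalizer (ZE 0 (P : Subgroup T) : Set T) ≤ P := by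
      intro u hu
      rw [← hCP, memC]
      exact diag_canon H δ hδ hδH S P1 P3 hz1 _ hU0 hU1 hSU hu
    exact not_npc_of_simple hnc p hpd
      (npc_of_npc_normalizer_ZE hp2 (Or.inl rfl) P (NPC.of_isPGroup (P.2.to_le hNU)))
  · -- a `p'`-element in `C`
    obtain ⟨q, hq, hqd, hqp⟩ : ∃ q : ℕ, q.Prime ∧ q ∣ Nat.card C ∧ q ≠ p := by
      by_contra hcon
      push Not at hcon
      apply hCp
      have h1 : Nat.card C ≠ 0 := Nat.card_pos.ne'
      exact IsPGroup.of_card (Nat.eq_prime_pow_of_unique_prime_dvd h1 (fun {d} hd hdd => hcon d hd hdd))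
    have : Fact q.Prime := ⟨hq⟩
    obtain ⟨y', hy'⟩ := exists_prime_orderOf_dvd_card' q hqd
    obtain ⟨y, hy⟩ : ∃ y : T, y = y'.1 := ⟨_, rfl⟩
    have hyC : y ∈ C := hy ▸ y'.2
    have hyo : orderOf y = q := by rw [hy, orderOf_coe, hy']
    have hy1 : y ≠ 1 := by
      intro h
      rw [h, orderOf_one] at hyo
      exact hq.one_lt.ne hyo
    have hzo : orderOf z = p := orderOf_eq_prime hzp hz1
    have hSzy : S z = S y := by
      apply diag_S_coprime H S P1 P4 hz1 hy1 ((memC y).1 hyC).symm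
      rw [hzo, hyo]
      exact (Nat.coprime_primes hp hq).2 hqp.symm
    have hall : ∀ w ∈ C, w ≠ 1 → S w = S z := by
      intro w hw hw1
      have ho1 : orderOf w ≠ 1 := fun h => hw1 (orderOf_eq_one_iff.1 h)
      obtain ⟨r, hr⟩ : ∃ r, r = (orderOf w).minFac := ⟨_, rfl⟩
      have hrp : r.Prime := hr ▸ Nat.minFac_prime ho1
      have hrd : r ∣ orderOf w := hr ▸ Nat.minFac_dvd _
      obtain ⟨m, hm⟩ := hrd
      have hm0 : m ≠ 0 := by
        rintro rfl
        rw [mul_zero] at hm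
        exact (orderOf_pos w).ne' hm
      have hw0o : orderOf (w ^ m) = r := by
        rw [orderOf_pow_of_dvd hm0 ⟨r, by rw [hm, mul_comm]⟩, hm, Nat.mul_div_cancel _ (Nat.pos_of_ne_zero hm0)]
      have hw01 : w ^ m ≠ 1 := by
        intro h
        rw [h, orderOf_one] at hw0o
        exact hrp.one_lt.ne hw0o
      rw [← diag_S_pow H S P1 P4 hw1 hw01]
      have hw0C : w ^ m ∈ C := C.pow_mem hw m
      by_cases hrp' : r = p
      · rw [hSzy]
        apply diag_S_coprime H S P1 P4 hw01 hy1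
        · rw [← P3 y hy1, ← hSzy, P3 z hz1]
          exact (memC _).1 hw0C
        · rw [hw0o, hyo, hrp']
          exact (Nat.coprime_primes hp hq).2 hqp.symm
      · apply diag_S_coprime H S P1 P4 hw01 hz1 ((memC _).1 hw0C)
        rw [hw0o, hzo]
        exact (Nat.coprime_primes hrp hp).2 hrp'
    have hCab : ∀ a ∈ C, ∀ b ∈ C, a * b = b * a := by
      intro a ha b hb
      by_cases hb1 : b = 1
      · rw [hb1, mul_one, one_mul]
      · rw [← P3 b hb1, hall b hb hb1, P3 z hz1]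
        exact (memC a).1 ha
    have hcent : centralizer ((P : Subgroup T) : Set T) = C := by
      ext u
      rw [mem_centralizer_iff]
      constructor
      · intro h
        exact (memC u).2 (h z hzP).symm
      · intro hu x hx
        exact hCab x (hPC hx) u hu
    apply not_npc_of_simple hnc p hpd
    apply npc_of_burnside P
    intro u hu
    rw [hcent]
    apply hNC
    rw [← hcent]
    rw [mem_normalizer_iff]
    intro c
    have hconj : ∀ (v : T), v ∈ normalizer ((P : Subgroup T) : Set T) →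
        ∀ c ∈ centralizer ((P : Subgroup T) : Set T),
        v * c * v⁻¹ ∈ centralizer ((P : Subgroup T) : Set T) := by
      intro v hv c hc
      rw [mem_centralizer_iff] at hc ⊢
      intro x hx
      have h1 : v⁻¹ * x * v⁻¹⁻¹ ∈ (P : Subgroup T) :=
        (mem_normalizer_iff.1 (inv_mem hv) x).1 hx
      have h2 := hc _ h1
      calc x * (v * c * v⁻¹) = v * ((v⁻¹ * x * v⁻¹⁻¹) * c) * v⁻¹ := by group
        _ = v * (c * (v⁻¹ * x * v⁻¹⁻¹)) * v⁻¹ := by rw [h2]
        _ = v * c * v⁻¹ * x := by group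
    refine ⟨hconj u hu c, fun h => ?_⟩
    have := hconj u⁻¹ (inv_mem hu) _ h
    simpa [mul_assoc] using this

end diag

end Cfsg.Agent.Lib.Helper62
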