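import Mathlib
import Cfsg.Agent.Lib.Helper62.EPDiag
import Cfsg.Agent.S3494
import Cfsg.Agent.S3680

set_option autoImplicit false

namespace Cfsg.Agent.Lib.Helper62

open MulAction Subgroup

section

variable {G : Type*} [Group G] {Ω : Type*} [MulAction G Ω]

/-- maximality of two-point stabilizers in an extremely primitive group -/
theorem ep_max
    (hep : ∀ (α ω : Ω), IsPreprimitive (stabilizer G α) (orbit (stabilizer G α) ω)) {α ω : Ω}
    (hne : ¬ stabilizer G α ≤ stabilizer G ω) (L : Subgroup G)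
    (h1 : stabilizer G α ⊓ stabilizer G ω ≤ L) (h2 : L ≤ stabilizer G α) :
    L = stabilizer G α ⊓ stabilizer G ω ∨ L = stabilizer G α := by
  have := hep α ω
  obtain ⟨h, hh, hhω⟩ : ∃ h ∈ stabilizer G α, h • ω ≠ ω := by
    by_contra hcon
    push Not at hcon
    exact hne hcon
  have hnt : Nontrivial (orbit (stabilizer G α) ω) :=
    ⟨⟨ω, mem_orbit_self ω⟩, ⟨h • ω, ⟨⟨h, hh⟩, rfl⟩⟩, fun he => hhω (congrArg Subtype.val he).symm⟩
  have hco : IsCoatom (stabilizer (stabilizer G α) (⟨ω, mem_orbit_self ω⟩ : orbit (stabilizer G α) ω)) :=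
    IsPreprimitive.isCoatom_stabilizer_of_isPreprimitive _ _
  have hle : stabilizer (stabilizer G α) (⟨ω, mem_orbit_self ω⟩ : orbit (stabilizer G α) ω) ≤
      L.subgroupOf (stabilizer G α) := by
    intro x hx
    rw [mem_subgroupOf]
    apply h1
    refine ⟨x.2, ?_⟩
    exact congrArg Subtype.val hx
  rcases hco.le_iff.1 hle with h3 | h3
  · right
    exact le_antisymm h2 (subgroupOf_eq_top.1 h3)
  · left
    apply le_antisymm _ h1
    intro l hl
    refine ⟨h2 hl, ?_⟩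
    have : (⟨l, h2 hl⟩ : stabilizer G α) ∈ L.subgroupOf (stabilizer G α) := hl
    rw [h3] at this
    exact congrArg Subtype.val this

theorem not_le_stab [FaithfulSMul G Ω] (hprim : IsPreprimitive G Ω)
    (hH : ∀ α : Ω, stabilizer G α ≠ ⊥) {α β : Ω} (hne : α ≠ β) :
    ¬ stabilizer G α ≤ stabilizer G β := by
  intro h
  have h1 := Cfsg.Agent.S3494.sup_stabilizer_eq_top hprim hH hne
  rw [sup_eq_right.2 h] at h1
  have : Nontrivial Ω := ⟨α, β, hne⟩
  exact (IsPreprimitive.isCoatom_stabilizer_of_isPreprimitive G β).1 h1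

/-- two commuting regular subgroups permuted by the point stabilizer, one of them nonabelian simple:
impossible in an extremely primitive group -/
theorem no_two_regular [Finite G] [FaithfulSMul G Ω] (hprim : IsPreprimitive G Ω)
    (hH : ∀ α : Ω, stabilizer G α ≠ ⊥)
    (hep : ∀ (α ω : Ω), IsPreprimitive (stabilizer G α) (orbit (stabilizer G α) ω))
    (α : Ω) (T₁ T₂ : Subgroup G)
    (hcomm : ∀ a ∈ T₁, ∀ b ∈ T₂, a * b = b * a)
    (htr1 : ∀ x y : Ω, ∃ t ∈ T₁, t • x = y) (htr2 : ∀ x y : Ω, ∃ t ∈ T₂, t • x = y)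
    (hsimple : IsSimpleGroup T₁) (hnc : ∃ a ∈ T₁, ∃ b ∈ T₁, a * b ≠ b * a)
    (hperm : ∀ h ∈ stabilizer G α,
      ((∀ t ∈ T₁, h * t * h⁻¹ ∈ T₁) ∧ (∀ t ∈ T₂, h * t * h⁻¹ ∈ T₂)) ∨
      ((∀ t ∈ T₁, h * t * h⁻¹ ∈ T₂) ∧ (∀ t ∈ T₂, h * t * h⁻¹ ∈ T₁))) : False := by
  have sr1 : ∀ a ∈ T₁, ∀ b ∈ T₁, a • α = b • α → a = b := by
    intro a ha b hb hab
    have h1 : b⁻¹ * a = 1 := by
      apply Cfsg.Agent.S3680.eq_one_of_commute T₂ htr2 _ _ α
      · rw [mul_smul, hab, inv_smul_smul]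
      · intro v hv
        exact (hcomm _ (T₁.mul_mem (T₁.inv_mem hb) ha) v hv).symm
    rw [inv_mul_eq_one] at h1
    exact h1.symm
  have sr2 : ∀ a ∈ T₂, ∀ b ∈ T₂, a • α = b • α → a = b := by
    intro a ha b hb hab
    have h1 : b⁻¹ * a = 1 := by
      apply Cfsg.Agent.S3680.eq_one_of_commute T₁ htr1 _ _ α
      · rw [mul_smul, hab, inv_smul_smul]
      · intro v hv
        exact hcomm v hv _ (T₂.mul_mem (T₂.inv_mem hb) ha)
    rw [inv_mul_eq_one] at h1
    exact h1.symm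
  choose θ hθ using fun t : T₁ => htr2 α ((t : G)⁻¹ • α)
  have fix : ∀ t : T₁, ((t : G) * θ t) • α = α := by
    intro t
    rw [mul_smul, (hθ t).2, smul_inv_smul]
  have char : ∀ (t : T₁) (s : G), s ∈ T₂ → ((t : G) * s) • α = α → s = θ t := by
    intro t s hs h
    apply sr2 s hs _ (hθ t).1
    rw [(hθ t).2, eq_inv_smul_iff, ← mul_smul]
    exact h
  have θmul : ∀ t s : T₁, θ (t * s) = θ t * θ s := by
    intro t s
    symm
    apply char _ _ (T₂.mul_mem (hθ t).1 (hθ s).1)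
    have e : ((t * s : T₁) : G) * (θ t * θ s) = ((t : G) * θ t) * ((s : G) * θ s) := by
      have := hcomm s s.2 _ (hθ t).1
      calc ((t * s : T₁) : G) * (θ t * θ s) = (t : G) * ((s : G) * θ t) * θ s := by
            rw [Subgroup.coe_mul]; group
        _ = (t : G) * (θ t * (s : G)) * θ s := by rw [this]
        _ = _ := by group
    rw [e, mul_smul, fix, fix]
  let δ : T₁ →* G := MonoidHom.mk' (fun t => (t : G) * θ t) (by
    intro t s
    have := hcomm s s.2 _ (hθ t).1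
    change ((t * s : T₁) : G) * θ (t * s) = ((t : G) * θ t) * ((s : G) * θ s)
    rw [θmul]
    calc ((t * s : T₁) : G) * (θ t * θ s) = (t : G) * ((s : G) * θ t) * θ s := by
          rw [Subgroup.coe_mul]; group
      _ = (t : G) * (θ t * (s : G)) * θ s := by rw [this]
      _ = _ := by group)
  have δdef : ∀ t : T₁, δ t = (t : G) * θ t := fun _ => rfl
  have δact : ∀ t : T₁, (δ t)⁻¹ • α = α := by
    intro t
    rw [inv_smul_eq_iff, δdef, fix]
  -- the action of `δ u` on points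
  have δpt : ∀ u t : T₁, δ u • ((t : G) • α) = ((u * t * u⁻¹ : T₁) : G) • α := by
    intro u t
    have h1 := hcomm t t.2 _ (hθ u).1
    rw [δdef, ← mul_smul, mul_assoc, ← h1, ← mul_assoc, mul_smul, (hθ u).2, ← mul_smul]
    rfl
  have hδ : Function.Injective δ := by
    intro t s hts
    have h1 : ∀ x : T₁, t * x * t⁻¹ = s * x * s⁻¹ := by
      intro x
      apply Subtype.ext
      apply sr1 _ (t * x * t⁻¹ : T₁).2 _ (s * x * s⁻¹ : T₁).2
      rw [← δpt, ← δpt, hts]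
    have h2 : s⁻¹ * t ∈ center T₁ := by
      rw [mem_center_iff]
      intro x
      have := h1 x
      calc x * (s⁻¹ * t) = s⁻¹ * (s * x * s⁻¹) * t := by group
        _ = s⁻¹ * (t * x * t⁻¹) * t := by rw [this]
        _ = s⁻¹ * t * x := by group
    rcases hsimple.eq_bot_or_eq_top_of_normal (center T₁) inferInstance with h3 | h3
    · rw [h3, mem_bot, inv_mul_eq_one] at h2
      exact h2.symm
    · exfalso
      obtain ⟨a, ha, b, hb, hab⟩ := hnc
      apply hab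
      have : (⟨b, hb⟩ : T₁) ∈ center T₁ := h3 ▸ mem_top _
      exact congrArg Subtype.val (mem_center_iff.1 this ⟨a, ha⟩)
  have hδH : ∀ t, δ t ∈ stabilizer G α := fun t => fix t
  -- the two kinds of elements of the stabilizer
  have kinds : ∀ h ∈ stabilizer G α,
      (∀ s : T₁, ∃ s' : T₁, h * δ s * h⁻¹ = δ s' ∧ h • ((s : G) • α) = (s' : G) • α) ∨
      (∀ s : T₁, ∃ s' : T₁, h * δ s * h⁻¹ = δ s' ∧ h • ((s : G)⁻¹ • α) = (s' : G) • α) := by
    intro h hh
    have hh' : h⁻¹ • α = α := by rw [inv_smul_eq_iff]; exact hh.symm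
    have hfix : ∀ s : T₁, (h * δ s * h⁻¹) • α = α := by
      intro s
      rw [mul_smul, mul_smul, hh', hδH s, hh]
    rcases hperm h hh with ⟨h1, h2⟩ | ⟨h1, h2⟩
    · left
      intro s
      refine ⟨⟨h * s * h⁻¹, h1 s s.2⟩, ?_, ?_⟩
      · have e : h * δ s * h⁻¹ = (h * s * h⁻¹) * (h * θ s * h⁻¹) := by rw [δdef]; group
        rw [δdef ⟨h * s * h⁻¹, h1 s s.2⟩, ← char ⟨h * s * h⁻¹, h1 s s.2⟩ (h * θ s * h⁻¹)
          (h2 _ (hθ s).1) (by rw [← e]; exact hfix s)]
        exact e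
      · change h • ((s : G) • α) = (h * s * h⁻¹) • α
        rw [mul_smul, mul_smul, hh']
    · right
      intro s
      refine ⟨⟨h * θ s * h⁻¹, h2 _ (hθ s).1⟩, ?_, ?_⟩
      · have e : h * δ s * h⁻¹ = (h * θ s * h⁻¹) * (h * s * h⁻¹) := by
          rw [hcomm _ (h2 _ (hθ s).1) _ (h1 s s.2), δdef]; group
        rw [δdef ⟨h * θ s * h⁻¹, h2 _ (hθ s).1⟩, ← char ⟨h * θ s * h⁻¹, h2 _ (hθ s).1⟩
          (h * s * h⁻¹) (h1 s s.2) (by rw [← e]; exact hfix s)]
        exact e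
      · change h • ((s : G)⁻¹ • α) = (h * θ s * h⁻¹) • α
        rw [mul_smul, mul_smul, hh', (hθ s).2]
  have hne : ∀ t : T₁, t ≠ 1 → α ≠ (t : G) • α := by
    intro t ht h
    apply ht
    apply Subtype.ext
    apply sr1 _ t.2 _ T₁.one_mem
    rw [one_smul]
    exact h.symm
  have inj : ∀ s t : T₁, (s : G) • α = (t : G) • α → s = t := fun s t h =>
    Subtype.ext (sr1 _ s.2 _ t.2 h)
  -- conjugation by elements of `S t`
  have conjS : ∀ (t : T₁) (h : G), h ∈ stabilizer G α → h • ((t : G) • α) = (t : G) • α →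
      ((∀ s : T₁, ∃ s' : T₁, h * δ s * h⁻¹ = δ s' ∧ h • ((s : G) • α) = (s' : G) • α) ∧
        h * δ t * h⁻¹ = δ t) ∨
      ((∀ s : T₁, ∃ s' : T₁, h * δ s * h⁻¹ = δ s' ∧ h • ((s : G)⁻¹ • α) = (s' : G) • α) ∧
        h * δ t⁻¹ * h⁻¹ = δ t) := by
    intro t h hh ht
    rcases kinds h hh with hk | hk
    · left
      refine ⟨hk, ?_⟩
      obtain ⟨s', h1, h2⟩ := hk t
      rw [ht] at h2
      rw [h1, inj _ _ h2]
    · right
      refine ⟨hk, ?_⟩
      obtain ⟨s', h1, h2⟩ := hk t⁻¹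
      rw [Subgroup.coe_inv, inv_inv, ht] at h2
      rw [h1, inj _ _ h2]
  obtain ⟨a, ha, b, hb, hab⟩ := hnc
  refine no_diag (T := T₁) ⟨⟨a, ha⟩, ⟨b, hb⟩, fun h => hab (congrArg Subtype.val h)⟩
    (stabilizer G α) δ hδ hδH ?_ (fun t => stabilizer G α ⊓ stabilizer G ((t : G) • α)) ?_ ?_ ?_ ?_
  · intro h hh t
    rcases kinds h hh with hk | hk
    · obtain ⟨s', h1, -⟩ := hk t
      exact ⟨s', h1⟩
    · obtain ⟨s', h1, -⟩ := hk t
      exact ⟨s', h1⟩
  · intro t ht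
    have h1 := not_le_stab hprim hH (hne t ht)
    refine ⟨inf_le_left, fun h => h1 (h ▸ inf_le_right), fun L hL1 hL2 => ep_max hep h1 L hL1 hL2⟩
  · intro t ht h hh
    rcases conjS t h hh.1 hh.2 with ⟨-, h1⟩ | ⟨-, h1⟩
    · exact Or.inl h1
    · right
      have : (h * δ t⁻¹ * h⁻¹)⁻¹ = (δ t)⁻¹ := by rw [h1]
      rw [map_inv] at this ⊢
      rw [← this]
      group
  · intro t ht u
    constructor
    · intro h
      have h1 : δ u • ((t : G) • α) = (t : G) • α := h.2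
      rw [δpt] at h1
      have := inj _ _ h1
      calc u * t = (u * t * u⁻¹) * u := by group
        _ = t * u := by rw [this]
    · intro h
      refine ⟨hδH u, ?_⟩
      change δ u • ((t : G) • α) = (t : G) • α
      rw [δpt, h]
      simp
  · intro t ht k hk h hh
    refine ⟨hh.1, ?_⟩
    change h • (((t ^ k : T₁) : G) • α) = ((t ^ k : T₁) : G) • α
    rcases conjS t h hh.1 hh.2 with ⟨hk', h1⟩ | ⟨hk', h1⟩
    · obtain ⟨s', h2, h3⟩ := hk' (t ^ k)
      rw [map_pow, ← conj_pow, h1, ← map_pow] at h2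
      rw [h3, ← hδ h2]
    · obtain ⟨s', h2, h3⟩ := hk' (t ^ k)⁻¹
      rw [← inv_pow, map_pow, ← conj_pow, h1, ← map_pow] at h2
      rw [Subgroup.coe_inv, inv_inv] at h3
      rw [h3, ← hδ h2]

end

end Cfsg.Agent.Lib.Helper62
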