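import Mathlib
import Cfsg.Agent.Lib.Helper62.EPTwoReg

set_option autoImplicit false

namespace Cfsg.Agent.Lib.Helper62

open MulAction Subgroup Cfsg.Agent.Lib.Helper40
open scoped Pointwise

section minnormal

variable {G : Type*} [Group G]

/-- `T` is a minimal normal subgroup of the subgroup `N` -/
def MNin (N T : Subgroup G) : Prop :=
  T ≤ N ∧ T ≠ ⊥ ∧ N ≤ normalizer (T : Set G) ∧
    ∀ U : Subgroup G, U ≤ T → N ≤ normalizer (U : Set G) → U = ⊥ ∨ U = T

theorem exists_MNin [Finite G] {N : Subgroup G} (hN : N ≠ ⊥) : ∃ T, MNin N T := by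
  obtain ⟨T, -, hT⟩ := exists_minimal_le_of_wellFoundedLT
    (fun K : Subgroup G => K ≤ N ∧ K ≠ ⊥ ∧ N ≤ normalizer (K : Set G)) N ⟨le_rfl, hN, le_normalizer⟩
  refine ⟨T, hT.1.1, hT.1.2.1, hT.1.2.2, fun U hU hUn => ?_⟩
  by_cases hb : U = ⊥
  · exact Or.inl hb
  · exact Or.inr (le_antisymm hU (hT.2 ⟨hU.trans hT.1.1, hb, hUn⟩ hU))

theorem cj_normal {N : Subgroup G} (hN : N.Normal) (g : G) : cj g N = N :=
  cj_eq_of_mem_normalizer (by rw [normalizer_eq_top]; exact mem_top g)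

theorem MNin.cj {N T : Subgroup G} (hN : N.Normal) (h : MNin N T) (g : G) : MNin N (cj g T) := by
  obtain ⟨h1, h2, h3, h4⟩ := h
  refine ⟨?_, ?_, ?_, ?_⟩
  · rw [← cj_normal hN g]
    exact cj_mono h1
  · intro hb
    apply h2
    have := congrArg (Helper40.cj g⁻¹) hb
    rw [cj_inv_cj] at this
    rw [this]
    exact Subgroup.map_bot _
  · rw [← cj_normalizer, ← cj_normal hN g]
    exact cj_mono h3
  · intro U hU hUn
    have h5 : Helper40.cj g⁻¹ U ≤ T := by
      rw [← cj_inv_cj g T]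
      exact cj_mono hU
    have h6 : N ≤ normalizer ((Helper40.cj g⁻¹ U : Subgroup G) : Set G) := by
      rw [← cj_normalizer, ← cj_normal hN g⁻¹]
      exact cj_mono hUn
    rcases h4 _ h5 h6 with h7 | h7
    · left
      have := congrArg (Helper40.cj g) h7
      rw [cj_cj_inv] at this
      rw [this]
      exact Subgroup.map_bot _
    · right
      have := congrArg (Helper40.cj g) h7
      rw [cj_cj_inv] at this
      exact this

theorem MNin.eq_or {N T T' : Subgroup G} (h : MNin N T) (h' : MNin N T') :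
    T = T' ∨ (T ⊓ T' = ⊥ ∧ ∀ a ∈ T, ∀ b ∈ T', a * b = b * a) := by
  have hn : N ≤ normalizer ((T ⊓ T' : Subgroup G) : Set G) := by
    intro n hn
    rw [mem_normalizer_iff_cj_eq, cj_inf, cj_eq_of_mem_normalizer (h.2.2.1 hn),
      cj_eq_of_mem_normalizer (h'.2.2.1 hn)]
  rcases h.2.2.2 _ inf_le_left hn with h1 | h1
  · right
    refine ⟨h1, fun a ha b hb => ?_⟩
    have h2 : a * b * a⁻¹ * b⁻¹ ∈ T ⊓ T' := by
      constructor
      · have : b * a⁻¹ * b⁻¹ ∈ T :=
          (mem_normalizer_iff.1 (h.2.2.1 (h'.1 hb)) a⁻¹).1 (T.inv_mem ha)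
        have h3 := T.mul_mem ha this
        have e : a * (b * a⁻¹ * b⁻¹) = a * b * a⁻¹ * b⁻¹ := by group
        exact e ▸ h3
      · have : a * b * a⁻¹ ∈ T' := (mem_normalizer_iff.1 (h'.2.2.1 (h.1 ha)) b).1 hb
        exact T'.mul_mem this (T'.inv_mem hb)
    rw [h1, mem_bot] at h2
    calc a * b = (a * b * a⁻¹ * b⁻¹) * (b * a) := by group
      _ = b * a := by rw [h2, one_mul]
  · left
    have h2 : T ≤ T' := h1 ▸ inf_le_right
    rcases h'.2.2.2 T h2 h.2.2.1 with h3 | h3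
    · exact absurd h3 h.2.1
    · exact h3

/-- the conjugates of `T` generate the minimal normal subgroup `N` -/
theorem MNin.gen {N T : Subgroup G} (hN : Cfsg.Agent.S3680.MN N) (h : MNin N T) (K : Subgroup G)
    (hK : ∀ g, Helper40.cj g T ≤ K) : N ≤ K := by
  have hn : (⨆ g, Helper40.cj g T).Normal := by
    rw [← normalizer_eq_top_iff, eq_top_iff]
    intro x _
    rw [mem_normalizer_iff_cj_eq]
    apply le_antisymm
    · change Subgroup.map _ _ ≤ _
      rw [Subgroup.map_iSup]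
      apply iSup_le
      intro g
      have : Helper40.cj x (Helper40.cj g T) = Helper40.cj (x * g) T := (cj_mul x g T).symm
      change Helper40.cj x (Helper40.cj g T) ≤ _
      rw [this]
      exact le_iSup (fun g => Helper40.cj g T) (x * g)
    · apply iSup_le
      intro g
      have e : Helper40.cj g T = Helper40.cj x (Helper40.cj (x⁻¹ * g) T) := by
        rw [← cj_mul, mul_inv_cancel_left]
      rw [e]
      exact cj_mono (le_iSup (fun g => Helper40.cj g T) (x⁻¹ * g))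
  have hle : (⨆ g, Helper40.cj g T) ≤ N := iSup_le (fun g => (h.cj hN.1 g).1)
  rcases hN.2.2 _ hn hle with h1 | h1
  · exfalso
    apply h.2.1
    rw [eq_bot_iff, ← h1]
    have := le_iSup (fun g => Helper40.cj g T) 1
    rwa [cj_one] at this
  · rw [← h1]
    exact iSup_le hK

theorem MNin.noncomm {N T : Subgroup G} (hN : Cfsg.Agent.S3680.MN N) (h : MNin N T)
    (hnc : ¬ ∀ a ∈ N, ∀ b ∈ N, a * b = b * a) : ∃ a ∈ T, ∃ b ∈ T, a * b ≠ b * a := by
  by_contra hcon
  push Not at hcon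
  apply hnc
  have h1 : N ≤ centralizer (T : Set G) := by
    apply h.gen hN
    intro g x hx
    rw [mem_centralizer_iff]
    intro t ht
    rcases h.eq_or (h.cj hN.1 g) with h2 | h2
    · exact hcon t ht x (h2 ▸ hx)
    · exact h2.2 t ht x hx
  have h2 : N ≤ centralizer (N : Set G) := by
    apply h.gen hN
    intro g
    have h3 := cj_mono (g := g) h1
    rw [cj_normal hN.1, cj_centralizer] at h3
    rw [le_centralizer_iff]
    exact h3
  intro a ha b hb
  exact (mem_centralizer_iff.1 (h2 hb) a ha)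

theorem MNin.simple {N T : Subgroup G} (hN : Cfsg.Agent.S3680.MN N) (h : MNin N T) :
    IsSimpleGroup T := by
  have : Nontrivial T := (nontrivial_iff_ne_bot T).2 h.2.1
  refine ⟨fun U' hU' => ?_⟩
  have hUT : U'.map T.subtype ≤ T := map_subtype_le U'
  have hTn : T ≤ normalizer ((U'.map T.subtype : Subgroup G) : Set G) := by
    apply normalizer_of_conj'
    rintro t ht _ ⟨u, hu, rfl⟩
    exact ⟨⟨t, ht⟩ * u * ⟨t, ht⟩⁻¹, hU'.conj_mem u hu _, rfl⟩
  have hn : N ≤ normalizer ((U'.map T.subtype : Subgroup G) : Set G) := by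
    apply h.gen hN
    intro g
    rcases h.eq_or (h.cj hN.1 g) with h2 | h2
    · rw [← h2]
      exact hTn
    · refine le_trans ?_ (centralizer_le_normalizer _)
      intro x hx
      rw [mem_centralizer_iff]
      intro u hu
      exact h2.2 u (hUT hu) x hx
  rcases h.2.2.2 _ hUT hn with h1 | h1
  · left
    rw [eq_bot_iff]
    intro u hu
    have : (u : G) ∈ U'.map T.subtype := ⟨u, hu, rfl⟩
    rw [h1, mem_bot] at this
    exact (mem_bot).2 (Subtype.ext this)
  · right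
    rw [eq_top_iff]
    intro u _
    have : (u : G) ∈ U'.map T.subtype := by
      rw [h1]
      exact u.2
    obtain ⟨v, hv, hvu⟩ := this
    exact (Subtype.ext hvu : v = u) ▸ hv

end minnormal

section ep

variable {G : Type*} [Group G] [Finite G] {Ω : Type*} [Finite Ω] [MulAction G Ω] [FaithfulSMul G Ω]
  (hprim : IsPreprimitive G Ω) (hH : ∀ α : Ω, stabilizer G α ≠ ⊥)
  (hep : ∀ (α ω : Ω), IsPreprimitive (stabilizer G α) (orbit (stabilizer G α) ω)) (α : Ω)
  {N T : Subgroup G} (hN : Cfsg.Agent.S3680.MN N) (hT : MNin N T)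

include hprim hN hT in
theorem conj_reduce (g : G) : ∃ h ∈ stabilizer G α, Helper40.cj g T = Helper40.cj h T := by
  obtain ⟨n, hn, hnα⟩ := Cfsg.Agent.S3680.trans_of_normal hprim N hN.1 hN.2.1 α (g • α)
  refine ⟨n⁻¹ * g, ?_, ?_⟩
  · rw [mem_stabilizer_iff, mul_smul, ← hnα, inv_smul_smul]
  · have e : g = n * (n⁻¹ * g) := by group
    conv_lhs => rw [e, cj_mul]
    exact cj_eq_of_mem_normalizer ((hT.cj hN.1 _).2.2.1 hn)

theorem trans_cj {T : Subgroup G} (h : ∀ x y : Ω, ∃ t ∈ T, t • x = y) (g : G) :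
    ∀ x y : Ω, ∃ t ∈ Helper40.cj g T, t • x = y := by
  intro x y
  obtain ⟨t, ht, htx⟩ := h (g⁻¹ • x) (g⁻¹ • y)
  refine ⟨g * t * g⁻¹, conj_mem_cj ht, ?_⟩
  rw [mul_smul, mul_smul, htx, smul_inv_smul]

include hprim hH hep hN hT in
/-- if `N_α ≠ 1` then `T` is transitive -/
theorem trans_of_stab_ne_bot (hK : N ⊓ stabilizer G α ≠ ⊥) : ∀ x y : Ω, ∃ t ∈ T, t • x = y := by
  have htrN := Cfsg.Agent.S3680.trans_of_normal hprim N hN.1 hN.2.1
  have hNn := hN.1
  have key : ∀ h ∈ stabilizer G α, ∀ t ∈ T, ∃ t' ∈ T, t' • α = h • t • α := by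
    intro h hh t ht
    by_cases hta : t • α = α
    · exact ⟨1, T.one_mem, by rw [one_smul, hta]; exact hh.symm⟩
    · have hKn : stabilizer G α ≤ normalizer ((N ⊓ stabilizer G α : Subgroup G) : Set G) := by
        apply normalizer_of_conj'
        rintro s hs n ⟨hn1, hn2⟩
        exact ⟨hNn.conj_mem n hn1 s, (stabilizer G α).mul_mem ((stabilizer G α).mul_mem hs hn2)
          ((stabilizer G α).inv_mem hs)⟩
      rcases Cfsg.Agent.S3494.dichotomy hep α (t • α) _ inf_le_right hKn with h1 | h1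
      · exfalso
        apply hK
        rw [eq_bot_iff, ← Cfsg.Agent.S3494.pker_eq_bot hprim hH hep (Ne.symm hta)]
        exact Cfsg.Agent.S3494.le_pker inf_le_right hKn h1
      · obtain ⟨n, hn, hnt⟩ := h1 h hh
        refine ⟨n * t * n⁻¹, (mem_normalizer_iff.1 (hT.2.2.1 hn.1) t).1 ht, ?_⟩
        have hn' : n⁻¹ • α = α := by rw [inv_smul_eq_iff]; exact hn.2.symm
        rw [mul_smul, mul_smul, hn', hnt]
  obtain ⟨B, hB⟩ : ∃ B : Set Ω, B = {x | ∃ t ∈ T, t • α = x} := ⟨_, rfl⟩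
  have h1 : stabilizer G α ≤ stabilizer G B := by
    apply Cfsg.Agent.S3494.le_stabilizer_set
    intro s hs x hx
    rw [hB] at hx ⊢
    obtain ⟨t, ht, rfl⟩ := hx
    exact key s hs t ht
  have h2 : T ≤ stabilizer G B := by
    apply Cfsg.Agent.S3494.le_stabilizer_set
    intro s hs x hx
    rw [hB] at hx ⊢
    obtain ⟨t, ht, rfl⟩ := hx
    exact ⟨s * t, T.mul_mem hs ht, mul_smul _ _ _⟩
  have hnt : Nontrivial Ω := by
    by_contra hcon
    rw [not_nontrivial_iff_subsingleton] at hcon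
    apply hN.2.1
    rw [eq_bot_iff_forall]
    intro n _
    apply FaithfulSMul.eq_of_smul_eq_smul (α := Ω)
    intro x
    exact Subsingleton.elim _ _
  have hco : IsCoatom (stabilizer G α) := IsPreprimitive.isCoatom_stabilizer_of_isPreprimitive G α
  have h3 : stabilizer G B = ⊤ := by
    rcases hco.le_iff.1 h1 with h | h
    · exact h
    · exfalso
      apply hT.2.1
      rw [eq_bot_iff_forall]
      intro t ht
      apply FaithfulSMul.eq_of_smul_eq_smul (α := Ω)
      intro x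
      obtain ⟨n, hn, rfl⟩ := htrN α x
      have h4 : n⁻¹ * t * n⁻¹⁻¹ ∈ T := (mem_normalizer_iff.1 (hT.2.2.1 (N.inv_mem hn)) t).1 ht
      have h5 : (n⁻¹ * t * n⁻¹⁻¹) • α = α := (h ▸ h2) h4
      rw [inv_inv, mul_smul, mul_smul, inv_smul_eq_iff] at h5
      rw [h5, one_smul]
  have h4 : ∀ y : Ω, ∃ t ∈ T, t • α = y := by
    intro y
    obtain ⟨g, rfl⟩ := exists_smul_eq G α y
    have hg : g ∈ stabilizer G B := h3 ▸ mem_top g
    have hα : α ∈ B := by
      rw [hB]
      exact ⟨1, T.one_mem, one_smul _ _⟩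
    have : g • α ∈ g • B := Set.smul_mem_smul_set hα
    rw [mem_stabilizer_iff.1 hg, hB] at this
    exact this
  intro x y
  obtain ⟨t, ht, rfl⟩ := h4 x
  obtain ⟨s, hs, rfl⟩ := h4 y
  exact ⟨s * t⁻¹, T.mul_mem hs (T.inv_mem ht), by rw [mul_smul, inv_smul_smul]⟩

include hprim hH hep hN hT in
theorem caseB1 (hnc : ¬ ∀ a ∈ N, ∀ b ∈ N, a * b = b * a) (hK : N ⊓ stabilizer G α ≠ ⊥)
    (h₀ : ∃ g, Helper40.cj g T ≠ T) : False := by
  obtain ⟨g₀, hg₀⟩ := h₀
  have htr := trans_of_stab_ne_bot hprim hH hep α hN hT hK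
  have hT' := hT.cj hN.1 g₀
  have htr' := trans_cj htr g₀
  obtain ⟨hdisj, hcomm⟩ := (hT.eq_or hT').resolve_left (Ne.symm hg₀)
  -- only two conjugates
  have two : ∀ g, Helper40.cj g T = T ∨ Helper40.cj g T = Helper40.cj g₀ T := by
    intro g
    by_contra hcon
    push Not at hcon
    have hT'' := hT.cj hN.1 g
    obtain ⟨-, hc1⟩ := (hT.eq_or hT'').resolve_left (Ne.symm hcon.1)
    obtain ⟨hd2, -⟩ := (hT'.eq_or hT'').resolve_left (Ne.symm hcon.2)
    apply hT''.2.1
    rw [eq_bot_iff_forall]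
    intro x hx
    obtain ⟨y, hy, hyx⟩ := htr' α (x • α)
    have h1 : y⁻¹ * x = 1 := by
      apply Cfsg.Agent.S3680.eq_one_of_commute T htr _ _ α
      · rw [mul_smul, ← hyx, inv_smul_smul]
      · intro v hv
        have e1 := hcomm v hv y hy
        have e2 := hc1 v hv x hx
        have e3 : v * y⁻¹ = y⁻¹ * v := by
          calc v * y⁻¹ = y⁻¹ * (y * v) * y⁻¹ := by group
            _ = y⁻¹ * (v * y) * y⁻¹ := by rw [e1]
            _ = y⁻¹ * v := by group
        rw [← mul_assoc, e3, mul_assoc, e2, mul_assoc]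
    rw [inv_mul_eq_one] at h1
    have : x ∈ Helper40.cj g₀ T ⊓ Helper40.cj g T := ⟨h1 ▸ hy, hx⟩
    rw [hd2, mem_bot] at this
    exact this
  apply no_two_regular hprim hH hep α T (Helper40.cj g₀ T) hcomm htr htr' (hT.simple hN)
    (hT.noncomm hN hnc)
  intro h _
  have inj : Helper40.cj h T ≠ Helper40.cj h (Helper40.cj g₀ T) := by
    intro he
    apply hg₀
    have := congrArg (Helper40.cj h⁻¹) he
    rw [cj_inv_cj, cj_inv_cj] at this
    exact this.symm
  have h2 := two (h * g₀)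
  rw [cj_mul] at h2
  rcases two h with h1 | h1
  · left
    have h3 : Helper40.cj h (Helper40.cj g₀ T) = Helper40.cj g₀ T := by
      rcases h2 with h2 | h2
      · exact absurd (h1.trans h2.symm) inj
      · exact h2
    exact ⟨fun t ht => h1 ▸ conj_mem_cj ht, fun t ht => h3 ▸ conj_mem_cj ht⟩
  · right
    have h3 : Helper40.cj h (Helper40.cj g₀ T) = T := by
      rcases h2 with h2 | h2
      · exact h2
      · exact absurd (h1.trans h2.symm) inj
    exact ⟨fun t ht => h1 ▸ conj_mem_cj ht, fun t ht => h3 ▸ conj_mem_cj ht⟩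

omit [Finite G] [Finite Ω] [FaithfulSMul G Ω] in
theorem reg_inj {N : Subgroup G} (hK : N ⊓ stabilizer G α = ⊥) {n n' : G} (hn : n ∈ N) (hn' : n' ∈ N)
    (h : n • α = n' • α) : n = n' := by
  have h1 : n'⁻¹ * n ∈ N ⊓ stabilizer G α :=
    ⟨N.mul_mem (N.inv_mem hn') hn, by
      change (n'⁻¹ * n) • α = α
      rw [mul_smul, h, inv_smul_smul]⟩
  rw [hK, mem_bot, inv_mul_eq_one] at h1
  exact h1.symm

omit [Finite G] [Finite Ω] [FaithfulSMul G Ω] in
theorem conj_pt {h : G} (hh : h ∈ stabilizer G α) (n : G) : (h * n * h⁻¹) • α = h • n • α := by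
  have hh' : h⁻¹ • α = α := by rw [inv_smul_eq_iff]; exact hh.symm
  rw [mul_smul, mul_smul, hh']

include hprim hH hep hN hT in
theorem regB_claim1 (hK : N ⊓ stabilizer G α = ⊥) (hnn : ∃ h ∈ stabilizer G α, Helper40.cj h T ≠ T)
    {t : G} (ht : t ∈ T) (ht1 : t ≠ 1) :
    stabilizer G α ⊓ normalizer (T : Set G) = stabilizer G α ⊓ stabilizer G (t • α) := by
  have hne : α ≠ t • α := by
    intro h
    apply ht1
    apply reg_inj α hK (hT.1 ht) N.one_mem
    rw [one_smul]
    exact h.symm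
  have hle : stabilizer G α ⊓ stabilizer G (t • α) ≤ stabilizer G α ⊓ normalizer (T : Set G) := by
    rintro h ⟨hh1, hh2⟩
    refine ⟨hh1, ?_⟩
    have h1 : h * t * h⁻¹ = t := by
      apply reg_inj α hK (hN.1.conj_mem t (hT.1 ht) h) (hT.1 ht)
      rw [conj_pt α hh1]
      exact hh2
    change h ∈ normalizer (T : Set G)
    rw [mem_normalizer_iff_cj_eq]
    rcases hT.eq_or (hT.cj hN.1 h) with h2 | h2
    · exact h2.symm
    · exfalso
      apply ht1
      have : t ∈ T ⊓ Helper40.cj h T := ⟨ht, h1 ▸ conj_mem_cj ht⟩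
      rw [h2.1, mem_bot] at this
      exact this
  rcases ep_max hep (not_le_stab hprim hH hne) _ hle inf_le_left with h | h
  · exact h
  · exfalso
    obtain ⟨h₀, hh₀, hne₀⟩ := hnn
    apply hne₀
    have : h₀ ∈ stabilizer G α ⊓ normalizer (T : Set G) := by
      rw [h]
      exact hh₀
    exact cj_eq_of_mem_normalizer this.2

include hprim hH hep hN hT in
theorem regB_claim1' (hK : N ⊓ stabilizer G α = ⊥)
    (hnn : ∃ h ∈ stabilizer G α, Helper40.cj h T ≠ T) {h : G} (hh : h ∈ stabilizer G α)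
    (hhn : h ∈ normalizer (T : Set G)) {t : G} (ht : t ∈ T) : h * t * h⁻¹ = t := by
  by_cases ht1 : t = 1
  · rw [ht1]; group
  · have h1 : h ∈ stabilizer G α ⊓ stabilizer G (t • α) :=
      regB_claim1 hprim hH hep α hN hT hK hnn ht ht1 ▸ ⟨hh, hhn⟩
    apply reg_inj α hK (hN.1.conj_mem t (hT.1 ht) h) (hT.1 ht)
    rw [conj_pt α hh]
    exact h1.2

omit [Finite G] in
theorem commute_of_mul {x a b : G} (h1 : x * (a * b) = (a * b) * x) (h2 : x * b = b * x) :
    x * a = a * x := by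
  have h3 : x * a * b = a * x * b := by
    calc x * a * b = x * (a * b) := by group
      _ = a * b * x := h1
      _ = a * (b * x) := by group
      _ = a * (x * b) := by rw [h2]
      _ = a * x * b := by group
  exact mul_right_cancel h3

omit [Finite G] in
theorem commute_of_conj {h x y : G} (e : (h * x * h⁻¹) * (h * y * h⁻¹) = (h * y * h⁻¹) * (h * x * h⁻¹)) :
    x * y = y * x := by
  have h1 : h * (x * y) * h⁻¹ = h * (y * x) * h⁻¹ := by
    calc h * (x * y) * h⁻¹ = (h * x * h⁻¹) * (h * y * h⁻¹) := by group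
      _ = (h * y * h⁻¹) * (h * x * h⁻¹) := e
      _ = h * (y * x) * h⁻¹ := by group
  exact mul_left_cancel (mul_right_cancel h1)

include hprim hH hep hN hT in
theorem regB_claim2 (hnc : ¬ ∀ a ∈ N, ∀ b ∈ N, a * b = b * a) (hK : N ⊓ stabilizer G α = ⊥)
    {h₀ : G} (hh₀ : h₀ ∈ stabilizer G α) (hne₀ : Helper40.cj h₀ T ≠ T) :
    stabilizer G α ⊓ normalizer (T : Set G) ≤
      normalizer ((Helper40.cj h₀ T : Subgroup G) : Set G) := by
  have hnn : ∃ h ∈ stabilizer G α, Helper40.cj h T ≠ T := ⟨h₀, hh₀, hne₀⟩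
  obtain ⟨T', hT'def⟩ : ∃ T', T' = Helper40.cj h₀ T := ⟨_, rfl⟩
  rw [← hT'def] at hne₀ ⊢
  have hT' : MNin N T' := hT'def ▸ hT.cj hN.1 h₀
  obtain ⟨hd, hc⟩ := (hT.eq_or hT').resolve_left (Ne.symm hne₀)
  obtain ⟨t, ht, t₂, ht₂, htt⟩ := hT.noncomm hN hnc
  obtain ⟨a, ha, b, hb, hab⟩ := hT'.noncomm hN hnc
  have ht1 : t ≠ 1 := by
    rintro rfl
    apply htt
    rw [one_mul, mul_one]
  have conj_ne : ∀ (h x : G), x ≠ 1 → h * x * h⁻¹ ≠ 1 := by
    intro h x hx he
    apply hx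
    have : h * x * h⁻¹ = h * 1 * h⁻¹ := by rw [he]; group
    exact mul_left_cancel (mul_right_cancel this)
  have cjeq : ∀ h : G, h * t * h⁻¹ ∈ T' → Helper40.cj h T = T' := by
    intro h hm
    rcases (hT.cj hN.1 h).eq_or hT' with h1 | h1
    · exact h1
    · exfalso
      have : h * t * h⁻¹ ∈ Helper40.cj h T ⊓ T' := ⟨conj_mem_cj ht, hm⟩
      rw [h1.1, mem_bot] at this
      exact conj_ne h t ht1 this
  have uniq : ∀ h ∈ stabilizer G α, ∀ h' ∈ stabilizer G α, h * t * h⁻¹ ∈ T' → h' * t * h'⁻¹ ∈ T' →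
      h * t * h⁻¹ = h' * t * h'⁻¹ := by
    intro h hh h' hh' hm hm'
    have h1 : Helper40.cj (h'⁻¹ * h) T = T := by
      rw [cj_mul, cjeq h hm, ← cjeq h' hm', cj_inv_cj]
    have h2 := regB_claim1' hprim hH hep α hN hT hK hnn
      ((stabilizer G α).mul_mem ((stabilizer G α).inv_mem hh') hh) (mem_normalizer_of_cj_eq h1) ht
    calc h * t * h⁻¹ = h' * ((h'⁻¹ * h) * t * (h'⁻¹ * h)⁻¹) * h'⁻¹ := by group
      _ = h' * t * h'⁻¹ := by rw [h2]
  obtain ⟨s', hs', ⟨s₂, hs₂, hss⟩, hsc⟩ : ∃ s' ∈ T', (∃ s₂ ∈ T', s' * s₂ ≠ s₂ * s') ∧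
      ∀ h ∈ stabilizer G α, h * t * h⁻¹ ≠ s' := by
    by_cases hA : ∀ h ∈ stabilizer G α, h * t * h⁻¹ ≠ a
    · exact ⟨a, ha, ⟨b, hb, hab⟩, hA⟩
    · push Not at hA
      obtain ⟨h, hh, hha⟩ := hA
      refine ⟨b, hb, ⟨a, ha, fun e => hab e.symm⟩, ?_⟩
      intro h' hh' hhb
      apply hab
      have := uniq h hh h' hh' (hha ▸ ha) (hhb ▸ hb)
      rw [hha, hhb] at this
      rw [this]
  have hs1 : s' ≠ 1 := by
    rintro rfl
    apply hss
    rw [one_mul, mul_one]
  have hnN : t * s' ∈ N := N.mul_mem (hT.1 ht) (hT'.1 hs')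
  have hn1 : t * s' ≠ 1 := by
    intro h
    apply ht1
    have : t ∈ T ⊓ T' := ⟨ht, by rw [eq_inv_of_mul_eq_one_left h]; exact T'.inv_mem hs'⟩
    rw [hd, mem_bot] at this
    exact this
  have hγ : α ≠ (t * s') • α := by
    intro h
    apply hn1
    apply reg_inj α hK hnN N.one_mem
    rw [one_smul]
    exact h.symm
  have fixγ : ∀ h ∈ stabilizer G α, h ∈ stabilizer G ((t * s') • α) →
      (h * t * h⁻¹) * (h * s' * h⁻¹) = t * s' := by
    intro h hh hh2
    have : h * (t * s') * h⁻¹ = t * s' := by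
      apply reg_inj α hK (hN.1.conj_mem _ hnN h) hnN
      rw [conj_pt α hh]
      exact hh2
    rw [← this]
    group
  have hle : stabilizer G α ⊓ stabilizer G ((t * s') • α) ≤
      stabilizer G α ⊓ normalizer (T : Set G) := by
    rintro h ⟨hh1, hh2⟩
    refine ⟨hh1, ?_⟩
    change h ∈ normalizer (T : Set G)
    rw [mem_normalizer_iff_cj_eq]
    by_contra hA
    have e := fixγ h hh1 hh2
    have hAm := hT.cj hN.1 h
    have hBm := hT'.cj hN.1 h
    have hAB : Helper40.cj h T ≠ Helper40.cj h T' := by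
      intro he
      apply hne₀
      have := congrArg (Helper40.cj h⁻¹) he
      rw [cj_inv_cj, cj_inv_cj] at this
      exact this.symm
    obtain ⟨-, hcAB⟩ := (hAm.eq_or hBm).resolve_left hAB
    obtain ⟨-, hcAT⟩ := (hAm.eq_or hT).resolve_left hA
    by_cases hAT' : Helper40.cj h T = T'
    · by_cases hBT : Helper40.cj h T' = T
      · have ha' : h * t * h⁻¹ ∈ T' := hAT' ▸ conj_mem_cj ht
        have hb' : h * s' * h⁻¹ ∈ T := hBT ▸ conj_mem_cj hs'
        rw [← hc _ hb' _ ha'] at e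
        have h1 : t⁻¹ * (h * s' * h⁻¹) = s' * (h * t * h⁻¹)⁻¹ := by
          calc t⁻¹ * (h * s' * h⁻¹) = t⁻¹ * ((h * s' * h⁻¹) * (h * t * h⁻¹)) * (h * t * h⁻¹)⁻¹ := by
                group
            _ = t⁻¹ * (t * s') * (h * t * h⁻¹)⁻¹ := by rw [e]
            _ = _ := by group
        have h2 : s' * (h * t * h⁻¹)⁻¹ ∈ T ⊓ T' :=
          ⟨h1 ▸ T.mul_mem (T.inv_mem ht) hb', T'.mul_mem hs' (T'.inv_mem ha')⟩
        rw [hd, mem_bot, mul_inv_eq_one] at h2
        exact hsc h hh1 h2.symm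
      · have hBT' : Helper40.cj h T' ≠ T' := fun he => hAB (hAT'.trans he.symm)
        obtain ⟨-, hcBT⟩ := (hBm.eq_or hT).resolve_left hBT
        obtain ⟨-, hcBT'⟩ := (hBm.eq_or hT').resolve_left hBT'
        apply hss
        have hx : h * s₂ * h⁻¹ ∈ Helper40.cj h T' := conj_mem_cj hs₂
        have c1 : (h * s₂ * h⁻¹) * ((h * s' * h⁻¹) * (h * t * h⁻¹)) =
            ((h * s' * h⁻¹) * (h * t * h⁻¹)) * (h * s₂ * h⁻¹) := by
          rw [← hcAB _ (conj_mem_cj ht) _ (conj_mem_cj hs'), e]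
          exact (Commute.mul_right (show Commute _ t from hcBT _ hx t ht)
            (show Commute _ s' from hcBT' _ hx s' hs')).eq
        have c2 : (h * s₂ * h⁻¹) * (h * t * h⁻¹) = (h * t * h⁻¹) * (h * s₂ * h⁻¹) :=
          (hcAB _ (conj_mem_cj ht) _ hx).symm
        exact (commute_of_conj (commute_of_mul c1 c2)).symm
    · obtain ⟨-, hcAT'⟩ := (hAm.eq_or hT').resolve_left hAT'
      apply htt
      have hx : h * t₂ * h⁻¹ ∈ Helper40.cj h T := conj_mem_cj ht₂
      have c1 : (h * t₂ * h⁻¹) * ((h * t * h⁻¹) * (h * s' * h⁻¹)) =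
          ((h * t * h⁻¹) * (h * s' * h⁻¹)) * (h * t₂ * h⁻¹) := by
        rw [e]
        exact (Commute.mul_right (show Commute _ t from hcAT _ hx t ht)
          (show Commute _ s' from hcAT' _ hx s' hs')).eq
      have c2 : (h * t₂ * h⁻¹) * (h * s' * h⁻¹) = (h * s' * h⁻¹) * (h * t₂ * h⁻¹) :=
        hcAB _ hx _ (conj_mem_cj hs')
      exact (commute_of_conj (commute_of_mul c1 c2)).symm
  have heq : stabilizer G α ⊓ normalizer (T : Set G) =
      stabilizer G α ⊓ stabilizer G ((t * s') • α) := by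
    rcases ep_max hep (not_le_stab hprim hH hγ) _ hle inf_le_left with h | h
    · exact h
    · exfalso
      apply hne₀
      have : h₀ ∈ stabilizer G α ⊓ normalizer (T : Set G) := by
        rw [h]
        exact hh₀
      rw [hT'def]
      exact cj_eq_of_mem_normalizer this.2
  intro h hh
  have hh' : h ∈ stabilizer G α ⊓ stabilizer G ((t * s') • α) := heq ▸ hh
  have e := fixγ h hh'.1 hh'.2
  rw [regB_claim1' hprim hH hep α hN hT hK hnn hh.1 hh.2 ht] at e
  have e2 : h * s' * h⁻¹ = s' := mul_left_cancel e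
  rw [mem_normalizer_iff_cj_eq]
  rcases (hT'.cj hN.1 h).eq_or hT' with h1 | h1
  · exact h1
  · exfalso
    apply hs1
    have : s' ∈ Helper40.cj h T' ⊓ T' := ⟨e2 ▸ conj_mem_cj hs', hs'⟩
    rw [h1.1, mem_bot] at this
    exact this

include hprim hH hep hN hT in
theorem caseB2 (hnc : ¬ ∀ a ∈ N, ∀ b ∈ N, a * b = b * a) (hK : N ⊓ stabilizer G α = ⊥)
    (h₀ : ∃ g, Helper40.cj g T ≠ T) : False := by
  have htrN := Cfsg.Agent.S3680.trans_of_normal hprim N hN.1 hN.2.1
  have hnn : ∃ h ∈ stabilizer G α, Helper40.cj h T ≠ T := by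
    obtain ⟨g, hg⟩ := h₀
    obtain ⟨h, hh, he⟩ := conj_reduce hprim α hN hT g
    exact ⟨h, hh, he ▸ hg⟩
  -- `H₁ = 1`
  have hH1 : stabilizer G α ⊓ normalizer (T : Set G) = ⊥ := by
    rw [eq_bot_iff_forall]
    intro h hh
    have hcen : N ≤ centralizer {h} := by
      apply hT.gen hN
      intro g
      obtain ⟨h', hh', he⟩ := conj_reduce hprim α hN hT g
      rw [he]
      intro x hx
      rw [mem_centralizer_singleton_iff]
      have hfix : h * x * h⁻¹ = x := by
        by_cases hc : Helper40.cj h' T = T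
        · exact regB_claim1' hprim hH hep α hN hT hK hnn hh.1 hh.2 (hc ▸ hx)
        · have hn' := regB_claim2 hprim hH hep α hN hT hnc hK hh' hc hh
          refine regB_claim1' hprim hH hep α hN (hT.cj hN.1 h') hK ⟨h'⁻¹, inv_mem hh', ?_⟩ hh.1 hn' hx
          rw [cj_inv_cj]
          exact fun e => hc e.symm
      calc x * h = (h * x * h⁻¹) * h := by rw [hfix]
        _ = h * x := by group
    apply FaithfulSMul.eq_of_smul_eq_smul (α := Ω)
    intro y
    obtain ⟨n, hn, rfl⟩ := htrN α y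
    have h1 := mem_centralizer_singleton_iff.1 (hcen hn)
    rw [one_smul, ← mul_smul, ← h1, mul_smul]
    congr 1
    exact hh.1
  obtain ⟨t, ht, t₂, ht₂, htt⟩ := hT.noncomm hN hnc
  have ht1 : t ≠ 1 := by
    rintro rfl
    apply htt
    rw [one_mul, mul_one]
  have hS := regB_claim1 hprim hH hep α hN hT hK hnn ht ht1
  rw [hH1] at hS
  have hne : α ≠ t • α := by
    intro h
    apply ht1
    apply reg_inj α hK (hT.1 ht) N.one_mem
    rw [one_smul]
    exact h.symm
  obtain ⟨h, hh, hh1⟩ : ∃ h ∈ stabilizer G α, h ≠ 1 := by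
    by_contra hcon
    push Not at hcon
    exact hH α ((eq_bot_iff_forall _).2 hcon)
  have hz : zpowers h = stabilizer G α := by
    rcases ep_max hep (not_le_stab hprim hH hne) (zpowers h) (hS ▸ bot_le)
      (by rw [zpowers_le]; exact hh) with h1 | h1
    · exfalso
      rw [← hS, zpowers_eq_bot] at h1
      exact hh1 h1
    · exact h1
  -- the products
  have key : ∀ j : ℕ, j < orderOf h →
      (t * h) ^ (j + 1) * (h ^ (j + 1))⁻¹ ∈ N ∧
      t⁻¹ * ((t * h) ^ (j + 1) * (h ^ (j + 1))⁻¹) ∈ centralizer (T : Set G) := by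
    intro j
    induction j with
    | zero =>
      intro _
      have e : (t * h) ^ (0 + 1) * (h ^ (0 + 1))⁻¹ = t := by simp
      rw [e]
      refine ⟨hT.1 ht, ?_⟩
      rw [inv_mul_cancel]
      exact one_mem _
    | succ j ih =>
      intro hj
      obtain ⟨ih1, ih2⟩ := ih (by omega)
      have e : (t * h) ^ (j + 1 + 1) * (h ^ (j + 1 + 1))⁻¹ =
          ((t * h) ^ (j + 1) * (h ^ (j + 1))⁻¹) * (h ^ (j + 1) * t * (h ^ (j + 1))⁻¹) := by
        rw [pow_succ (t * h) (j + 1), pow_succ h (j + 1)]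
        group
      have hpow : h ^ (j + 1) ≠ 1 := by
        intro he
        have := orderOf_dvd_of_pow_eq_one he
        have := Nat.le_of_dvd (by omega) this
        omega
      have hcj : Helper40.cj (h ^ (j + 1)) T ≠ T := by
        intro he
        apply hpow
        have : h ^ (j + 1) ∈ stabilizer G α ⊓ normalizer (T : Set G) :=
          ⟨(stabilizer G α).pow_mem hh _, mem_normalizer_of_cj_eq he⟩
        rw [hH1, mem_bot] at this
        exact this
      obtain ⟨-, hc⟩ := (hT.eq_or (hT.cj hN.1 (h ^ (j + 1)))).resolve_left (Ne.symm hcj)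
      rw [e]
      refine ⟨N.mul_mem ih1 (hN.1.conj_mem t (hT.1 ht) _), ?_⟩
      rw [← mul_assoc]
      apply mul_mem ih2
      rw [mem_centralizer_iff]
      intro x hx
      exact hc x hx _ (conj_mem_cj ht)
  have hpos : 0 < orderOf h := orderOf_pos h
  obtain ⟨k, hk⟩ : ∃ k, orderOf h = k + 1 := ⟨orderOf h - 1, by omega⟩
  obtain ⟨hn1, hn2⟩ := key k (by omega)
  rw [← hk, pow_orderOf_eq_one, inv_one, mul_one] at hn1 hn2
  obtain ⟨n, hn⟩ : ∃ n, n = (t * h) ^ orderOf h := ⟨_, rfl⟩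
  rw [← hn] at hn1 hn2
  have hnne : n ≠ 1 := by
    intro he
    rw [he, mul_one] at hn2
    apply htt
    have := mem_centralizer_iff.1 (inv_mem hn2) t₂ ht₂
    rw [inv_inv] at this
    exact this.symm
  have hconj : h * n * h⁻¹ = n := by
    have e1 : h * n * h⁻¹ = (h * t) ^ orderOf h := by
      rw [hn, ← conj_pow]
      congr 1
      group
    have e2 : t⁻¹ * n * t⁻¹⁻¹ = (h * t) ^ orderOf h := by
      rw [hn, ← conj_pow]
      congr 1
      group
    have e3 := mem_centralizer_iff.1 hn2 t ht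
    rw [e1, ← e2, inv_inv]
    calc t⁻¹ * n * t = t * (t⁻¹ * n) := e3.symm
      _ = n := by group
  have hfix : h ∈ stabilizer G (n • α) := by
    rw [mem_stabilizer_iff, ← conj_pt α hh, hconj]
  have hne2 : α ≠ n • α := by
    intro he
    apply hnne
    apply reg_inj α hK hn1 N.one_mem
    rw [one_smul]
    exact he.symm
  apply not_le_stab hprim hH hne2
  rw [← hz, zpowers_le]
  exact hfix

end ep

end Cfsg.Agent.Lib.Helper62
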