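import Mathlib
import Cfsg.Agent.Lib.Helper62.PSEnd
import Cfsg.Agent.Lib.Helper87.FusionGroup

set_option autoImplicit false

/-! A central extension of a natural `SL₂(p)`-pair is never `p`-stable: version for all odd `p`
(the quadratic element is found on the subgroup generated by two elements inverted by the central
involution). -/

namespace Cfsg.Agent.Lib.Helper62

open Cfsg.Agent.Lib.Helper57 Cfsg.Agent.Lib.Helper57.Quad
open scoped Matrix commutatorElement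

section central

variable {p : ℕ} [hpF : Fact p.Prime] {Y : Type*} [Group Y] [Finite Y]
  {Z : Subgroup Y} [hZn : Z.Normal] {e : (Fin 2 → ZMod p) → Y ⧸ Z}

theorem not_ps_of_central_pair_odd (hp2 : p ≠ 2) (hZp : IsPGroup p Z)
    (he_add : ∀ α β, e (α + β) = e α * e β) (he_inj : Function.Injective e)
    (hZc : ∀ u : Y, (∃ α, QuotientGroup.mk' Z u = e α) → ∀ ζ ∈ Z, u * ζ = ζ * u)
    (Γ : Subgroup Y) (hΓ : ∀ γ ∈ Γ, (orderOf γ).Coprime p → ∀ ζ ∈ Z, γ * ζ = ζ * γ)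
    {s t : Y} (hs : s ∈ Γ) (ht : t ∈ Γ)
    (hsA : Acts e (QuotientGroup.mk' Z s) (Qd.uu 1 : Qd.SL2 p).1)
    (htA : Acts e (QuotientGroup.mk' Z t) (Qd.ll 1 : Qd.SL2 p).1) : ¬ ZJ.PS p Y := by
  intro hps
  set π := QuotientGroup.mk' Z with hπ
  have hker : ∀ x, π x = 1 ↔ x ∈ Z := fun x => QuotientGroup.eq_one_iff x
  have he0 : e 0 = 1 := by
    have := he_add 0 0
    rw [add_zero] at this
    exact (mul_eq_left.mp this.symm)
  have heneg : ∀ α, e (-α) = (e α)⁻¹ := by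
    intro α
    rw [eq_inv_iff_mul_eq_one, ← he_add, neg_add_cancel, he0]
  let E : Multiplicative (Fin 2 → ZMod p) →* Y ⧸ Z :=
    MonoidHom.mk' (fun a => e (Multiplicative.toAdd a)) (fun a b => he_add _ _)
  let U : Subgroup Y := E.range.comap π
  have hmemU : ∀ u, u ∈ U ↔ ∃ α, π u = e α := by
    intro u
    constructor
    · rintro ⟨a, ha⟩
      exact ⟨Multiplicative.toAdd a, ha.symm⟩
    · rintro ⟨α, hα⟩
      exact ⟨Multiplicative.ofAdd α, hα.symm⟩
  have hZU : Z ≤ U := fun ζ hζ => (hmemU ζ).2 ⟨0, by rw [he0]; exact (hker ζ).2 hζ⟩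
  have hepow : ∀ α, e α ^ p = 1 := by
    intro α
    have h1 : ∀ n : ℕ, e α ^ n = e (n • α) := by
      intro n
      induction n with
      | zero => simp [he0]
      | succ k ih => rw [pow_succ, ih, ← he_add, succ_nsmul]
    rw [h1]
    have : p • α = 0 := by
      ext i
      simp
    rw [this, he0]
  have hU : IsPGroup p U := by
    rintro ⟨u, hu⟩
    obtain ⟨α, hα⟩ := (hmemU u).1 hu
    have h1 : u ^ p ∈ Z := by
      rw [← hker, map_pow, hα, hepow]
    obtain ⟨k, hk⟩ := hZp ⟨u ^ p, h1⟩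
    refine ⟨1 + k, Subtype.ext ?_⟩
    have := congrArg Subtype.val hk
    simp only [SubmonoidClass.mk_pow, OneMemClass.coe_one] at this ⊢
    rw [pow_add, pow_one, pow_mul]
    exact this
  have hnorm : ∀ (x : Y) (A B : Matrix (Fin 2) (Fin 2) (ZMod p)), Acts e (π x) A → A * B = 1 →
      x ∈ Subgroup.normalizer (U : Set Y) := by
    intro x A B hx hAB
    rw [Subgroup.mem_normalizer_iff]
    intro h
    constructor
    · intro hh
      obtain ⟨α, hα⟩ := (hmemU h).1 hh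
      refine (hmemU _).2 ⟨A *ᵥ α, ?_⟩
      rw [map_mul, map_mul, map_inv, hα, hx]
    · intro hh
      obtain ⟨α, hα⟩ := (hmemU _).1 hh
      refine (hmemU _).2 ⟨B *ᵥ α, ?_⟩
      rw [← hx.inv hAB, ← hα]
      simp only [map_mul, map_inv]
      group
  -- elements acting trivially on the plane and on `Z`
  have hCu : ∀ x : Y, Acts e (π x) 1 → (∀ ζ ∈ Z, x * ζ = ζ * x) → ∀ u ∈ U,
      ∃ c ∈ Z, ∀ k : ℕ, x ^ k * u * (x ^ k)⁻¹ = c ^ k * u := by
    intro x hx hxZ u hu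
    obtain ⟨α, hα⟩ := (hmemU u).1 hu
    have hc : x * u * x⁻¹ * u⁻¹ ∈ Z := by
      rw [← hker]
      have h1 := hx α
      rw [Matrix.one_mulVec] at h1
      simp only [map_mul, map_inv]
      rw [hα, h1, mul_inv_cancel]
    refine ⟨_, hc, fun k => ?_⟩
    exact FC.conj_pow_of_comm (by group) (hxZ _ hc) k
  have hC1 : ∀ x : Y, Acts e (π x) 1 → (∀ ζ ∈ Z, x * ζ = ζ * x) → (orderOf x).Coprime p →
      x ∈ Subgroup.centralizer (U : Set Y) := by
    intro x hx hxZ hco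
    rw [Subgroup.mem_centralizer_iff]
    intro u hu
    obtain ⟨c, hc, hk⟩ := hCu x hx hxZ u hu
    have h1 := hk (orderOf x)
    rw [pow_orderOf_eq_one] at h1
    have h2 : c ^ orderOf x = 1 := by
      have : c ^ orderOf x * u = u := by rw [← h1]; group
      exact mul_eq_right.mp this
    obtain ⟨j, hj⟩ := hZp ⟨c, hc⟩
    have hj' : c ^ (p ^ j) = 1 := by simpa using congrArg Subtype.val hj
    have h3 : c = 1 := by
      have hd1 := orderOf_dvd_of_pow_eq_one h2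
      have hd2 := orderOf_dvd_of_pow_eq_one hj'
      have : orderOf c ∣ Nat.gcd (orderOf x) (p ^ j) := Nat.dvd_gcd hd1 hd2
      rw [Nat.Coprime.pow_right j hco] at this
      exact orderOf_eq_one_iff.mp (Nat.dvd_one.mp this)
    have h4 := hk 1
    rw [pow_one, pow_one, h3, one_mul] at h4
    calc u * x = (x * u * x⁻¹) * x := by rw [h4]
      _ = x * u := by group
  have hC2 : ∀ x : Y, Acts e (π x) 1 → (∀ ζ ∈ Z, x * ζ = ζ * x) →
      x ^ Nat.card Z ∈ Subgroup.centralizer (U : Set Y) := by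
    intro x hx hxZ
    rw [Subgroup.mem_centralizer_iff]
    intro u hu
    obtain ⟨c, hc, hk⟩ := hCu x hx hxZ u hu
    have h1 := hk (Nat.card Z)
    have h2 : c ^ Nat.card Z = 1 := by
      have h3 := congrArg Subtype.val (pow_card_eq_one' (G := Z) (x := ⟨c, hc⟩))
      rwa [Subgroup.coe_pow] at h3
    rw [h2, one_mul] at h1
    calc u * x ^ Nat.card Z = (x ^ Nat.card Z * u * (x ^ Nat.card Z)⁻¹) * x ^ Nat.card Z := by rw [h1]
      _ = x ^ Nat.card Z * u := by group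
  -- the centralizer of `Z`
  set CZ := Subgroup.centralizer (Z : Set Y) with hCZdef
  have hCZ : ∀ x, x ∈ CZ ↔ ∀ ζ ∈ Z, x * ζ = ζ * x := by
    intro x
    rw [hCZdef, Subgroup.mem_centralizer_iff]
    constructor
    · intro h ζ hζ; exact (h ζ hζ).symm
    · intro h ζ hζ; exact (h ζ hζ).symm
  have hΓ' : ∀ γ ∈ Γ, (orderOf γ).Coprime p → γ ∈ CZ := fun γ hγ hco => (hCZ γ).2 (hΓ γ hγ hco)
  have hCZn : CZ.Normal := by rw [hCZdef]; infer_instance
  obtain ⟨z₁, hz₁, hz₁A⟩ := exists_acts Γ hs ht hsA htA Qd.negI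
  obtain ⟨z, hz, hzco, hzA⟩ := exists_acts_coprime Γ hz₁ hz₁A
    (by rw [Qd.coe_negI]; exact diag_pow_card _ _)
  change Acts e (π z) !![-1, 0; 0, -1] at hzA
  have hnegsq : (!![-1, 0; 0, -1] : Matrix (Fin 2) (Fin 2) (ZMod p)) * !![-1, 0; 0, -1] = 1 := by
    ext i j; fin_cases i <;> fin_cases j <;> simp [Matrix.mul_apply, Fin.sum_univ_two]
  have hzinv : Acts e (π z)⁻¹ !![-1, 0; 0, -1] := hzA.inv hnegsq
  have hzC : z ∈ CZ := hΓ' z hz hzco
  have hzzU : z * z ∈ Subgroup.centralizer (U : Set Y) := by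
    apply hC1 _ _ ((hCZ _).1 (CZ.mul_mem hzC hzC))
    · rw [← pow_two]
      exact Nat.Coprime.coprime_dvd_left (orderOf_pow_dvd 2) hzco
    · have := hzA.mul hzA
      rwa [hnegsq, ← map_mul] at this
  obtain ⟨r, hr⟩ : ∃ r, Nat.card Z = 2 * r + 1 := by
    obtain ⟨k, hk⟩ := IsPGroup.iff_card.mp hZp
    have hodd : Odd p := hpF.out.odd_of_ne_two hp2
    obtain ⟨r, hr⟩ := hodd.pow (n := k)
    exact ⟨r, by rw [hk, hr]⟩
  have hZpow : ∀ ζ ∈ Z, ζ ^ (2 * r + 1) = 1 := by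
    intro ζ hζ
    rw [← hr]
    have h5 := congrArg Subtype.val (pow_card_eq_one' (G := Z) (x := ⟨ζ, hζ⟩))
    rwa [Subgroup.coe_pow] at h5
  have hZsq : ∀ ζ ∈ Z, ζ = ζ⁻¹ → ζ = 1 := by
    intro ζ hζ h2
    have h3 : ζ * ζ = 1 := by nth_rewrite 2 [h2]; exact mul_inv_cancel ζ
    have h4 := hZpow ζ hζ
    rw [pow_succ, pow_mul, pow_two, h3, one_pow, one_mul] at h4
    exact h4
  have hzN : z ∈ Subgroup.normalizer (U : Set Y) := hnorm z _ _ hzA hnegsq
  -- correction of an element so that it commutes with `z` on `U`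
  have hcorr : ∀ (x : Y) (A B : Matrix (Fin 2) (Fin 2) (ZMod p)), Acts e (π x) A → A * B = 1 →
      B * !![-1, 0; 0, -1] * A * !![-1, 0; 0, -1] = 1 →
      ∃ x' : Y, Acts e (π x') A ∧ x' ∈ Subgroup.normalizer (U : Set Y) ∧
        ∀ u ∈ U, z * (x' * u * x'⁻¹) * z⁻¹ = x' * (z * u * z⁻¹) * x'⁻¹ := by
    intro s₀ A B hs₀A huinv hmat
    have hs₀inv : Acts e (π s₀)⁻¹ B := hs₀A.inv huinv
    set μ := s₀⁻¹ * z * s₀ * z⁻¹ with hμ
    have hμA : Acts e (π μ) 1 := by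
      have h1 := ((hs₀inv.mul hzA).mul hs₀A).mul hzinv
      rw [hmat] at h1
      have e2 : π μ = (π s₀)⁻¹ * π z * π s₀ * (π z)⁻¹ := by
        rw [hμ]; simp only [map_mul, map_inv]
      rw [e2]; exact h1
    have hμC : μ ∈ CZ := by
      have h1 : s₀⁻¹ * z * s₀ ∈ CZ := by
        have := hCZn.conj_mem z hzC s₀⁻¹
        rwa [inv_inv] at this
      exact CZ.mul_mem h1 (CZ.inv_mem hzC)
    have hμqU : μ ^ (2 * r + 1) ∈ Subgroup.centralizer (U : Set Y) := by
      rw [← hr]; exact hC2 μ hμA ((hCZ _).1 hμC)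
    have hs₀N : s₀ ∈ Subgroup.normalizer (U : Set Y) := hnorm s₀ _ _ hs₀A huinv
    set s' := s₀ * μ ^ (r + 1) with hs'
    have hμN : μ ∈ Subgroup.normalizer (U : Set Y) := hnorm μ 1 1 hμA (one_mul 1)
    have hs'N : s' ∈ Subgroup.normalizer (U : Set Y) :=
      Subgroup.mul_mem _ hs₀N (Subgroup.pow_mem _ hμN _)
    refine ⟨s', ?_, hs'N, ?_⟩
    · have h1 := hs₀A.mul (hμA.pow (r + 1))
      rw [one_pow, mul_one, ← map_pow, ← map_mul] at h1
      exact h1
    let θ := U.normalizerMonoidHom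
    have hθ1 : ∀ (x : Y) (hx : x ∈ Subgroup.normalizer (U : Set Y)),
        x ∈ Subgroup.centralizer (U : Set Y) → θ ⟨x, hx⟩ = 1 := by
      intro x hx hxc
      rw [← MonoidHom.mem_ker, Subgroup.normalizerMonoidHom_ker, Subgroup.mem_subgroupOf]
      exact hxc
    have hι : θ ⟨z, hzN⟩ * θ ⟨z, hzN⟩ = 1 := by
      rw [← map_mul]
      exact hθ1 (z * z) _ hzzU
    have hm : (θ ⟨s₀, hs₀N⟩)⁻¹ * θ ⟨z, hzN⟩ * θ ⟨s₀, hs₀N⟩ * (θ ⟨z, hzN⟩)⁻¹ = θ ⟨μ, hμN⟩ := by
      rw [← map_inv, ← map_inv, ← map_mul, ← map_mul, ← map_mul]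
      rfl
    have hq : ((θ ⟨s₀, hs₀N⟩)⁻¹ * θ ⟨z, hzN⟩ * θ ⟨s₀, hs₀N⟩ * (θ ⟨z, hzN⟩)⁻¹) ^ (2 * r + 1) = 1 := by
      rw [hm, ← map_pow]
      exact hθ1 (μ ^ (2 * r + 1)) _ hμqU
    have hcc := commute_correction hι hq
    rw [hm, ← map_pow, ← map_mul, ← map_mul, ← map_mul] at hcc
    intro u hu
    have h1 := congrArg Subtype.val (DFunLike.congr_fun hcc ⟨u, hu⟩)
    have h2 : ∀ (x : Y) (hx : x ∈ Subgroup.normalizer (U : Set Y)),
        ((θ ⟨x, hx⟩ ⟨u, hu⟩ : U) : Y) = x * u * x⁻¹ := fun x hx => rfl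
    have e1 : (⟨z, hzN⟩ * (⟨s₀, hs₀N⟩ * ⟨μ, hμN⟩ ^ (r + 1)) : Subgroup.normalizer (U : Set Y)) =
        ⟨z * s', Subgroup.mul_mem _ hzN hs'N⟩ := rfl
    have e2 : ((⟨s₀, hs₀N⟩ * ⟨μ, hμN⟩ ^ (r + 1)) * ⟨z, hzN⟩ : Subgroup.normalizer (U : Set Y)) =
        ⟨s' * z, Subgroup.mul_mem _ hs'N hzN⟩ := rfl
    rw [e1, e2, h2, h2] at h1
    calc z * (s' * u * s'⁻¹) * z⁻¹ = z * s' * u * (z * s')⁻¹ := by group
      _ = s' * z * u * (s' * z)⁻¹ := h1
      _ = s' * (z * u * z⁻¹) * s'⁻¹ := by group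
  change Acts e (π s) !![1, 1; 0, 1] at hsA
  change Acts e (π t) !![1, 0; 1, 1] at htA
  have huinv : (!![1, 1; 0, 1] : Matrix (Fin 2) (Fin 2) (ZMod p)) * !![1, -1; 0, 1] = 1 := by
    ext i j; fin_cases i <;> fin_cases j <;> simp [Matrix.mul_apply, Fin.sum_univ_two]
  have htinv : (!![1, 0; 1, 1] : Matrix (Fin 2) (Fin 2) (ZMod p)) * !![1, 0; -1, 1] = 1 := by
    ext i j; fin_cases i <;> fin_cases j <;> simp [Matrix.mul_apply, Fin.sum_univ_two]
  obtain ⟨s', hs'A, hs'N, hs'z⟩ := hcorr s _ _ hsA huinv (by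
    ext i j; fin_cases i <;> fin_cases j <;> simp [Matrix.mul_apply, Fin.sum_univ_two])
  obtain ⟨t', ht'A, ht'N, ht'z⟩ := hcorr t _ _ htA htinv (by
    ext i j; fin_cases i <;> fin_cases j <;> simp [Matrix.mul_apply, Fin.sum_univ_two])
  -- elements inverted by `z`
  have huniq : ∀ u ∈ U, ∀ u' ∈ U, z * u * z⁻¹ = u⁻¹ → z * u' * z⁻¹ = u'⁻¹ → π u = π u' →
      u = u' := by
    intro u hu u' hu' h1 h2 h3
    set ζ := u⁻¹ * u' with hζdef
    have hζ : ζ ∈ Z := by rw [← hker, hζdef, map_mul, map_inv, h3, inv_mul_cancel]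
    have e1 : u' = u * ζ := by rw [hζdef]; group
    have c1 : z * ζ = ζ * z := (hCZ z).1 hzC ζ hζ
    have c3 : u * ζ = ζ * u := hZc u ((hmemU u).1 hu) ζ hζ
    have h4 : u⁻¹ * ζ = u⁻¹ * ζ⁻¹ := by
      calc u⁻¹ * ζ = (z * u * z⁻¹) * ((z * ζ) * z⁻¹) := by rw [h1, c1]; group
        _ = z * (u * ζ) * z⁻¹ := by group
        _ = (u * ζ)⁻¹ := by rw [← e1, h2]
        _ = (ζ * u)⁻¹ := by rw [c3]
        _ = u⁻¹ * ζ⁻¹ := by group
    have h5 := hZsq ζ hζ (mul_left_cancel h4)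
    rw [e1, h5, mul_one]
  have hnegv : ∀ α : Fin 2 → ZMod p,
      (!![-1, 0; 0, -1] : Matrix (Fin 2) (Fin 2) (ZMod p)) *ᵥ α = -α := by
    intro α
    ext i
    fin_cases i <;> simp [Matrix.mulVec, dotProduct, Fin.sum_univ_two]
  have hexI : ∀ α, ∃ u ∈ U, z * u * z⁻¹ = u⁻¹ ∧ π u = e α := by
    intro α
    obtain ⟨u₀, hu₀⟩ := QuotientGroup.mk'_surjective Z (e α)
    change π u₀ = e α at hu₀
    have hu₀U : u₀ ∈ U := (hmemU u₀).2 ⟨α, hu₀⟩
    set η := u₀ * (z * u₀ * z⁻¹) with hηdef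
    have hη : η ∈ Z := by
      rw [← hker, hηdef]
      simp only [map_mul, map_inv]
      rw [hu₀, hzA, hnegv, heneg, mul_inv_cancel]
    have hηr : η ^ r ∈ Z := Z.pow_mem hη r
    refine ⟨u₀ * η ^ r, U.mul_mem hu₀U (hZU hηr), ?_, ?_⟩
    · have c1 : z * η ^ r = η ^ r * z := (hCZ z).1 hzC _ hηr
      have c3 : u₀ * η ^ r = η ^ r * u₀ := hZc u₀ ⟨α, hu₀⟩ _ hηr
      have e2 : z * u₀ * z⁻¹ = u₀⁻¹ * η := by rw [hηdef]; group
      have h6 : η * η ^ r = (η ^ r)⁻¹ := by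
        apply eq_inv_of_mul_eq_one_left
        have := hZpow η hη
        calc η * η ^ r * η ^ r = η ^ (2 * r + 1) := by
              rw [← pow_succ', ← pow_add]; congr 1; ring
          _ = 1 := this
      calc z * (u₀ * η ^ r) * z⁻¹ = (z * u₀ * z⁻¹) * ((z * η ^ r) * z⁻¹) := by group
        _ = u₀⁻¹ * (η * η ^ r) := by rw [e2, c1]; group
        _ = u₀⁻¹ * (η ^ r)⁻¹ := by rw [h6]
        _ = (η ^ r * u₀)⁻¹ := by group
        _ = (u₀ * η ^ r)⁻¹ := by rw [c3]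
    · rw [map_mul, hu₀, (hker _).2 hηr, mul_one]
  obtain ⟨a, haU, haz, haπ⟩ := hexI ![1, 0]
  obtain ⟨b, hbU, hbz, hbπ⟩ := hexI ![0, 1]
  have hecomm : ∀ α β, e α * e β = e β * e α := by
    intro α β
    rw [← he_add, ← he_add, add_comm]
  set c := a * b * a⁻¹ * b⁻¹ with hc
  have hcZ : c ∈ Z := by
    rw [← hker, hc]
    simp only [map_mul, map_inv]
    rw [haπ, hbπ, hecomm ![1, 0] ![0, 1]]
    group
  set k := c ^ (r + 1) with hk
  have hkZ : k ∈ Z := Z.pow_mem hcZ _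
  have hak : a * k = k * a := hZc a ⟨_, haπ⟩ k hkZ
  have hbk : b * k = k * b := hZc b ⟨_, hbπ⟩ k hkZ
  have hac : a * c = c * a := hZc a ⟨_, haπ⟩ c hcZ
  have hbc : b * c = c * b := hZc b ⟨_, hbπ⟩ c hcZ
  have hzk : z * k = k * z := (hCZ z).1 hzC k hkZ
  set d := b * a * k with hd
  have hdU : d ∈ U := U.mul_mem (U.mul_mem hbU haU) (hZU hkZ)
  have hdπ : π d = e ![1, 1] := by
    rw [hd, map_mul, map_mul, (hker _).2 hkZ, mul_one, haπ, hbπ, ← he_add]
    congr 1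
    ext i
    fin_cases i <;> simp
  have hdz : z * d * z⁻¹ = d⁻¹ := by
    have h6 : c⁻¹ * k = k⁻¹ := by
      apply eq_inv_of_mul_eq_one_left
      have h7 := hZpow c hcZ
      have h8 : k * k = c ^ (2 * r + 1) * c := by
        rw [hk, ← pow_add, ← pow_succ]; congr 1; ring
      calc c⁻¹ * k * k = c⁻¹ * (k * k) := by group
        _ = 1 := by rw [h8, h7, one_mul, inv_mul_cancel]
    have h9 : b⁻¹ * a⁻¹ = a⁻¹ * b⁻¹ * c⁻¹ := by rw [hc]; group
    calc z * d * z⁻¹ = (z * b * z⁻¹) * (z * a * z⁻¹) * ((z * k) * z⁻¹) := by rw [hd]; group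
      _ = b⁻¹ * a⁻¹ * k := by rw [hbz, haz, hzk]; group
      _ = a⁻¹ * b⁻¹ * (c⁻¹ * k) := by rw [h9]; group
      _ = a⁻¹ * b⁻¹ * k⁻¹ := by rw [h6]
      _ = (k * (b * a))⁻¹ := by group
      _ = d⁻¹ := by
        congr 1
        rw [hd]
        calc k * (b * a) = (k * b) * a := by group
          _ = b * (k * a) := by rw [← hbk]; group
          _ = b * a * k := by rw [← hak]; group
  -- the action of the corrected elements
  have hIc : ∀ x' : Y, x' ∈ Subgroup.normalizer (U : Set Y) →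
      (∀ u ∈ U, z * (x' * u * x'⁻¹) * z⁻¹ = x' * (z * u * z⁻¹) * x'⁻¹) →
      ∀ (A : Matrix (Fin 2) (Fin 2) (ZMod p)), Acts e (π x') A →
      ∀ u ∈ U, z * u * z⁻¹ = u⁻¹ → ∀ u' ∈ U, z * u' * z⁻¹ = u'⁻¹ →
      ∀ α, π u = e α → π u' = e (A *ᵥ α) → x' * u * x'⁻¹ = u' := by
    intro x' hx'N hx'z A hx'A u hu huz u' hu' hu'z α hα hα'
    apply huniq _ ((Subgroup.mem_normalizer_iff.mp hx'N u).1 hu) _ hu' _ hu'z
    · simp only [map_mul, map_inv]
      rw [hα, hx'A, hα']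
    · rw [hx'z u hu, huz]; group
  have hs'a : s' * a * s'⁻¹ = a := hIc s' hs'N hs'z _ hs'A a haU haz a haU haz _ haπ (by
    rw [haπ]; congr 1; ext i
    fin_cases i <;> simp [Matrix.mulVec, dotProduct, Fin.sum_univ_two])
  have hs'b : s' * b * s'⁻¹ = d := hIc s' hs'N hs'z _ hs'A b hbU hbz d hdU hdz _ hbπ (by
    rw [hdπ]; congr 1; ext i
    fin_cases i <;> simp [Matrix.mulVec, dotProduct, Fin.sum_univ_two])
  have ht'a : t' * a * t'⁻¹ = d := hIc t' ht'N ht'z _ ht'A a haU haz d hdU hdz _ haπ (by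
    rw [hdπ]; congr 1; ext i
    fin_cases i <;> simp [Matrix.mulVec, dotProduct, Fin.sum_univ_two])
  have ht'b : t' * b * t'⁻¹ = b := hIc t' ht'N ht'z _ ht'A b hbU hbz b hbU hbz _ hbπ (by
    rw [hbπ]; congr 1; ext i
    fin_cases i <;> simp [Matrix.mulVec, dotProduct, Fin.sum_univ_two])
  set E₁ := Subgroup.closure ({a, b} : Set Y) with hE₁
  have haE : a ∈ E₁ := Subgroup.subset_closure (by simp)
  have hbE : b ∈ E₁ := Subgroup.subset_closure (by simp)
  have hcE : c ∈ E₁ :=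
    E₁.mul_mem (E₁.mul_mem (E₁.mul_mem haE hbE) (E₁.inv_mem haE)) (E₁.inv_mem hbE)
  have hdE : d ∈ E₁ := E₁.mul_mem (E₁.mul_mem hbE haE) (E₁.pow_mem hcE _)
  have hE₁U : E₁ ≤ U := by
    rw [hE₁, Subgroup.closure_le]
    rintro x (rfl | hx)
    · exact haU
    · rw [Set.mem_singleton_iff] at hx; subst hx; exact hbU
  have hnormE : ∀ x' : Y, x' * a * x'⁻¹ ∈ E₁ → x' * b * x'⁻¹ ∈ E₁ →
      x' ∈ Subgroup.normalizer (E₁ : Set Y) := by
    intro x' h1 h2
    apply ZJ.mem_normalizer_of_cj_le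
    unfold ZJ.cj
    rw [hE₁, MonoidHom.map_closure, Subgroup.closure_le]
    rintro _ ⟨y, (rfl | hy), rfl⟩
    · exact h1
    · rw [Set.mem_singleton_iff] at hy; subst hy; exact h2
  have hs'E : s' ∈ Subgroup.normalizer (E₁ : Set Y) :=
    hnormE s' (by rw [hs'a]; exact haE) (by rw [hs'b]; exact hdE)
  have ht'E : t' ∈ Subgroup.normalizer (E₁ : Set Y) :=
    hnormE t' (by rw [ht'a]; exact hdE) (by rw [ht'b]; exact hbE)
  set M := Subgroup.closure ({a, c} : Set Y) with hM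
  have haM : a ∈ M := Subgroup.subset_closure (by simp)
  have hcM : c ∈ M := Subgroup.subset_closure (by simp)
  have hs'c : s' * c * s'⁻¹ = c := by
    calc s' * c * s'⁻¹ = (s' * a * s'⁻¹) * (s' * b * s'⁻¹) * (s' * a * s'⁻¹)⁻¹ *
          (s' * b * s'⁻¹)⁻¹ := by rw [hc]; group
      _ = a * d * a⁻¹ * d⁻¹ := by rw [hs'a, hs'b]
      _ = a * b * ((a * k) * a⁻¹ * k⁻¹) * a⁻¹ * b⁻¹ := by rw [hd]; group
      _ = c := by rw [hak, hc]; group
  have hs'M : ∀ m ∈ M, s' * m = m * s' := by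
    have : M ≤ Subgroup.centralizer ({s'} : Set Y) := by
      rw [hM, Subgroup.closure_le]
      rintro x (rfl | hx)
      · rw [SetLike.mem_coe, Subgroup.mem_centralizer_singleton_iff]
        calc x * s' = (s' * x * s'⁻¹) * s' := by rw [hs'a]
          _ = s' * x := by group
      · rw [Set.mem_singleton_iff] at hx
        rw [hx, SetLike.mem_coe, Subgroup.mem_centralizer_singleton_iff]
        calc c * s' = (s' * c * s'⁻¹) * s' := by rw [hs'c]
          _ = s' * c := by group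
    intro m hm
    exact (Subgroup.mem_centralizer_singleton_iff.mp (this hm)).symm
  have hbM : b ∈ Subgroup.normalizer (M : Set Y) := by
    apply ZJ.mem_normalizer_of_cj_le
    unfold ZJ.cj
    rw [hM, MonoidHom.map_closure, Subgroup.closure_le]
    rintro _ ⟨y, (rfl | hy), rfl⟩
    · have : (MulAut.conj b).toMonoidHom y = c⁻¹ * y := by
        change b * y * b⁻¹ = c⁻¹ * y
        rw [hc]; group
      rw [this]
      exact M.mul_mem (M.inv_mem hcM) haM
    · rw [Set.mem_singleton_iff] at hy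
      have : (MulAut.conj b).toMonoidHom y = c := by
        change b * y * b⁻¹ = c
        rw [hy, hbc]; group
      rw [this]; exact hcM
  have hE₁M : E₁ ≤ Subgroup.zpowers b ⊔ M := by
    rw [hE₁, Subgroup.closure_le]
    rintro x (rfl | hx)
    · exact (le_sup_right : M ≤ _) haM
    · rw [Set.mem_singleton_iff] at hx; subst hx
      exact (le_sup_left : Subgroup.zpowers x ≤ _) (Subgroup.mem_zpowers x)
  have hMline : ∀ m ∈ M, ∃ j : ZMod p, π m = e ![j, 0] := by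
    intro m hm
    induction hm using Subgroup.closure_induction with
    | mem x hx =>
      rcases hx with rfl | hx
      · exact ⟨1, haπ⟩
      · rw [Set.mem_singleton_iff] at hx
        refine ⟨0, ?_⟩
        rw [hx, (hker c).2 hcZ, ← he0]
        congr 1
        ext i; fin_cases i <;> simp
    | one =>
      refine ⟨0, ?_⟩
      rw [map_one, ← he0]
      congr 1
      ext i; fin_cases i <;> simp
    | mul x y _ _ hx hy =>
      obtain ⟨i, hi⟩ := hx
      obtain ⟨j, hj⟩ := hy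
      refine ⟨i + j, ?_⟩
      rw [map_mul, hi, hj, ← he_add]
      congr 1
      ext l; fin_cases l <;> simp
    | inv x _ hx =>
      obtain ⟨i, hi⟩ := hx
      refine ⟨-i, ?_⟩
      rw [map_inv, hi, ← heneg]
      congr 1
      ext l; fin_cases l <;> simp
  have hbline : ∀ y ∈ Subgroup.zpowers b, (∃ j : ZMod p, π y = e ![0, j]) ∧ z * y * z⁻¹ = y⁻¹ ∧
      y ∈ U := by
    intro y hy
    refine ⟨?_, ?_, (Subgroup.zpowers_le.mpr hbU) hy⟩
    · rw [Subgroup.zpowers_eq_closure] at hy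
      induction hy using Subgroup.closure_induction with
      | mem x hx =>
        rw [Set.mem_singleton_iff] at hx
        exact ⟨1, by rw [hx]; exact hbπ⟩
      | one =>
        refine ⟨0, ?_⟩
        rw [map_one, ← he0]
        congr 1
        ext i; fin_cases i <;> simp
      | mul x y _ _ hx hy =>
        obtain ⟨i, hi⟩ := hx
        obtain ⟨j, hj⟩ := hy
        refine ⟨i + j, ?_⟩
        rw [map_mul, hi, hj, ← he_add]
        congr 1
        ext l; fin_cases l <;> simp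
      | inv x _ hx =>
        obtain ⟨i, hi⟩ := hx
        refine ⟨-i, ?_⟩
        rw [map_inv, hi, ← heneg]
        congr 1
        ext l; fin_cases l <;> simp
    · obtain ⟨j, rfl⟩ := Subgroup.mem_zpowers_iff.mp hy
      rw [← conj_zpow, hbz, inv_zpow]
  have hkeyM : ∀ y ∈ E₁, (∃ j : ZMod p, π y = e ![j, 0]) → y ∈ M := by
    rintro y hy ⟨j, hj⟩
    obtain ⟨y', hy', m, hm, rfl⟩ := Cfsg.Agent.Lib.Helper87.mem_sup_of_normalizes
      (A := Subgroup.zpowers b) (B := M)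
      (fun x hx m hm => ZJ.conj_mem_of_mem_normalizer ((Subgroup.zpowers_le.mpr hbM) hx) hm)
      (hE₁M hy)
    obtain ⟨⟨i, hi⟩, hy'z, hy'U⟩ := hbline y' hy'
    obtain ⟨l, hl⟩ := hMline m hm
    rw [map_mul, hi, hl, ← he_add] at hj
    have h1 := congrFun (he_inj hj) 1
    simp at h1
    have h2 : y' = 1 := by
      apply huniq y' hy'U 1 U.one_mem hy'z (by group)
      rw [hi, h1, map_one, ← he0]
      congr 1
      ext l; fin_cases l <;> simp
    rw [h2, one_mul]; exact hm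
  have hZ : ∀ y ∈ Subgroup.zpowers s', ∃ c : ZMod p, Acts e (π y) !![1, c; 0, 1] := by
    let S₀ : Subgroup Y :=
      { carrier := {y | ∃ c : ZMod p, Acts e (π y) !![1, c; 0, 1]}
        one_mem' := ⟨0, by
          have : (!![1, 0; 0, 1] : Matrix (Fin 2) (Fin 2) (ZMod p)) = 1 := by
            ext i j; fin_cases i <;> fin_cases j <;> simp
          rw [this, map_one]; exact Acts.one⟩
        mul_mem' := by
          rintro a b ⟨c, hc⟩ ⟨d, hd⟩
          refine ⟨d + c, ?_⟩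
          have : (!![1, d + c; 0, 1] : Matrix (Fin 2) (Fin 2) (ZMod p)) =
              !![1, c; 0, 1] * !![1, d; 0, 1] := by
            ext i j; fin_cases i <;> fin_cases j <;> simp [Matrix.mul_apply, Fin.sum_univ_two]
          rw [this, map_mul]; exact hc.mul hd
        inv_mem' := by
          rintro a ⟨c, hc⟩
          refine ⟨-c, ?_⟩
          rw [map_inv]
          apply hc.inv
          ext i j; fin_cases i <;> fin_cases j <;> simp [Matrix.mul_apply, Fin.sum_univ_two] }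
    have : Subgroup.zpowers s' ≤ S₀ := by
      rw [Subgroup.zpowers_le]; exact ⟨1, hs'A⟩
    exact fun y hy => this hy
  have hq : ⁅⁅E₁, Subgroup.zpowers s'⁆, Subgroup.zpowers s'⁆ = ⊥ := by
    rw [Subgroup.commutator_eq_bot_iff_le_centralizer, Subgroup.commutator_le]
    intro u hu y hy
    obtain ⟨α, hα⟩ := (hmemU u).1 (hE₁U hu)
    obtain ⟨c', hc'⟩ := hZ y hy
    have h1 : π ⁅u, y⁆ = e ![-(c' * α 1), 0] := by
      have h2 : π ⁅u, y⁆ = e α * (π y * e (-α) * (π y)⁻¹) := by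
        rw [commutatorElement_def, heneg]
        simp only [map_mul, map_inv]
        rw [hα]; group
      rw [h2, hc', ← he_add]
      congr 1
      ext i
      fin_cases i <;> simp [Matrix.mulVec, dotProduct, Fin.sum_univ_two]
    have hyE : y ∈ Subgroup.normalizer (E₁ : Set Y) := (Subgroup.zpowers_le.mpr hs'E) hy
    have h2 : ⁅u, y⁆ ∈ E₁ := by
      rw [commutatorElement_def]
      have h3 : y * u⁻¹ * y⁻¹ ∈ E₁ := ZJ.conj_mem_of_mem_normalizer hyE (E₁.inv_mem hu)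
      have h4 : u * y * u⁻¹ * y⁻¹ = u * (y * u⁻¹ * y⁻¹) := by group
      rw [h4]; exact E₁.mul_mem hu h3
    have h3 := hs'M _ (hkeyM _ h2 ⟨_, h1⟩)
    have h4 : s' ∈ Subgroup.centralizer ({⁅u, y⁆} : Set Y) := by
      rw [Subgroup.mem_centralizer_singleton_iff]
      exact h3
    rw [Subgroup.mem_centralizer_iff]
    intro y' hy'
    have h5 : y' ∈ Subgroup.centralizer ({⁅u, y⁆} : Set Y) :=
      (Subgroup.zpowers_le.mpr h4) hy'
    exact (Subgroup.mem_centralizer_singleton_iff.mp h5)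
  obtain ⟨K, hsK, hNK, hpow⟩ := hps E₁ (hU.to_le hE₁U) s' hs'E hq
  have h1 : t' * s' * t'⁻¹ ∈ K := ZJ.conj_mem_of_mem_normalizer (hNK ht'E) hsK
  obtain ⟨n, hn⟩ := hpow _ (K.mul_mem hsK h1)
  have hA : Acts e (π (s' * (t' * s' * t'⁻¹))) !![-1, 3; -1, 2] := by
    have := hs'A.mul ((ht'A.mul hs'A).mul (ht'A.inv htinv))
    have e1 : (!![1, 1; 0, 1] : Matrix (Fin 2) (Fin 2) (ZMod p)) *
        (!![1, 0; 1, 1] * !![1, 1; 0, 1] * !![1, 0; -1, 1]) = !![-1, 3; -1, 2] := by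
      ext i j
      fin_cases i <;> fin_cases j <;> simp [Matrix.mul_apply, Fin.sum_univ_two] <;> ring
    rw [e1] at this
    have e2 : π (s' * (t' * s' * t'⁻¹)) = π s' * (π t' * π s' * (π t')⁻¹) := by
      simp only [map_mul, map_inv]
    rw [e2]; exact this
  set A : Matrix (Fin 2) (Fin 2) (ZMod p) := !![-1, 3; -1, 2] with hAdef
  have hfix : (A ^ (p ^ n)) *ᵥ ![1, 0] = ![1, 0] := by
    apply he_inj
    rw [← hA.pow (p ^ n) ![1, 0]]
    have h2 := Subgroup.mem_centralizer_iff.mp hn a haE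
    have h3 := congrArg π h2
    rw [map_mul, map_mul, map_pow, haπ] at h3
    rw [← h3]; group
  have hB : (A - 1) ^ (p ^ n) = A ^ (p ^ n) - 1 := by
    rw [sub_pow_char_pow_of_commute (p := p) (n := n) (Commute.one_right A), one_pow]
  have hdet : (A - 1).det = 1 := by
    rw [hAdef, Matrix.det_fin_two]
    simp
    ring
  have hdet' : ((A - 1) ^ (p ^ n)).det ≠ 0 := by
    rw [Matrix.det_pow, hdet, one_pow]; exact one_ne_zero
  have hz0 := Matrix.eq_zero_of_mulVec_eq_zero hdet' (v := ![1, 0]) (by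
    rw [hB, Matrix.sub_mulVec, hfix, Matrix.one_mulVec, sub_self])
  have := congrFun hz0 0
  simp at this

end central

end Cfsg.Agent.Lib.Helper62
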