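import Mathlib
import Cfsg.Agent.Lib.Helper62.PSEnd3
import Cfsg.Agent.Lib.Helper62.PSQuot

set_option autoImplicit false

/-! `p`-stability passes to the quotient by a normal `p`-subgroup centralized by all `p'`-elements:
version for all odd `p` (same proofs as `ps_key`, `PS.quot_p`, with `not_ps_of_central_pair_odd`). -/

namespace Cfsg.Agent.Lib.Helper62

open Cfsg.Agent.Lib.Helper57 Cfsg.Agent.Lib.Helper57.Quad
open scoped Matrix commutatorElement

variable {p : ℕ} [hpF : Fact p.Prime]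

theorem ps_key_odd (hp2 : p ≠ 2) {Y : Type*} [Group Y] [Finite Y] (hps : ZJ.PS p Y)
    (A R : Subgroup Y) [hAn : A.Normal] [hRn : R.Normal] (hA : IsPGroup p A)
    (hR : ∀ y : Y, (orderOf y).Coprime p → y ∈ Subgroup.centralizer (R : Set Y))
    (g : Y) (hq : ∀ a ∈ A, ⁅g, ⁅g, a⁆⁆ ∈ R) :
    ∀ γ ∈ Subgroup.normalClosure ({g} : Set Y), (orderOf γ).Coprime p → ∀ a ∈ A, ⁅γ, a⁆ ∈ R := by
  by_contra hcon
  push Not at hcon
  obtain ⟨γ₀, hγ₀, hγ₀co, a₀, ha₀, hγa⟩ := hcon
  set Γ := Subgroup.normalClosure ({g} : Set Y) with hΓdef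
  have hΓn : Γ.Normal := Subgroup.normalClosure_normal
  set S : Set Y := {γ | γ ∈ Γ ∧ (orderOf γ).Coprime p} with hS
  set Γ₀ := Subgroup.normalClosure S with hΓ₀def
  have hΓ₀n : Γ₀.Normal := Subgroup.normalClosure_normal
  have hSΓ₀ : ∀ γ ∈ Γ, (orderOf γ).Coprime p → γ ∈ Γ₀ :=
    fun γ h1 h2 => Subgroup.subset_normalClosure ⟨h1, h2⟩
  -- criterion for `Γ₀` to centralize a normal subgroup
  have hcrit : ∀ P : Subgroup Y, P.Normal →
      (∀ γ ∈ Γ, (orderOf γ).Coprime p → ∀ u ∈ P, γ * u = u * γ) →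
      Γ₀ ≤ Subgroup.centralizer (P : Set Y) := by
    intro P hP h
    apply Subgroup.normalClosure_le_normal
    rintro γ ⟨h1, h2⟩
    rw [SetLike.mem_coe, Subgroup.mem_centralizer_iff]
    intro u hu
    exact (h γ h1 h2 u hu).symm
  let PP : Set (Subgroup Y) := {P | P.Normal ∧ P ≤ A ∧ ¬ Γ₀ ≤ Subgroup.centralizer (P : Set Y)}
  have hAPP : A ∈ PP := by
    refine ⟨hAn, le_rfl, fun h => hγa ?_⟩
    have h1 := Subgroup.mem_centralizer_iff.mp (h (hSΓ₀ γ₀ hγ₀ hγ₀co)) a₀ ha₀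
    have : ⁅γ₀, a₀⁆ = 1 := by
      rw [commutatorElement_eq_one_iff_mul_comm]; exact h1.symm
    rw [this]; exact R.one_mem
  obtain ⟨P, hPmin⟩ := (Set.toFinite PP).exists_minimal ⟨A, hAPP⟩
  obtain ⟨⟨hPn, hPA, hPΓ⟩, hPm⟩ := hPmin
  have hPp : IsPGroup p P := hA.to_le hPA
  have hmin : ∀ P' : Subgroup Y, P'.Normal → P' ≤ P → P' ≠ P →
      Γ₀ ≤ Subgroup.centralizer (P' : Set Y) := by
    intro P' hn hle hne
    by_contra h
    exact hne (le_antisymm hle (hPm ⟨hn, hle.trans hPA, h⟩ hle))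
  have hPne : P ≠ ⊥ := by
    rintro rfl
    apply hPΓ
    intro x _
    rw [Subgroup.mem_centralizer_iff]
    intro u hu
    rw [SetLike.mem_coe, Subgroup.mem_bot] at hu
    rw [hu, one_mul, mul_one]
  have hppow : ∀ c ∈ P, ∃ k : ℕ, c ^ (p ^ k) = 1 := by
    intro c hc
    obtain ⟨k, hk⟩ := hPp ⟨c, hc⟩
    exact ⟨k, by simpa using congrArg Subtype.val hk⟩
  set Z₁ := P ⊓ Subgroup.centralizer (Γ₀ : Set Y) with hZ₁
  have hZ₁n : Z₁.Normal := by rw [hZ₁]; infer_instance
  have hZ₁P : Z₁ ≤ P := inf_le_left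
  have hZ₁Γ : ∀ γ ∈ Γ₀, ∀ ζ ∈ Z₁, γ * ζ = ζ * γ := by
    intro γ hγ ζ hζ
    exact Subgroup.mem_centralizer_iff.mp hζ.2 γ hγ
  have hleZ₁ : ∀ P' : Subgroup Y, P'.Normal → P' ≤ P → P' ≠ P → P' ≤ Z₁ := by
    intro P' hn hle hne
    exact le_inf hle (Subgroup.le_centralizer_iff.mp (hmin P' hn hle hne))
  -- (i)
  have hi : ⁅P, Γ₀⁆ = P := by
    by_contra hne
    have h1 := hmin ⁅P, Γ₀⁆ inferInstance (Subgroup.commutator_le_left P Γ₀) hne
    apply hPΓ
    apply hcrit P hPn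
    intro γ hγ hco u hu
    have hc : γ * u * γ⁻¹ * u⁻¹ ∈ ⁅P, Γ₀⁆ := by
      rw [Subgroup.commutator_comm]
      exact Subgroup.commutator_mem_commutator (hSΓ₀ γ hγ hco) hu
    apply commute_of_coprime hco
    · exact (Subgroup.mem_centralizer_iff.mp (h1 (hSΓ₀ γ hγ hco)) _ hc).symm
    · exact hppow _ (Subgroup.commutator_le_left P Γ₀ hc)
  -- (iii)
  have hiii : ⁅P, Z₁⁆ = ⊥ := by
    have hT : ⁅Z₁, P⁆ ≠ P := by
      intro h
      have h1 : ⁅Z₁, P⁆ ≤ ⁅P, P⁆ := Subgroup.commutator_mono hZ₁P le_rfl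
      rw [h] at h1
      exact absurd h1 (not_le_of_gt (ZJ.commutator_lt_of_isPGroup hPp hPne))
    have h1 := hleZ₁ ⁅Z₁, P⁆ inferInstance (Subgroup.commutator_le_right Z₁ P) hT
    have h2 : ⁅⁅Z₁, P⁆, Γ₀⁆ = ⊥ := by
      rw [Subgroup.commutator_eq_bot_iff_le_centralizer]
      exact h1.trans inf_le_right
    have h3 : ⁅⁅Γ₀, Z₁⁆, P⁆ = ⊥ := by
      have : ⁅Γ₀, Z₁⁆ = ⊥ := by
        rw [Subgroup.commutator_comm, Subgroup.commutator_eq_bot_iff_le_centralizer]
        exact inf_le_right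
      rw [this, Subgroup.commutator_bot_left]
    have h4 := Subgroup.commutator_commutator_eq_bot_of_rotate h3 h2
    rwa [hi] at h4
  have hPZ : ∀ u ∈ P, ∀ ζ ∈ Z₁, u * ζ = ζ * u := by
    intro u hu ζ hζ
    rw [Subgroup.commutator_eq_bot_iff_le_centralizer] at hiii
    exact Subgroup.mem_centralizer_iff.mp (hiii hu) ζ hζ |>.symm
  -- (iv)
  have hfr : frat p P ≤ Z₁ := by
    apply hleZ₁ _ _ (frat_le p P) (frat_lt hPp hPne).ne
    rw [← Subgroup.normalizer_eq_top_iff, eq_top_iff]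
    refine le_trans ?_ (normalizer_le_normalizer_frat p P)
    rw [Subgroup.normalizer_eq_top_iff.mpr hPn]
  -- (v)
  have hPR : P ⊓ R ≤ Z₁ := by
    apply le_inf inf_le_left
    refine inf_le_right.trans (Subgroup.le_centralizer_iff.mp ?_)
    apply Subgroup.normalClosure_le_normal
    rintro γ ⟨_, h2⟩
    exact hR γ h2
  -- the module `P / Z₁`
  set π := QuotientGroup.mk' Z₁ with hπ
  have hπs : Function.Surjective π := QuotientGroup.mk'_surjective _
  have hker : ∀ x, π x = 1 ↔ x ∈ Z₁ := fun x => QuotientGroup.eq_one_iff x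
  let V : Subgroup (Y ⧸ Z₁) := P.map π
  have hV : V.Normal := hPn.map π hπs
  let D : EA p (Y ⧸ Z₁) := ⟨V, hV,
    (by
      rintro _ ⟨a, ha, rfl⟩ _ ⟨b, hb, rfl⟩
      have h1 : π ⁅a, b⁆ = 1 := (hker _).mpr (hfr (commutator_mem_frat p ha hb))
      rw [map_commutatorElement, commutatorElement_eq_one_iff_mul_comm] at h1
      exact h1),
    (by
      rintro _ ⟨a, ha, rfl⟩
      rw [← map_pow]
      exact (hker _).mpr (hfr (pow_mem_frat p ha)))⟩
  have hsub : ∀ m : D.Mod, EA.val ((D.rho (π g) - 1) m) = ⁅π g, EA.val m⁆ := by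
    intro m
    rw [LinearMap.sub_apply, Module.End.one_apply, sub_eq_add_neg, EA.val_add, EA.val_neg,
      EA.val_rho, commutatorElement_def]
  have hq' : (D.rho (π g) - 1) * (D.rho (π g) - 1) = 0 := by
    ext m
    apply EA.val_injective
    rw [Module.End.mul_apply, hsub, hsub, LinearMap.zero_apply, EA.val_zero]
    obtain ⟨u, hu, hum⟩ := EA.val_mem m
    rw [← hum, ← map_commutatorElement, ← map_commutatorElement, hker]
    apply hPR
    refine ⟨?_, hq u (hPA hu)⟩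
    have h1 : ⁅g, u⁆ ∈ P := by
      rw [commutatorElement_def]
      exact P.mul_mem (hPn.conj_mem u hu g) (P.inv_mem hu)
    rw [commutatorElement_def]
    exact P.mul_mem (hPn.conj_mem _ h1 g) (P.inv_mem h1)
  -- membership in `P` from the image
  have hmemP : ∀ u : Y, π u ∈ V → u ∈ P := by
    rintro u ⟨u', hu', h⟩
    have h1 : u'⁻¹ * u ∈ Z₁ := by
      rw [← hker, map_mul, map_inv, h, inv_mul_cancel]
    have : u = u' * (u'⁻¹ * u) := by group
    rw [this]
    exact P.mul_mem hu' (hZ₁P h1)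
  rcases pclosed_or_pair (dicksonStrong hp2) D.rho (π g) hq' with
    ⟨K', hK'n, hgK', hpow⟩ | ⟨h, s, hs, t, ht, v, w, hv, h1, h2, h3, h4⟩
  · apply hPΓ
    apply hcrit P hPn
    intro γ hγ hco u hu
    have hΓK : Γ ≤ K'.comap π := by
      apply Subgroup.normalClosure_le_normal
      rintro x hx
      rw [Set.mem_singleton_iff] at hx
      subst hx
      exact hgK'
    obtain ⟨n, hn⟩ := hpow (π γ) (hΓK hγ)
    have hρ : D.rho (π γ) = 1 := by
      obtain ⟨j, hj⟩ := exists_pow_eq_self_of_coprime (x := γ) (n := p ^ n)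
        (Nat.Coprime.pow_left n hco.symm)
      have : D.rho (π γ) = (D.rho ((π γ) ^ (p ^ n))) ^ j := by
        rw [← map_pow, ← map_pow, ← map_pow, hj]
      rw [this, hn, one_pow]
    have hc : γ * u * γ⁻¹ * u⁻¹ ∈ Z₁ := by
      rw [← hker]
      have h5 := D.val_rho (π γ) (D.mk' (π u) ⟨u, hu, rfl⟩)
      rw [hρ, Module.End.one_apply] at h5
      change π u = π γ * π u * (π γ)⁻¹ at h5
      simp only [map_mul, map_inv]
      rw [← h5, mul_inv_cancel]
    apply commute_of_coprime hco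
    · exact hZ₁Γ γ (hSΓ₀ γ hγ hco) _ hc
    · exact hppow _ (hZ₁P hc)
  · -- natural pair
    have hcl : Subgroup.closure ({π g, h * π g * h⁻¹} : Set (Y ⧸ Z₁)) ≤ Γ.map π := by
      rw [Subgroup.closure_le]
      rintro x (rfl | hx)
      · exact ⟨g, Subgroup.subset_normalClosure rfl, rfl⟩
      · rw [Set.mem_singleton_iff] at hx
        subst hx
        obtain ⟨h₁, rfl⟩ := hπs h
        exact ⟨h₁ * g * h₁⁻¹, hΓn.conj_mem g (Subgroup.subset_normalClosure rfl) h₁, by
          simp only [map_mul, map_inv]⟩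
    obtain ⟨s₁, hs₁, rfl⟩ := hcl hs
    obtain ⟨t₁, ht₁, rfl⟩ := hcl ht
    let e : (Fin 2 → ZMod p) → Y ⧸ Z₁ := fun α => EA.val (α 0 • v + α 1 • w)
    refine not_ps_of_central_pair_odd (e := e) hp2 (hPp.to_le hZ₁P) ?_ ?_ ?_ Γ ?_ hs₁ ht₁ ?_ ?_ hps
    · intro α β
      simp only [e, Pi.add_apply]
      rw [← EA.val_add]
      congr 1
      module
    · intro α β hαβ
      have h5 : α 0 • v + α 1 • w = β 0 • v + β 1 • w := EA.val_injective hαβ
      have h6 : (α 0 - β 0) • v + (α 1 - β 1) • w = 0 := by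
        have : (α 0 - β 0) • v + (α 1 - β 1) • w =
            (α 0 • v + α 1 • w) - (β 0 • v + β 1 • w) := by module
        rw [this, h5, sub_self]
      have h7 : (α 1 - β 1) • v = 0 := by
        have := congrArg (D.rho (π s₁)) h6
        rw [map_add, map_smul, map_smul, h1, h2, map_zero] at this
        have e1 : (α 0 - β 0) • v + (α 1 - β 1) • (w + v) =
            ((α 0 - β 0) • v + (α 1 - β 1) • w) + (α 1 - β 1) • v := by module
        rw [e1, h6, zero_add] at this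
        exact this
      have h8 : α 1 - β 1 = 0 := (smul_eq_zero.mp h7).resolve_right hv
      rw [h8, zero_smul, add_zero] at h6
      have h9 : α 0 - β 0 = 0 := (smul_eq_zero.mp h6).resolve_right hv
      ext i
      fin_cases i
      · exact sub_eq_zero.mp h9
      · exact sub_eq_zero.mp h8
    · rintro u ⟨α, hα⟩ ζ hζ
      apply hPZ u _ ζ hζ
      apply hmemP
      change π u = e α at hα
      rw [hα]
      exact EA.val_mem (D := D) (α 0 • v + α 1 • w)
    · intro γ hγ hco ζ hζ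
      exact hZ₁Γ γ (hSΓ₀ γ hγ hco) ζ hζ
    · intro α
      simp only [e]
      have e1 : D.rho (π s₁) (α 0 • v + α 1 • w) = α 0 • v + α 1 • (w + v) := by
        rw [(D.rho (π s₁)).map_add, (D.rho (π s₁)).map_smul, (D.rho (π s₁)).map_smul, h1, h2]
      rw [← D.val_rho, e1]
      congr 1
      have : (Qd.uu (1 : ZMod p)).1 *ᵥ α = ![α 0 + α 1, α 1] := by
        ext i
        fin_cases i <;> simp [Qd.uu, Matrix.mulVec, dotProduct, Fin.sum_univ_two]
      rw [this]
      simp only [Matrix.cons_val_zero, Matrix.cons_val_one]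
      module
    · intro α
      simp only [e]
      have e1 : D.rho (π t₁) (α 0 • v + α 1 • w) = α 0 • (v + w) + α 1 • w := by
        rw [(D.rho (π t₁)).map_add, (D.rho (π t₁)).map_smul, (D.rho (π t₁)).map_smul, h3, h4]
      rw [← D.val_rho, e1]
      congr 1
      have : (Qd.ll (1 : ZMod p)).1 *ᵥ α = ![α 0, α 0 + α 1] := by
        ext i
        fin_cases i <;> simp [Qd.ll, Matrix.mulVec, dotProduct, Fin.sum_univ_two]
      rw [this]
      simp only [Matrix.cons_val_zero, Matrix.cons_val_one]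
      module

theorem PS.quot_p_odd (hp2 : p ≠ 2) {X : Type*} [Group X] [Finite X] (h : ZJ.PS p X) (Q : Subgroup X)
    [hQn : Q.Normal] (hQ : IsPGroup p Q)
    (hcent : ∀ y : X, (orderOf y).Coprime p → y ∈ Subgroup.centralizer (Q : Set X)) :
    ZJ.PS p (X ⧸ Q) := by
  intro Ub hUb gb hgb hq
  set π := QuotientGroup.mk' Q with hπ
  have hπs : Function.Surjective π := QuotientGroup.mk'_surjective Q
  have hker : ∀ x, π x = 1 ↔ x ∈ Q := fun x => QuotientGroup.eq_one_iff x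
  set A := Ub.comap π with hA
  have hAp : IsPGroup p A := hUb.comap_of_ker_isPGroup π (by rw [QuotientGroup.ker_mk']; exact hQ)
  set N := Subgroup.normalizer (A : Set X) with hN
  have hAN : A ≤ N := Subgroup.le_normalizer
  have hmemN : ∀ x, π x ∈ Subgroup.normalizer (Ub : Set (X ⧸ Q)) → x ∈ N := by
    intro x hx
    rw [hN, Subgroup.mem_normalizer_iff]
    intro y
    have := Subgroup.mem_normalizer_iff.mp hx (π y)
    rw [hA, Subgroup.mem_comap, Subgroup.mem_comap, this]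
    simp only [map_mul, map_inv]
  obtain ⟨g, rfl⟩ := hπs gb
  have hgN : g ∈ N := hmemN g hgb
  have hAn : (A.subgroupOf N).Normal :=
    (Subgroup.normal_subgroupOf_iff_le_normalizer hAN).mpr le_rfl
  have hRn : (Q.subgroupOf N).Normal := inferInstance
  have hkey := ps_key_odd hp2 (PS.subgroup h N) (A.subgroupOf N) (Q.subgroupOf N)
    (hAp.comap_subtype)
    (by
      intro y hy
      rw [← Subgroup.orderOf_coe] at hy
      have h1 := hcent y hy
      rw [Subgroup.mem_centralizer_iff] at h1 ⊢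
      intro r hr
      apply Subtype.ext
      exact h1 r hr)
    ⟨g, hgN⟩
    (by
      intro a ha
      rw [Subgroup.mem_subgroupOf]
      change ⁅g, ⁅g, (a : X)⁆⁆ ∈ Q
      rw [← hker, map_commutatorElement, map_commutatorElement, ← Subgroup.mem_bot, ← hq]
      have ha' : π (a : X) ∈ Ub := ha
      have hz : π g ∈ Subgroup.zpowers (π g) := Subgroup.mem_zpowers _
      have h1 : ⁅π g, π (a : X)⁆ ∈ ⁅Ub, Subgroup.zpowers (π g)⁆ := by
        rw [Subgroup.commutator_comm]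
        exact Subgroup.commutator_mem_commutator hz ha'
      rw [Subgroup.commutator_comm]
      exact Subgroup.commutator_mem_commutator hz h1)
  set Γ := Subgroup.normalClosure ({(⟨g, hgN⟩ : N)} : Set N) with hΓ
  have hΓn : Γ.Normal := Subgroup.normalClosure_normal
  refine ⟨(Γ.map N.subtype).map π, ⟨g, ⟨⟨g, hgN⟩, Subgroup.subset_normalClosure rfl, rfl⟩, rfl⟩,
    ?_, ?_⟩
  · rw [Subgroup.le_normalizer_iff]
    rintro nb hnb _ ⟨_, ⟨k, hk, rfl⟩, rfl⟩
    obtain ⟨n, rfl⟩ := hπs nb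
    have hn : n ∈ N := hmemN n hnb
    exact ⟨n * k * n⁻¹, ⟨⟨n, hn⟩ * k * ⟨n, hn⟩⁻¹, hΓn.conj_mem k hk _, rfl⟩, by
      simp only [map_mul, map_inv, Subgroup.subtype_apply]⟩
  · rintro _ ⟨_, ⟨k, hk, rfl⟩, rfl⟩
    obtain ⟨n, hn⟩ := exists_pow_coprime p k
    refine ⟨n, ?_⟩
    rw [Subgroup.mem_centralizer_iff]
    intro ub hub
    obtain ⟨u, rfl⟩ := hπs ub
    have huA : u ∈ A := hub
    have h1 := hkey (k ^ (p ^ n)) (Γ.pow_mem hk _) hn ⟨u, hAN huA⟩ huA
    rw [Subgroup.mem_subgroupOf] at h1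
    change ⁅((k : X)) ^ (p ^ n), u⁆ ∈ Q at h1
    rw [← hker, map_commutatorElement, commutatorElement_eq_one_iff_mul_comm, map_pow] at h1
    exact h1.symm

end Cfsg.Agent.Lib.Helper62
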