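import Mathlib
import Cfsg.Agent.Lib.Helper62.PSQuot3
import Cfsg.Agent.Lib.Helper62.PSMaster
import Cfsg.Agent.Lib.Helper57.FC10

set_option autoImplicit false

/-! In a `p`-stable group (`p` odd), `N(Z(J(D)))` controls strong fusion, `D` strongly closed. -/

namespace Cfsg.Agent.Lib.Helper62

open Cfsg Cfsg.Agent.Lib.Helper39 Cfsg.Agent.Lib.Helper57 Cfsg.Agent.Lib.Helper57.FC

universe u

variable {p : ℕ} [Fact p.Prime]

theorem ctl_ZJ_of_ps (hp2 : p ≠ 2) {G : Type u} [Group G] [Finite G] (hps : ZJ.PS p G)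
    (P : Sylow p G) (D : Subgroup G) (hD : IsStronglyClosed D (P : Subgroup G)) :
    Ctl {Subgroup.normalizer ((centerThompsonAOf D : Subgroup G) : Set G)} (P : Subgroup G) := by
  have key := master_restricted (p := p) (𝓦 := {WZ 0})
    (by rintro W rfl; exact WZ_isCharPFunctor (Or.inl rfl))
    (fun Y _ δ => Finite Y ∧ ZJ.PS p Y ∧ ∃ 𝒟 : Set Y, NSet p 𝒟 ∧ δ = δof 𝒟)
    (fun Y _ δ h => h.1)
    (by rintro Y _ δ ⟨_, _, 𝒟, h, rfl⟩; exact h.deco)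
    (by
      rintro Y _ δ ⟨hf, h, 𝒟, h', rfl⟩ K
      exact ⟨inferInstance, PS.subgroup h K, _, h'.sub K, δsub_δof 𝒟 K⟩)
    (by
      rintro Y _ δ ⟨hf, h, 𝒟, h', rfl⟩ N _ hN
      exact ⟨_, ⟨inferInstance, PS.quot_pprime h N hN, _, h'.quot N, rfl⟩,
        fun S => h'.δof_quot N S⟩)
    (by
      rintro Y _ δ ⟨hf, h, 𝒟, h', rfl⟩ N _ hN hcent
      exact ⟨_, ⟨inferInstance, PS.quot_p_odd hp2 h N hN hcent, _, h'.quot N, rfl⟩,
        fun S => h'.δof_quot N S⟩)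
    (by
      rintro Y _ δ ⟨hf, h, 𝒟, h', rfl⟩ hc S B hB g hgB
      refine Gen.base ⟨⟨WZ 0, rfl⟩, rfl⟩ ?_ hB hgB
      have hn : (Cfsg.centerThompsonAOf (δof 𝒟 (S : Subgroup Y))).Normal :=
        (Cfsg.Agent.S3079.result hp2 S _ (h'.stronglyClosed S)
          (Quad.isNormalizerPStable_of_ps h) hc).1
      have e1 : fam {WZ 0} (δof 𝒟) ⟨WZ 0, rfl⟩ (S : Subgroup Y) =
          Cfsg.centerThompsonAOf (δof 𝒟 (S : Subgroup Y)) := ind_WZ_zero _
      simp only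
      rw [e1, Subgroup.normalizer_eq_top_iff.mpr hn]
      trivial)
    G (δof {x | ∃ g : G, g * x * g⁻¹ ∈ D})
    ⟨inferInstance, hps, _, nset_of_stronglyClosed P hD, rfl⟩ P
  intro B hB g hgB
  refine Gen.trans' le_rfl ?_ (key B hB g hgB)
  rintro _ ⟨⟨W', hW'⟩, rfl⟩ x hx B' hB' hxB'
  rw [Set.mem_singleton_iff] at hW'
  subst hW'
  have e1 : fam {WZ 0} (δof {x | ∃ g : G, g * x * g⁻¹ ∈ D}) ⟨WZ 0, rfl⟩ (P : Subgroup G) =
      Cfsg.centerThompsonAOf D := by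
    unfold fam
    rw [δof_of_stronglyClosed P hD]
    exact ind_WZ_zero _
  simp only at hx
  rw [e1] at hx
  exact Gen.base rfl hx hB' hxB'

end Cfsg.Agent.Lib.Helper62
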