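import Mathlib
import Cfsg.Agent.Lib.Helper62.PSCtl

set_option autoImplicit false

/-! A `p`-stable group (`p` odd) has a subgroup `Q` of a Sylow `p`-subgroup `P` with
`C_P(Q) ≤ Q` whose normalizer controls strong fusion in `P`. -/

namespace Cfsg.Agent.Lib.Helper62

open Cfsg Cfsg.Agent.Lib.Helper39 Cfsg.Agent.Lib.Helper57 Cfsg.Agent.Lib.Helper57.FC

universe u

variable {p : ℕ} [Fact p.Prime]

theorem zj_map {X Y : Type u} [Group X] [Group Y] [Finite X] [Finite Y] (f : X →* Y)
    (D : Subgroup X) (hD : IsPGroup p D) (hf : Set.InjOn f (D : Set X)) :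
    centerThompsonAOf (D.map f) = (centerThompsonAOf D).map f := by
  rw [← ind_WZ_zero, ← ind_WZ_zero]
  exact Cfsg.Agent.Lib.Helper40.ind_map (WZ_isCharPFunctor (p := p) (Or.inl rfl)) f D hD hf

theorem zj_normalizer {X : Type u} [Group X] [Finite X] (D : Subgroup X) (hD : IsPGroup p D) :
    Subgroup.normalizer (D : Set X) ≤
      Subgroup.normalizer ((centerThompsonAOf D : Subgroup X) : Set X) := by
  intro n hn
  rw [mem_normalizer_iff_cj] at hn ⊢
  have h := zj_map (MulAut.conj n).toMonoidHom D hD (MulAut.conj n).injective.injOn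
  change centerThompsonAOf (cj n D) = cj n (centerThompsonAOf D) at h
  rw [hn] at h
  exact h.symm

theorem zj_le {X : Type u} [Group X] (D : Subgroup X) : centerThompsonAOf D ≤ D := by
  intro x hx
  obtain ⟨y, -, rfl⟩ := hx.1
  exact y.2

theorem zj_ne_bot {X : Type u} [Group X] [Finite X] (D : Subgroup X) (hD : IsPGroup p D)
    (hne : D ≠ ⊥) : centerThompsonAOf D ≠ ⊥ := by
  rw [← ind_WZ_zero]
  intro h
  have : Nontrivial D := (Subgroup.nontrivial_iff_ne_bot D).2 hne
  have h1 := (WZ_isCharPFunctor (p := p) (e := 0) (Or.inl rfl)).1 D hD this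
  apply h1
  unfold inducedFunctor at h
  exact (Subgroup.map_eq_bot_iff_of_injective _ D.subtype_injective).1 h

/-- transport of control from the group `↥K` to the subgroup `K`. -/
theorem ctlIn_of_sub {X : Type*} [Group X] (K T : Subgroup X) (hTK : T ≤ K) (W : Subgroup K)
    (h : Ctl {Subgroup.normalizer (W : Set K)} (T.subgroupOf K)) :
    CtlIn {Subgroup.normalizer ((W.map K.subtype : Subgroup X) : Set X)} T K := by
  intro B hB g hg hgB
  have hmapT : (T.subgroupOf K).map K.subtype = T := Subgroup.map_subgroupOf_eq_of_le hTK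
  have hmapB : (B.subgroupOf K).map K.subtype = B :=
    Subgroup.map_subgroupOf_eq_of_le (hB.trans hTK)
  have h1 : cj (⟨g, hg⟩ : K) (B.subgroupOf K) ≤ T.subgroupOf K := by
    rw [← Subgroup.map_le_map_iff_of_injective K.subtype_injective, cj_map, hmapB, hmapT]
    exact hgB
  have h2 := h (B.subgroupOf K) (Subgroup.comap_mono hB) ⟨g, hg⟩ h1
  have h3 := Gen.map K.subtype
    (𝓗' := {Subgroup.normalizer ((W.map K.subtype : Subgroup X) : Set X)}) ?_ h2
  · rw [hmapT, hmapB] at h3
    exact h3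
  · rintro _ rfl
    exact ⟨_, rfl, Subgroup.le_normalizer_map _⟩

/-- lifting from `Y / Q` when all `p'`-elements centralize `Q` -/
theorem ctl_lift (hp2 : p ≠ 2) {Y : Type u} [Group Y] [Finite Y] (hps : ZJ.PS p Y)
    (P : Sylow p Y) (Q : Subgroup Y) [Q.Normal] (hQP : Q ≤ (P : Subgroup Y))
    (hcent : ∀ y : Y, (orderOf y).Coprime p → y ∈ Subgroup.centralizer (Q : Set Y))
    (D : Subgroup Y) (hD : IsStronglyClosed D (P : Subgroup Y)) :
    Ctl {Subgroup.normalizer
      (((centerThompsonAOf (D.map (QuotientGroup.mk' Q))).comap (QuotientGroup.mk' Q) :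
        Subgroup Y) : Set Y)} (P : Subgroup Y) := by
  set π := QuotientGroup.mk' Q with hπ
  have hSQ : (P : Subgroup Y) ⊔ Q = (P : Subgroup Y) := sup_eq_left.mpr hQP
  have hpsq : ZJ.PS p (Y ⧸ Q) := PS.quot_p_odd hp2 hps Q (P.2.to_le hQP) hcent
  have hDq : IsStronglyClosed (D.map π) ((P : Subgroup Y).map π) := by
    refine ⟨Subgroup.map_mono hD.1, ?_⟩
    rintro _ ⟨x, hx, rfl⟩ gb hgb
    obtain ⟨g, rfl⟩ := QuotientGroup.mk'_surjective Q gb
    have h1 : π (g * x * g⁻¹) ∈ (P : Subgroup Y).map π := by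
      rw [map_mul, map_mul, map_inv]; exact hgb
    have h2 : g * x * g⁻¹ ∈ (P : Subgroup Y) := by
      rw [← hSQ]; exact mem_sup_of_mk_mem_map Q h1
    refine ⟨g * x * g⁻¹, hD.2 x hx g h2, ?_⟩
    rw [map_mul, map_mul, map_inv]
  have hq := ctl_ZJ_of_ps hp2 hpsq (P.mapSurjective (QuotientGroup.mk'_surjective Q)) (D.map π)
    (by rw [Sylow.coe_mapSurjective]; exact hDq)
  rw [Sylow.coe_mapSurjective] at hq
  have hcomap : (Subgroup.normalizer ((centerThompsonAOf (D.map π) : Subgroup (Y ⧸ Q)) :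
      Set (Y ⧸ Q))).comap π ≤ Subgroup.normalizer
      (((centerThompsonAOf (D.map π)).comap π : Subgroup Y) : Set Y) :=
    Subgroup.le_normalizer_comap π
  apply ctl_of_quotient_p P Q hQP hcent _ hq
  · rintro _ rfl
    exact (ctlIn_of_mem (Set.mem_singleton _)).mono hcomap
  · refine (ctlIn_of_mem (Set.mem_singleton _)).mono (le_trans ?_ hcomap)
    intro s hs
    rw [Subgroup.mem_comap]
    apply zj_normalizer (p := p) (D.map π) ((P.2.to_le hD.1).map π)
    apply Subgroup.le_normalizer_map π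
    refine ⟨s, ?_, rfl⟩
    rw [SetLike.mem_coe, Subgroup.mem_normalizer_iff]
    intro x
    constructor
    · intro hx
      exact hD.2 x hx s (Subgroup.mul_mem _ (Subgroup.mul_mem _ hs (hD.1 hx)) (Subgroup.inv_mem _ hs))
    · intro hx
      have h1 := hD.2 _ hx s⁻¹ (Subgroup.mul_mem _ (Subgroup.mul_mem _ (Subgroup.inv_mem _ hs)
        (hD.1 hx)) (Subgroup.inv_mem _ (Subgroup.inv_mem _ hs)))
      have e : s⁻¹ * (s * x * s⁻¹) * s⁻¹⁻¹ = x := by group
      rwa [e] at h1

/-- comparison of the two constructions of `W`, in a subgroup `H` and in the whole group -/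
theorem zj_quot_sub {X : Type u} [Group X] [Finite X] (Q : Subgroup X) [Q.Normal]
    (H R : Subgroup X) (hQH : Q ≤ H) (hRH : R ≤ H) (hR : IsPGroup p R) :
    ((centerThompsonAOf ((R.subgroupOf H).map (QuotientGroup.mk' (Q.subgroupOf H)))).comap
      (QuotientGroup.mk' (Q.subgroupOf H))).map H.subtype =
    (centerThompsonAOf (R.map (QuotientGroup.mk' Q))).comap (QuotientGroup.mk' Q) := by
  set πH := QuotientGroup.mk' (Q.subgroupOf H) with hπH
  set π := QuotientGroup.mk' Q with hπ
  let ι : (↥H ⧸ Q.subgroupOf H) →* X ⧸ Q :=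
    QuotientGroup.map (Q.subgroupOf H) Q H.subtype (le_refl _)
  have hι : ∀ y : H, ι (πH y) = π (y : X) := fun y => rfl
  have hinj : Function.Injective ι := by
    rw [injective_iff_map_eq_one]
    intro z hz
    obtain ⟨y, rfl⟩ := QuotientGroup.mk'_surjective _ z
    rw [hι] at hz
    have h1 : (y : X) ∈ Q := (QuotientGroup.eq_one_iff _).mp hz
    exact (QuotientGroup.eq_one_iff y).mpr h1
  have hmap : ((R.subgroupOf H).map πH).map ι = R.map π := by
    rw [Subgroup.map_map]
    have e : ι.comp πH = π.comp H.subtype := rfl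
    rw [e, ← Subgroup.map_map, Subgroup.map_subgroupOf_eq_of_le hRH]
  have hz := zj_map (p := p) ι ((R.subgroupOf H).map πH) ((hR.comap_subtype).map πH)
    hinj.injOn
  rw [hmap] at hz
  rw [hz]
  ext x
  constructor
  · rintro ⟨y, hy, rfl⟩
    exact ⟨πH y, hy, rfl⟩
  · rintro ⟨z, hz', hzx⟩
    obtain ⟨y, rfl⟩ := QuotientGroup.mk'_surjective _ z
    rw [hι] at hzx
    have h1 : (y : X)⁻¹ * x ∈ Q := QuotientGroup.eq.mp hzx
    have hxH : x ∈ H := by
      have := H.mul_mem y.2 (hQH h1)
      rwa [mul_inv_cancel_left] at this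
    refine ⟨⟨x, hxH⟩, ?_, rfl⟩
    have h2 : πH ⟨x, hxH⟩ = πH y := by
      apply hinj
      rw [hι, hι]
      exact hzx.symm
    rw [SetLike.mem_coe, Subgroup.mem_comap, h2]
    exact hz'

/-- one step: if `C_P(Q) ≰ Q` for a normal `p`-subgroup `Q`, a larger subgroup controls fusion. -/
theorem ctl_step (hp2 : p ≠ 2) {X : Type u} [Group X] [Finite X] (hps : ZJ.PS p X)
    (P : Sylow p X) (Q : Subgroup X) [Q.Normal] (hQP : Q ≤ (P : Subgroup X))
    (hnc : ¬ (P : Subgroup X) ⊓ Subgroup.centralizer (Q : Set X) ≤ Q) :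
    ∃ W : Subgroup X, Q < W ∧ W ≤ (P : Subgroup X) ∧
      Ctl {Subgroup.normalizer (W : Set X)} (P : Subgroup X) := by
  set C := Subgroup.centralizer (Q : Set X) with hC
  have hCn : C.Normal := inferInstance
  set K := Q ⊔ C with hK
  have hKn : K.Normal := inferInstance
  set R := (P : Subgroup X) ⊓ K with hR
  set H := (P : Subgroup X) ⊔ C with hH
  set π := QuotientGroup.mk' Q with hπ
  have hRp : IsPGroup p R := P.2.to_le inf_le_left
  have hQR : Q ≤ R := le_inf hQP le_sup_left
  have hPH : (P : Subgroup X) ≤ H := le_sup_left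
  have hRH : R ≤ H := inf_le_left.trans hPH
  have hQH : Q ≤ H := hQP.trans hPH
  have hKH : K ≤ H := sup_le hQH le_sup_right
  set Z := centerThompsonAOf (R.map π) with hZ
  have hZle : Z ≤ R.map π := zj_le _
  have hRne : R.map π ≠ ⊥ := by
    intro h
    apply hnc
    intro x hx
    have h1 : π x ∈ R.map π := ⟨x, ⟨hx.1, (le_sup_right : C ≤ K) hx.2⟩, rfl⟩
    rw [h, Subgroup.mem_bot] at h1
    exact (QuotientGroup.eq_one_iff x).mp h1
  have hZne : Z ≠ ⊥ := zj_ne_bot (p := p) _ (hRp.map π) hRne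
  refine ⟨Z.comap π, ?_, ?_, ?_⟩
  · refine lt_of_le_of_ne ?_ ?_
    · intro x hx
      have h1 : π x = 1 := (QuotientGroup.eq_one_iff x).mpr hx
      rw [Subgroup.mem_comap, h1]
      exact Z.one_mem
    · intro h
      apply hZne
      rw [eq_bot_iff]
      intro z hz
      obtain ⟨x, rfl⟩ := QuotientGroup.mk'_surjective Q z
      have h1 : x ∈ Z.comap π := hz
      rw [← h] at h1
      exact (QuotientGroup.eq_one_iff x).mpr h1
  · intro x hx
    have h1 : x ∈ R ⊔ Q := mem_sup_of_mk_mem_map Q (hZle hx)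
    rw [sup_eq_left.mpr hQR] at h1
    exact h1.1
  · apply ctl_of_normal P K
    · -- fusion inside `K ≤ H`
      refine CtlIn.mono ?_ hKH
      have hpsH : ZJ.PS p H := PS.subgroup hps H
      have hcentH : ∀ y : H, (orderOf y).Coprime p →
          y ∈ Subgroup.centralizer ((Q.subgroupOf H : Subgroup H) : Set H) := by
        intro y hy
        have hy' : (orderOf (y : X)).Coprime p := by rwa [Subgroup.orderOf_coe]
        have hyC : (y : X) ∈ C := by
          obtain ⟨s, hs, c, hc, hsc⟩ := Subgroup.mem_sup_of_normal_right.mp y.2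
          rw [← hsc] at hy' ⊢
          obtain ⟨k, hk⟩ := P.2 ⟨s, hs⟩
          have hsk : s ^ (p ^ k) = 1 := by simpa using congrArg Subtype.val hk
          have hc1 : QuotientGroup.mk' C c = 1 := (QuotientGroup.eq_one_iff c).mpr hc
          have e1 : (QuotientGroup.mk' C (s * c)) = QuotientGroup.mk' C s := by
            rw [map_mul, hc1, mul_one]
          have h3 : (QuotientGroup.mk' C (s * c)) ^ (p ^ k) = 1 := by
            rw [e1, ← map_pow, hsk, map_one]
          have h4 : (QuotientGroup.mk' C (s * c)) ^ (orderOf (s * c)) = 1 := by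
            rw [← map_pow, pow_orderOf_eq_one, map_one]
          have h5 : orderOf (QuotientGroup.mk' C (s * c)) ∣ Nat.gcd (orderOf (s * c)) (p ^ k) :=
            Nat.dvd_gcd (orderOf_dvd_of_pow_eq_one h4) (orderOf_dvd_of_pow_eq_one h3)
          rw [Nat.Coprime.gcd_eq_one (Nat.Coprime.pow_right k hy'), Nat.dvd_one,
            orderOf_eq_one_iff] at h5
          exact (QuotientGroup.eq_one_iff _).mp h5
        rw [Subgroup.mem_centralizer_iff]
        intro q hq
        apply Subtype.ext
        exact Subgroup.mem_centralizer_iff.mp hyC q hq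
      have hDH : IsStronglyClosed (R.subgroupOf H) ((P.subtype hPH : Sylow p H) : Subgroup H) := by
        rw [Sylow.coe_subtype]
        refine ⟨Subgroup.comap_mono inf_le_left, ?_⟩
        intro x hx g hg
        exact ⟨hg, hKn.conj_mem _ hx.2 _⟩
      have h1 := ctl_lift hp2 hpsH (P.subtype hPH) (Q.subgroupOf H)
        (by rw [Sylow.coe_subtype]; exact Subgroup.comap_mono hQP) hcentH (R.subgroupOf H) hDH
      rw [Sylow.coe_subtype] at h1
      have h2 := ctlIn_of_sub H (P : Subgroup X) hPH _ h1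
      rw [zj_quot_sub Q H R hQH hRH hRp] at h2
      exact h2
    · refine (ctlIn_of_mem (Set.mem_singleton _)).mono ?_
      intro n hn
      apply Subgroup.le_normalizer_comap π
      rw [Subgroup.mem_comap]
      apply zj_normalizer (p := p) (R.map π) (hRp.map π)
      exact Subgroup.le_normalizer_map π ⟨n, hn, rfl⟩

omit [Fact p.Prime] in
theorem le_normalizer_of_ctl {G : Type*} [Group G] {P Q : Subgroup G} (hQP : Q ≤ P)
    (h : Ctl {Subgroup.normalizer (Q : Set G)} P) {g : G} (hg : cj g Q ≤ P) : cj g Q = Q := by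
  obtain ⟨n, hn, hng⟩ := (h Q hQP g hg).exists_of_singleton
  rw [← conj_eq_of_same_action hng]
  exact mem_normalizer_iff_cj.mp hn

/-- **Constrainedness of `p`-stable fusion**, group form. -/
theorem exists_centric_ctl (hp2 : p ≠ 2) {G : Type u} [Group G] [Finite G] (hps : ZJ.PS p G)
    (P : Sylow p G) : ∃ Q : Subgroup G, Q ≤ (P : Subgroup G) ∧
      Ctl {Subgroup.normalizer (Q : Set G)} (P : Subgroup G) ∧
      (P : Subgroup G) ⊓ Subgroup.centralizer (Q : Set G) ≤ Q := by
  let T : Set (Subgroup G) := {Q | Q ≤ (P : Subgroup G) ∧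
    Ctl {Subgroup.normalizer (Q : Set G)} (P : Subgroup G)}
  have hT : T.Nonempty := by
    refine ⟨⊥, bot_le, ?_⟩
    intro B hB g hgB
    refine Gen.base (Set.mem_singleton _) ?_ hB hgB
    rw [Subgroup.normalizer_eq_top_iff.mpr (inferInstance : (⊥ : Subgroup G).Normal)]
    trivial
  obtain ⟨Q, ⟨hQP, hQc⟩, hmax⟩ := Set.exists_max_image T (fun Q => Nat.card Q) (Set.toFinite T) hT
  refine ⟨Q, hQP, hQc, ?_⟩
  by_contra hnc
  set X := Subgroup.normalizer (Q : Set G) with hX
  have hPX : (P : Subgroup G) ≤ X := by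
    intro s hs
    rw [hX, mem_normalizer_iff_cj]
    apply le_normalizer_of_ctl hQP hQc
    calc cj s Q ≤ cj s (P : Subgroup G) := cj_mono s hQP
      _ = (P : Subgroup G) := cj_self_of_mem hs
  have hQX : Q ≤ X := hQP.trans hPX
  have hn : (Q.subgroupOf X).Normal := Subgroup.normal_in_normalizer
  obtain ⟨W, hQW, hWP, hWc⟩ := ctl_step hp2 (PS.subgroup hps X) (P.subtype hPX) (Q.subgroupOf X)
    (by rw [Sylow.coe_subtype]; exact Subgroup.comap_mono hQP)
    (by
      rw [Sylow.coe_subtype]
      intro h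
      apply hnc
      intro x hx
      have h1 : (⟨x, hPX hx.1⟩ : X) ∈ Q.subgroupOf X := by
        apply h
        rw [Subgroup.mem_inf]
        refine ⟨hx.1, ?_⟩
        rw [Subgroup.mem_centralizer_iff]
        intro q hq
        apply Subtype.ext
        exact Subgroup.mem_centralizer_iff.mp hx.2 q hq
      exact h1)
  rw [Sylow.coe_subtype] at hWP hWc
  have hWT : W.map X.subtype ∈ T := by
    refine ⟨?_, ?_⟩
    · rintro _ ⟨w, hw, rfl⟩
      exact hWP hw
    · have h1 := ctlIn_of_sub X (P : Subgroup G) hPX W hWc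
      intro B hB g hgB
      refine Gen.trans' le_rfl ?_ (hQc B hB g hgB)
      rintro _ rfl x hx B' hB' hxB'
      exact h1 B' hB' x hx hxB'
  have h1 := hmax _ hWT
  have h2 : Q < W.map X.subtype := by
    have e : Q = (Q.subgroupOf X).map X.subtype := (Subgroup.map_subgroupOf_eq_of_le hQX).symm
    rw [e]
    exact (Subgroup.map_lt_map_iff_of_injective X.subtype_injective).mpr hQW
  have h3 : Nat.card Q < Nat.card (W.map X.subtype : Subgroup G) :=
    Set.ncard_lt_ncard (SetLike.coe_ssubset_coe.mpr h2) (Set.toFinite _)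
  exact absurd h1 (not_le.mpr h3)

end Cfsg.Agent.Lib.Helper62
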