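import Mathlib
import Cfsg.Agent.Lib.Helper76.Hup.Defs
import Cfsg.Agent.Lib.Helper76.Hup.Basic
import Cfsg.Agent.Lib.Helper71.HupM5
import Cfsg.Agent.Lib.Helper41.HupOQSR
import Cfsg.Agent.Lib.Helper62.HupP12

set_option autoImplicit false
set_option linter.unusedSectionVars false

namespace Cfsg.Agent.Lib.Helper62.Hup

open Cfsg.Agent.Lib.Helper76.Hup Module

variable {V : Type*} [AddCommGroup V] [Module (ZMod 2) V] [Finite V]

theorem n26_card_gl (h : Module.finrank (ZMod 2) V = 6) :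
    Nat.card (V ≃ₗ[ZMod 2] V) = 20158709760 := by
  let b := Module.finBasisOfFinrankEq (ZMod 2) V h
  have e1 : (V ≃ₗ[ZMod 2] V) ≃* (Module.End (ZMod 2) V)ˣ :=
    (LinearMap.GeneralLinearGroup.generalLinearEquiv (ZMod 2) V).symm
  have e2 : (Module.End (ZMod 2) V)ˣ ≃* (Matrix (Fin 6) (Fin 6) (ZMod 2))ˣ :=
    Units.mapEquiv (algEquivMatrix b).toMulEquiv
  rw [Nat.card_congr e1.toEquiv, Nat.card_congr e2.toEquiv]
  have := Matrix.card_GL_field (𝔽 := ZMod 2) 6
  rw [this]
  simp [Fin.prod_univ_succ]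

/-- a semiregular group has order dividing `|W| - 1` for every invariant subspace `W` -/
theorem n26_card_dvd (A : Subgroup (V ≃ₗ[ZMod 2] V))
    (hsr : ∀ a ∈ A, ∀ v : V, v ≠ 0 → a v = v → a = 1)
    (W : Submodule (ZMod 2) V) (hW : ∀ a ∈ A, ∀ w ∈ W, a w ∈ W) :
    Nat.card A ∣ Nat.card W - 1 := by
  classical
  have hfin : Finite (V ≃ₗ[ZMod 2] V) := finite_gl
  let X := {w : V // w ∈ W ∧ w ≠ 0}
  letI : MulAction A X :=
    { smul := fun a w => ⟨(a : V ≃ₗ[ZMod 2] V) w.1, hW a a.2 _ w.2.1,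
        fun h => w.2.2 ((LinearEquiv.map_eq_zero_iff _).1 h)⟩
      one_smul := fun w => rfl
      mul_smul := fun a b w => rfl }
  have h1 := Cfsg.Agent.Lib.Helper71.Hup.card_dvd_of_free (H := A) (X := X)
    (fun a w h => Subtype.ext (hsr a a.2 w.1 w.2.2 (congrArg Subtype.val h)))
  have h2 : Nat.card X = Nat.card W - 1 := by
    have := Fintype.ofFinite W
    have e : X ≃ {w : W // ¬ (w = 0)} :=
      { toFun := fun w => ⟨⟨w.1, w.2.1⟩, fun h => w.2.2 (congrArg Subtype.val h)⟩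
        invFun := fun w => ⟨w.1.1, w.1.2, fun h => w.2 (Subtype.ext h)⟩
        left_inv := fun w => rfl
        right_inv := fun w => rfl }
    rw [Nat.card_congr e, Nat.card_eq_fintype_card, Fintype.card_subtype_compl,
      Fintype.card_subtype_eq, Nat.card_eq_fintype_card]
  rwa [h2] at h1

theorem n26_irr_of_card (hV : Nat.card V = 2 ^ 6) (A : Subgroup (V ≃ₗ[ZMod 2] V))
    (hsr : ∀ a ∈ A, ∀ v : V, v ≠ 0 → a v = v → a = 1)
    (hc : Nat.card A = 9 ∨ Nat.card A = 21 ∨ Nat.card A = 63) : Irr A := by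
  intro W hW
  have h1 := n26_card_dvd A hsr W hW
  have hfr : finrank (ZMod 2) V = 6 := finrank_eq_of_card hV
  have hle : finrank (ZMod 2) W ≤ 6 := hfr ▸ Submodule.finrank_le W
  have hcW : Nat.card W = 2 ^ finrank (ZMod 2) W := by
    rw [Module.natCard_eq_pow_finrank (K := ZMod 2), Nat.card_zmod]
  rw [hcW] at h1
  generalize hj : finrank (ZMod 2) W = j at h1 hle
  interval_cases j
  · left; exact Submodule.finrank_eq_zero.1 hj
  · exfalso; rcases hc with h | h | h <;> rw [h] at h1 <;> revert h1 <;> decide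
  · exfalso; rcases hc with h | h | h <;> rw [h] at h1 <;> revert h1 <;> decide
  · exfalso; rcases hc with h | h | h <;> rw [h] at h1 <;> revert h1 <;> decide
  · exfalso; rcases hc with h | h | h <;> rw [h] at h1 <;> revert h1 <;> decide
  · exfalso; rcases hc with h | h | h <;> rw [h] at h1 <;> revert h1 <;> decide
  · right; exact Submodule.eq_top_of_finrank_eq (hj.trans hfr.symm)

/-- without an irreducible abelian normal subgroup, abelian normal subgroups are small -/
theorem n26_small (hV : Nat.card V = 2 ^ 6) (G : Subgroup (V ≃ₗ[ZMod 2] V)) (htr : Trans G)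
    (hno : ¬ HasIAN G) (A : Subgroup (V ≃ₗ[ZMod 2] V)) (hA : IsAN G A) :
    Nat.card A = 1 ∨ Nat.card A = 3 ∨ Nat.card A = 7 := by
  have hsr := Cfsg.Agent.Lib.Helper41.Hup.semiregular_of_isAN G htr A hA
  have h1 := n26_card_dvd A hsr ⊤ (fun _ _ _ _ => Submodule.mem_top)
  have h2 : Nat.card (⊤ : Submodule (ZMod 2) V) = 64 := by
    rw [Nat.card_congr (Submodule.topEquiv (R := ZMod 2) (M := V)).toEquiv, hV]; norm_num
  rw [h2] at h1
  have h3 : Nat.card A ∈ Nat.divisors 63 := Nat.mem_divisors.2 ⟨h1, by norm_num⟩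
  have h4 : Nat.divisors 63 = {1, 3, 7, 9, 21, 63} := by decide
  rw [h4] at h3
  simp only [Finset.mem_insert, Finset.mem_singleton] at h3
  rcases h3 with h | h | h | h | h | h
  · exact Or.inl h
  · exact Or.inr (Or.inl h)
  · exact Or.inr (Or.inr h)
  · exact absurd ⟨A, hA, n26_irr_of_card hV A hsr (Or.inl h)⟩ hno
  · exact absurd ⟨A, hA, n26_irr_of_card hV A hsr (Or.inr (Or.inl h))⟩ hno
  · exact absurd ⟨A, hA, n26_irr_of_card hV A hsr (Or.inr (Or.inr h))⟩ hno

end Cfsg.Agent.Lib.Helper62.Hup
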