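import Mathlib
import Cfsg.Agent.Lib.Helper62.HupN26a

set_option autoImplicit false
set_option linter.unusedSectionVars false

namespace Cfsg.Agent.Lib.Helper62.Hup

open Cfsg.Agent.Lib.Helper76.Hup Module

section grp
variable {Γ : Type*} [Group Γ]

theorem n26_le_normalizer {G R : Subgroup Γ} (hRn : ∀ g ∈ G, ∀ a ∈ R, g * a * g⁻¹ ∈ R) :
    G ≤ Subgroup.normalizer (R : Set Γ) := by
  intro g hg
  rw [Subgroup.mem_normalizer_iff]
  intro h
  refine ⟨hRn g hg h, fun hh => ?_⟩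
  have := hRn g⁻¹ (G.inv_mem hg) _ hh
  have e : g⁻¹ * (g * h * g⁻¹) * g⁻¹⁻¹ = h := by group
  rwa [e] at this

theorem n26_sup_conj_mem {G A B : Subgroup Γ} (hA : ∀ g ∈ G, ∀ a ∈ A, g * a * g⁻¹ ∈ A)
    (hB : ∀ g ∈ G, ∀ a ∈ B, g * a * g⁻¹ ∈ B) : ∀ g ∈ G, ∀ a ∈ A ⊔ B, g * a * g⁻¹ ∈ A ⊔ B := by
  intro g hg a ha
  have h1 : (A ⊔ B).map (MulAut.conj g).toMonoidHom ≤ A ⊔ B := by
    rw [Subgroup.map_sup]
    apply sup_le_sup
    · rintro _ ⟨a, ha, rfl⟩; exact hA g hg a ha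
    · rintro _ ⟨a, ha, rfl⟩; exact hB g hg a ha
  exact h1 ⟨a, ha, rfl⟩

theorem n26_sup_comm {A B : Subgroup Γ} (hA : ∀ a ∈ A, ∀ b ∈ A, a * b = b * a)
    (hB : ∀ a ∈ B, ∀ b ∈ B, a * b = b * a) (hAB : ∀ a ∈ A, ∀ b ∈ B, a * b = b * a) :
    ∀ a ∈ A ⊔ B, ∀ b ∈ A ⊔ B, a * b = b * a := by
  have h1 : A ⊔ B ≤ Subgroup.centralizer ((A ⊔ B : Subgroup Γ) : Set Γ) := by
    apply sup_le
    · rw [Subgroup.le_centralizer_iff]
      apply sup_le
      · intro a ha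
        rw [Subgroup.mem_centralizer_iff]
        intro b hb
        exact hA b hb a ha
      · intro b hb
        rw [Subgroup.mem_centralizer_iff]
        intro a ha
        exact hAB a ha b hb
    · rw [Subgroup.le_centralizer_iff]
      apply sup_le
      · intro a ha
        rw [Subgroup.mem_centralizer_iff]
        intro b hb
        exact (hAB a ha b hb).symm
      · intro a ha
        rw [Subgroup.mem_centralizer_iff]
        intro b hb
        exact hB b hb a ha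
  intro a ha b hb
  exact (Subgroup.mem_centralizer_iff.1 (h1 hb) a ha)

theorem n26_cent_conj_mem {G N : Subgroup Γ} (hN : ∀ g ∈ G, ∀ a ∈ N, g * a * g⁻¹ ∈ N) :
    ∀ g ∈ G, ∀ a ∈ G ⊓ Subgroup.centralizer (N : Set Γ),
      g * a * g⁻¹ ∈ G ⊓ Subgroup.centralizer (N : Set Γ) := by
  intro g hg a ha
  rw [Subgroup.mem_inf, Subgroup.mem_centralizer_iff] at ha ⊢
  refine ⟨G.mul_mem (G.mul_mem hg ha.1) (G.inv_mem hg), fun b hb => ?_⟩
  have h1 : g⁻¹ * b * g⁻¹⁻¹ ∈ N := hN g⁻¹ (G.inv_mem hg) b hb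
  have h2 := ha.2 _ h1
  have e1 : b * (g * a * g⁻¹) = g * ((g⁻¹ * b * g⁻¹⁻¹) * a) * g⁻¹ := by group
  have e2 : g * a * g⁻¹ * b = g * (a * (g⁻¹ * b * g⁻¹⁻¹)) * g⁻¹ := by group
  rw [e1, e2, h2]

/-- `N/C` for a subgroup of prime order -/
theorem n26_card_dvd_of_prime [Finite Γ] {G N : Subgroup Γ} {p : ℕ} (hp : p.Prime)
    (hN : ∀ g ∈ G, ∀ a ∈ N, g * a * g⁻¹ ∈ N) (hc : Nat.card N = p) :
    Nat.card G ∣ (p - 1) * Nat.card (G ⊓ Subgroup.centralizer (N : Set Γ) : Subgroup Γ) := by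
  have : Fact p.Prime := ⟨hp⟩
  have hGN := n26_le_normalizer hN
  let φ : G →* MulAut N := N.normalizerMonoidHom.comp (Subgroup.inclusion hGN)
  have hcyc : IsCyclic N := isCyclic_of_prime_card hc
  have h1 : Nat.card (G ⧸ φ.ker) ∣ p - 1 := by
    have := Subgroup.card_dvd_of_injective _ (QuotientGroup.kerLift_injective φ)
    rwa [hcyc.card_mulAut, hc, Nat.totient_prime hp] at this
  have h2 : φ.ker.map G.subtype ≤ G ⊓ Subgroup.centralizer (N : Set Γ) := by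
    rintro _ ⟨g, hg, rfl⟩
    refine ⟨g.2, ?_⟩
    have h3 : Subgroup.inclusion hGN g ∈ N.normalizerMonoidHom.ker := hg
    rw [Subgroup.normalizerMonoidHom_ker, Subgroup.mem_subgroupOf] at h3
    exact h3
  have h4 : Nat.card φ.ker ∣ Nat.card (G ⊓ Subgroup.centralizer (N : Set Γ) : Subgroup Γ) := by
    have h5 : Nat.card (φ.ker.map G.subtype) = Nat.card φ.ker :=
      Subgroup.card_map_of_injective G.subtype_injective
    rw [← h5]
    exact Subgroup.card_dvd_of_le h2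
  rw [Subgroup.card_eq_card_quotient_mul_card_subgroup φ.ker]
  exact Nat.mul_dvd_mul h1 h4

end grp

variable {V : Type*} [AddCommGroup V] [Module (ZMod 2) V] [Finite V]

theorem n26_center (G : Subgroup (V ≃ₗ[ZMod 2] V))
    (hsmall : ∀ A, IsAN G A → Nat.card A = 1 ∨ Nat.card A = 3 ∨ Nat.card A = 7)
    {r : ℕ} [Fact r.Prime] (R : Subgroup (V ≃ₗ[ZMod 2] V)) (hRG : R ≤ G)
    (hRn : ∀ g ∈ G, ∀ a ∈ R, g * a * g⁻¹ ∈ R) (hR : IsPGroup r R) (hne : R ≠ ⊥) :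
    ∃ Z, IsAN G Z ∧ Nat.card Z = r ∧ (r = 3 ∨ r = 7) := by
  have hfin : Finite (V ≃ₗ[ZMod 2] V) := finite_gl
  have hr : r.Prime := Fact.out
  obtain ⟨z, hzR, hzr, hzc⟩ := exists_central_orderOf_eq hR hne
  set Z := R ⊓ Subgroup.centralizer (R : Set (V ≃ₗ[ZMod 2] V)) with hZ
  have hAN : IsAN G Z := by
    refine ⟨inf_le_left.trans hRG, center_conj_mem hRn, ?_⟩
    intro a ha b hb
    exact (Subgroup.mem_centralizer_iff.1 hb.2 a ha.1)
  have hzZ : z ∈ Z := by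
    refine Subgroup.mem_inf.2 ⟨hzR, ?_⟩
    rw [Subgroup.mem_centralizer_iff]
    intro b hb
    exact (hzc b hb).symm
  have hdvd : r ∣ Nat.card Z := hzr ▸ Subgroup.orderOf_dvd_natCard Z hzZ
  refine ⟨Z, hAN, ?_⟩
  rcases hsmall Z hAN with h | h | h
  · rw [h] at hdvd
    exact absurd (Nat.dvd_one.1 hdvd) hr.one_lt.ne'
  · rw [h] at hdvd
    have := (Nat.prime_dvd_prime_iff_eq hr Nat.prime_three).1 hdvd
    exact ⟨by rw [h, this], Or.inl this⟩
  · rw [h] at hdvd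
    have := (Nat.prime_dvd_prime_iff_eq hr (by norm_num : Nat.Prime 7)).1 hdvd
    exact ⟨by rw [h, this], Or.inr this⟩

theorem n26_seven (hV : Nat.card V = 2 ^ 6) (G : Subgroup (V ≃ₗ[ZMod 2] V))
    (hsmall : ∀ A, IsAN G A → Nat.card A = 1 ∨ Nat.card A = 3 ∨ Nat.card A = 7)
    (Q : Subgroup (V ≃ₗ[ZMod 2] V)) (hQG : Q ≤ G)
    (hQn : ∀ g ∈ G, ∀ a ∈ Q, g * a * g⁻¹ ∈ Q) (hQ : IsPGroup 7 Q) :
    IsAN G Q ∧ (Nat.card Q = 1 ∨ Nat.card Q = 7) := by
  have hfin : Finite (V ≃ₗ[ZMod 2] V) := finite_gl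
  have : Fact (Nat.Prime 7) := ⟨by norm_num⟩
  have hΓ := n26_card_gl (finrank_eq_of_card hV)
  obtain ⟨k, hk⟩ := IsPGroup.iff_card.1 hQ
  have hdvd : 7 ^ k ∣ 20158709760 := by
    rw [← hk, ← hΓ]; exact Subgroup.card_subgroup_dvd_card Q
  have hk2 : k ≤ 2 := by
    by_contra hcon
    have h3 : 7 ^ 3 ∣ 20158709760 := (pow_dvd_pow 7 (by omega)).trans hdvd
    revert h3; norm_num
  have hab : ∀ a b : Q, a * b = b * a := by
    interval_cases k
    · have : Subsingleton Q := (Nat.card_eq_one_iff_unique.1 (by simpa using hk)).1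
      intro a b
      exact Subsingleton.elim _ _
    · have hcyc : IsCyclic Q := isCyclic_of_prime_card (p := 7) (by simpa using hk)
      intro a b
      exact IsCyclic.commGroup.mul_comm a b
    · exact IsPGroup.commutative_of_card_eq_prime_sq hk
  have hAN : IsAN G Q :=
    ⟨hQG, hQn, fun a ha b hb => congrArg Subtype.val (hab ⟨a, ha⟩ ⟨b, hb⟩)⟩
  refine ⟨hAN, ?_⟩
  rcases hsmall Q hAN with h | h | h
  · exact Or.inl h
  · exfalso
    rw [hk] at h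
    interval_cases k <;> omega
  · exact Or.inr h

end Cfsg.Agent.Lib.Helper62.Hup
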