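import Mathlib
import Cfsg.Agent.Lib.Helper62.HupN26b

set_option autoImplicit false
set_option linter.unusedSectionVars false

namespace Cfsg.Agent.Lib.Helper62.Hup

open Cfsg.Agent.Lib.Helper76.Hup Module

variable {V : Type*} [AddCommGroup V] [Module (ZMod 2) V] [Finite V]

/-- the statement of rung FIT for the group `G` -/
def FitSt (G : Subgroup (V ≃ₗ[ZMod 2] V)) : Prop :=
  ∀ (p : ℕ) [Fact p.Prime],
    (∀ Q : Subgroup (V ≃ₗ[ZMod 2] V), Q ≤ G → (∀ g ∈ G, ∀ a ∈ Q, g * a * g⁻¹ ∈ Q) →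
      IsPGroup p Q → Q = ⊥) →
    ∀ x : V ≃ₗ[ZMod 2] V, x ∈ G → orderOf x = p →
    ∃ (r : ℕ) (_ : Fact r.Prime) (R : Subgroup (V ≃ₗ[ZMod 2] V)), R ≤ G ∧
      (∀ g ∈ G, ∀ a ∈ R, g * a * g⁻¹ ∈ R) ∧ IsPGroup r R ∧ ∃ a ∈ R, x * a ≠ a * x

theorem n26_exists_orderOf (G : Subgroup (V ≃ₗ[ZMod 2] V)) (p : ℕ) [Fact p.Prime]
    (h : p ∣ Nat.card G) : ∃ x ∈ G, orderOf x = p := by
  have hfin : Finite (V ≃ₗ[ZMod 2] V) := finite_gl
  obtain ⟨x, hx⟩ := exists_prime_orderOf_dvd_card' p h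
  exact ⟨x, x.2, by rw [Subgroup.orderOf_coe, hx]⟩

theorem n26_ne_bot {R : Subgroup (V ≃ₗ[ZMod 2] V)} {x : V ≃ₗ[ZMod 2] V}
    (h : ∃ a ∈ R, x * a ≠ a * x) : R ≠ ⊥ := by
  rintro rfl
  obtain ⟨a, ha, hxa⟩ := h
  rw [Subgroup.mem_bot] at ha
  subst ha
  simp at hxa

/-- Step A -/
theorem n26_stepA (hV : Nat.card V = 2 ^ 6) (G : Subgroup (V ≃ₗ[ZMod 2] V))
    (hsmall : ∀ A, IsAN G A → Nat.card A = 1 ∨ Nat.card A = 3 ∨ Nat.card A = 7)
    (hFIT : FitSt G) (h63 : 63 ∣ Nat.card G) : ∃ N, IsAN G N ∧ Nat.card N = 7 := by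
  have hfin : Finite (V ≃ₗ[ZMod 2] V) := finite_gl
  have : Fact (Nat.Prime 7) := ⟨by norm_num⟩
  have : Fact (Nat.Prime 3) := ⟨by norm_num⟩
  have hΓ := n26_card_gl (finrank_eq_of_card hV)
  by_contra hA
  have h7 : ∀ Q : Subgroup (V ≃ₗ[ZMod 2] V), Q ≤ G → (∀ g ∈ G, ∀ a ∈ Q, g * a * g⁻¹ ∈ Q) →
      IsPGroup 7 Q → Q = ⊥ := by
    intro Q hQG hQn hQ
    obtain ⟨hAN, h | h⟩ := n26_seven hV G hsmall Q hQG hQn hQ
    · exact Subgroup.eq_bot_of_card_eq _ h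
    · exact absurd ⟨Q, hAN, h⟩ hA
  obtain ⟨x, hxG, hx⟩ := n26_exists_orderOf G 7 ((by norm_num : 7 ∣ 63).trans h63)
  obtain ⟨r, hr, R, hRG, hRn, hRp, hxa⟩ := hFIT 7 h7 x hxG hx
  have hRne := n26_ne_bot hxa
  obtain ⟨Z, -, -, h3 | h7'⟩ := n26_center G hsmall R hRG hRn hRp hRne
  · subst h3
    have hM5 := Cfsg.Agent.Lib.Helper71.Hup.dvd_card_sub_card_cent (p := 7) (s := 0) (y := x)
      (by simpa using hx) (D := R) (hRn x hxG)
    simp only [pow_zero, pow_one, zero_add] at hM5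
    set C := R ⊓ Subgroup.centralizer ({x} : Set (V ≃ₗ[ZMod 2] V)) with hC
    obtain ⟨a, ha⟩ := IsPGroup.iff_card.1 hRp
    obtain ⟨b, hb⟩ := IsPGroup.iff_card.1 (hRp.to_le (inf_le_left : C ≤ R))
    have hdvd : 3 ^ a ∣ 20158709760 := by
      rw [← ha, ← hΓ]; exact Subgroup.card_subgroup_dvd_card R
    have ha4 : a ≤ 4 := by
      by_contra hcon
      have h3 : 3 ^ 5 ∣ 20158709760 := (pow_dvd_pow 3 (by omega)).trans hdvd
      revert h3; norm_num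
    have hle : Nat.card C ≤ Nat.card R := Subgroup.card_le_of_le inf_le_left
    have hne : Nat.card C ≠ Nat.card R := by
      intro heq
      have h1 : C = R := Subgroup.eq_of_le_of_card_ge inf_le_left heq.ge
      obtain ⟨c, hc, hxc⟩ := hxa
      have h2 : c ∈ C := h1 ▸ hc
      have h3 := Subgroup.mem_centralizer_singleton_iff.1 h2.2
      exact hxc h3.symm
    rw [ha, hb] at hM5 hle hne
    have hba : b < a := by
      have h1 : b ≤ a := (Nat.pow_le_pow_iff_right (by norm_num)).1 hle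
      rcases Nat.lt_or_ge b a with h | h
      · exact h
      · exact absurd (by rw [le_antisymm h1 h]) hne
    interval_cases a <;> interval_cases b <;> revert hM5 <;> decide
  · subst h7'
    exact hRne (h7 R hRG hRn hRp)

theorem case_two_six_of (hV : Nat.card V = 2 ^ 6) (G : Subgroup (V ≃ₗ[ZMod 2] V))
    (htr : Trans G) (hFIT : FitSt G) : HasIAN G := by
  have hfin : Finite (V ≃ₗ[ZMod 2] V) := finite_gl
  have : Fact (Nat.Prime 7) := ⟨by norm_num⟩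
  have : Fact (Nat.Prime 3) := ⟨by norm_num⟩
  by_contra hno
  have hsmall := n26_small hV G htr hno
  have hnt : Nontrivial V := by
    rw [← Finite.one_lt_card_iff_nontrivial, hV]; norm_num
  have h63 : 63 ∣ Nat.card G := by
    have := card_sub_one_dvd G htr
    rwa [hV] at this
  obtain ⟨N, hN, hNc⟩ := n26_stepA hV G hsmall hFIT h63
  have hNp : IsPGroup 7 N := IsPGroup.of_card (n := 1) (by simpa using hNc)
  -- Step B
  have h3 : ∀ T : Subgroup (V ≃ₗ[ZMod 2] V), T ≤ G → (∀ g ∈ G, ∀ a ∈ T, g * a * g⁻¹ ∈ T) →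
      IsPGroup 3 T → T = ⊥ := by
    intro T hTG hTn hT
    by_contra hne
    obtain ⟨Z, hZ, hZc, -⟩ := n26_center G hsmall T hTG hTn hT hne
    have hbot : Z ⊓ N = ⊥ := Subgroup.inf_eq_bot_of_coprime (by rw [hZc, hNc]; norm_num)
    have hcomm : ∀ a ∈ Z, ∀ b ∈ N, a * b = b * a := by
      intro a ha b hb
      have h1 : a * b * a⁻¹ * b⁻¹ ∈ Z ⊓ N := by
        refine Subgroup.mem_inf.2 ⟨?_, ?_⟩
        · have := Z.mul_mem ha (hZ.2.1 b (hN.1 hb) a⁻¹ (Z.inv_mem ha))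
          have e : a * (b * a⁻¹ * b⁻¹) = a * b * a⁻¹ * b⁻¹ := by group
          rwa [e] at this
        · exact N.mul_mem (hN.2.1 a (hZ.1 ha) b hb) (N.inv_mem hb)
      rw [hbot, Subgroup.mem_bot] at h1
      calc a * b = (a * b * a⁻¹ * b⁻¹) * (b * a) := by group
        _ = b * a := by rw [h1, one_mul]
    have hX : IsAN G (Z ⊔ N) :=
      ⟨sup_le hZ.1 hN.1, n26_sup_conj_mem hZ.2.1 hN.2.1, n26_sup_comm hZ.2.2 hN.2.2 hcomm⟩
    have d3 : 3 ∣ Nat.card (Z ⊔ N : Subgroup (V ≃ₗ[ZMod 2] V)) :=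
      hZc ▸ Subgroup.card_dvd_of_le le_sup_left
    have d7 : 7 ∣ Nat.card (Z ⊔ N : Subgroup (V ≃ₗ[ZMod 2] V)) :=
      hNc ▸ Subgroup.card_dvd_of_le le_sup_right
    rcases hsmall _ hX with h | h | h <;> rw [h] at d3 d7 <;> omega
  -- Step C
  have hall : ∀ (r : ℕ) [Fact r.Prime], r ≠ 7 → ∀ R : Subgroup (V ≃ₗ[ZMod 2] V), R ≤ G →
      (∀ g ∈ G, ∀ a ∈ R, g * a * g⁻¹ ∈ R) → IsPGroup r R → R = ⊥ := by
    intro r _ hr7 R hRG hRn hR
    by_contra hne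
    obtain ⟨Z, -, -, h | h⟩ := n26_center G hsmall R hRG hRn hR hne
    · subst h
      exact hne (h3 R hRG hRn hR)
    · exact hr7 h
  have h7le : ∀ Q : Subgroup (V ≃ₗ[ZMod 2] V), Q ≤ G → (∀ g ∈ G, ∀ a ∈ Q, g * a * g⁻¹ ∈ Q) →
      IsPGroup 7 Q → Q ≤ N := by
    intro Q hQG hQn hQ
    have hsup : IsPGroup 7 (Q ⊔ N : Subgroup (V ≃ₗ[ZMod 2] V)) :=
      IsPGroup.to_sup_of_normal_right' hQ hNp (hQG.trans (n26_le_normalizer hN.2.1))
    obtain ⟨-, h | h⟩ := n26_seven hV G hsmall (Q ⊔ N) (sup_le hQG hN.1)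
      (n26_sup_conj_mem hQn hN.2.1) hsup
    · exfalso
      have := Subgroup.card_dvd_of_le (le_sup_right : N ≤ Q ⊔ N)
      rw [h, hNc] at this
      omega
    · have h1 : N = Q ⊔ N := Subgroup.eq_of_le_of_card_ge le_sup_right (by rw [h, hNc])
      rw [h1]
      exact le_sup_left
  set C := G ⊓ Subgroup.centralizer (N : Set (V ≃ₗ[ZMod 2] V)) with hC
  have hCp : IsPGroup 7 C := by
    have hpos : Nat.card C ≠ 0 := Nat.card_pos.ne'
    have key : ∀ {d : ℕ}, d.Prime → d ∣ Nat.card C → d = 7 := by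
      intro d hd hdvd
      by_contra hd7
      have : Fact d.Prime := ⟨hd⟩
      obtain ⟨x, hxC, hx⟩ := n26_exists_orderOf C d hdvd
      obtain ⟨r, hr, R, hRG, hRn, hRp, hxa⟩ := hFIT d (hall d hd7) x hxC.1 hx
      have hRne := n26_ne_bot hxa
      have hr7 : r = 7 := by
        by_contra hne
        exact hRne (hall r hne R hRG hRn hRp)
      subst hr7
      obtain ⟨a, ha, hxa'⟩ := hxa
      have h1 := Subgroup.mem_centralizer_iff.1 hxC.2 a (h7le R hRG hRn hRp ha)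
      exact hxa' h1.symm
    exact IsPGroup.of_card (Nat.eq_prime_pow_of_unique_prime_dvd hpos key)
  have hCN : C ≤ N := h7le C inf_le_left (n26_cent_conj_mem hN.2.1) hCp
  -- Step D
  have hD := n26_card_dvd_of_prime (by norm_num : Nat.Prime 7) hN.2.1 hNc
  have hC7 : Nat.card C ∣ 7 := hNc ▸ Subgroup.card_dvd_of_le hCN
  have h42 : Nat.card G ∣ 42 := hD.trans (Nat.mul_dvd_mul_left (7 - 1) hC7)
  have := h63.trans h42
  omega

end Cfsg.Agent.Lib.Helper62.Hup
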