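import Mathlib
import Cfsg.Prelude.Def_KGroupFacts
import Cfsg.Agent.Lib.Helper92.MdlDef
import Cfsg.Agent.Lib.Helper62.MdlSURJ

set_option autoImplicit false

namespace Cfsg.Agent.Lib.Helper92.Mdl

open Matrix

set_option linter.unusedSectionVars false

variable {ι : Type} [Fintype ι] [DecidableEq ι] (B : Matrix ι ι (ZMod 2))

theorem ker_zmod2_cases (a : ZMod 2) : a = 0 ∨ a = 1 := by revert a; decide

/-- every linear functional is a polar functional -/
theorem ker_exists_polar (hB : ∀ u : ι → ZMod 2, (∀ w, bet B u w + bet B w u = 0) → u = 0)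
    (l : (ι → ZMod 2) →+ ZMod 2) : ∃ c : ι → ZMod 2, ∀ u, l u = bet B c u + bet B u c := by
  let Θ : (ι → ZMod 2) →ₗ[ZMod 2] Module.Dual (ZMod 2) (ι → ZMod 2) :=
    Matrix.toLinearMap₂' (ZMod 2) (B + Bᵀ)
  have hΘ : ∀ c u, Θ c u = bet B c u + bet B u c := by
    intro c u
    have : Θ c u = bet (B + Bᵀ) c u := Matrix.toLinearMap₂'_apply' _ _ _
    rw [this, surj_bet_add, surj_bet_transpose]
  have hinj : Function.Injective Θ := by
    rw [← LinearMap.ker_eq_bot, LinearMap.ker_eq_bot']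
    intro c hc
    apply hB
    intro w
    rw [← hΘ, hc]
    rfl
  have hsurj : Function.Surjective Θ :=
    (LinearMap.injective_iff_surjective_of_finrank_eq_finrank
      (Subspace.dual_finrank_eq (K := ZMod 2) (V := ι → ZMod 2)).symm).1 hinj
  obtain ⟨c, hc⟩ := hsurj (AddMonoidHom.toZModLinearMap 2 l)
  refine ⟨c, fun u => ?_⟩
  rw [← hΘ, hc]
  rfl

theorem ker_inner_of_v (hB : ∀ u : ι → ZMod 2, (∀ w, bet B u w + bet B w u = 0) → u = 0)
    (φ : MulAut (Mdl B)) (h : ∀ x : Mdl B, (φ x).v = x.v) : φ ∈ Cfsg.Inn (Mdl B) := by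
  -- the difference functional
  have hlam : ∀ x y : Mdl B, (φ (x * y)).a + (x * y).a = ((φ x).a + x.a) + ((φ y).a + y.a) := by
    intro x y
    rw [map_mul]
    simp only [mul_a, h]
    have h2 := zmod2_add_self (bet B x.v y.v)
    linear_combination h2
  have hz : ∀ a : ZMod 2, (φ (⟨0, a⟩ : Mdl B)).a + a = 0 := by
    intro a
    rcases ker_zmod2_cases a with rfl | rfl
    · have : (⟨0, 0⟩ : Mdl B) = 1 := rfl
      rw [this, map_one]
      simp
    · rcases ker_zmod2_cases (φ (⟨0, 1⟩ : Mdl B)).a with h0 | h1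
      · exfalso
        have h3 : φ (⟨0, 1⟩ : Mdl B) = 1 := by
          ext1
          · rw [h]; rfl
          · rw [h0]; rfl
        have h4 : (⟨0, 1⟩ : Mdl B) = 1 := by
          apply φ.injective
          rw [h3, map_one]
        have h5 := congrArg Mdl.a h4
        simp at h5
      · rw [h1]
        decide
  have hsplit : ∀ x : Mdl B, x = (⟨x.v, 0⟩ : Mdl B) * ⟨0, x.a⟩ := by
    intro x
    ext1 <;> simp
  have hlx : ∀ x : Mdl B, (φ x).a + x.a = (φ (⟨x.v, 0⟩ : Mdl B)).a := by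
    intro x
    conv_lhs => rw [hsplit x]
    rw [hlam, hz]
    simp
  let l : (ι → ZMod 2) →+ ZMod 2 := AddMonoidHom.mk' (fun u => (φ (⟨u, 0⟩ : Mdl B)).a) (by
    intro u w
    have h1 := hlam ⟨u, 0⟩ ⟨w, 0⟩
    rw [hlx] at h1
    simpa using h1)
  have hl : ∀ u, l u = (φ (⟨u, 0⟩ : Mdl B)).a := fun u => rfl
  obtain ⟨c, hc⟩ := ker_exists_polar B hB l
  refine ⟨⟨c, 0⟩, ?_⟩
  ext1 x
  rw [MulAut.conj_apply]
  ext1
  · rw [h]
    simp only [mul_v, inv_v]
    have := vec_add_self c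
    calc c + x.v + c = x.v + (c + c) := by abel
      _ = x.v := by rw [this, add_zero]
  · have h1 := hlx x
    rw [← hl, hc] at h1
    simp only [mul_a, mul_v, inv_a, inv_v, bet_add_left]
    have h2 := zmod2_add_self (bet B c c)
    have h3 := zmod2_add_self x.a
    linear_combination h2 - h1 + h3

end Cfsg.Agent.Lib.Helper92.Mdl
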