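import Mathlib
import Cfsg.Prelude.Def_Classical
import Cfsg.Agent.Lib.Helper92.MdlDef
import Cfsg.Agent.Lib.Helper62.MdlKER

set_option autoImplicit false

namespace Cfsg.Agent.Lib.Helper92.Mdl

open Matrix

set_option linter.unusedSectionVars false

variable {ι : Type} [Fintype ι] [DecidableEq ι] (B : Matrix ι ι (ZMod 2))

theorem hom_v_eq_zero_of_central (hB : ∀ u : ι → ZMod 2, (∀ w, bet B u w + bet B w u = 0) → u = 0)
    (c : Mdl B) (hc : ∀ y, c * y = y * c) : c.v = 0 := by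
  apply hB
  intro w
  have h1 := congrArg Mdl.a (hc ⟨w, 0⟩)
  simp only [mul_a] at h1
  have h2 := zmod2_add_self (bet B w c.v)
  linear_combination h1 + h2

theorem hom_fix_center (hB : ∀ u : ι → ZMod 2, (∀ w, bet B u w + bet B w u = 0) → u = 0)
    (φ : MulAut (Mdl B)) (a : ZMod 2) : φ (⟨0, a⟩ : Mdl B) = ⟨0, a⟩ := by
  rcases ker_zmod2_cases a with rfl | rfl
  · have : (⟨0, 0⟩ : Mdl B) = 1 := rfl
    rw [this, map_one]
  · have hcen : ∀ y : Mdl B, (⟨0, 1⟩ : Mdl B) * y = y * ⟨0, 1⟩ := by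
      intro y
      ext1
      · simp
      · simp only [mul_a, bet_zero_left, bet_zero_right]; ring
    have hcen' : ∀ y : Mdl B, φ (⟨0, 1⟩ : Mdl B) * y = y * φ ⟨0, 1⟩ := by
      intro y
      obtain ⟨y', rfl⟩ := φ.surjective y
      rw [← map_mul, ← map_mul, hcen]
    have hv := hom_v_eq_zero_of_central B hB _ hcen'
    rcases ker_zmod2_cases (φ (⟨0, 1⟩ : Mdl B)).a with h0 | h1
    · exfalso
      have h3 : φ (⟨0, 1⟩ : Mdl B) = 1 := by
        ext1
        · rw [hv]; rfl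
        · rw [h0]; rfl
      have h4 : (⟨0, 1⟩ : Mdl B) = 1 := by
        apply φ.injective
        rw [h3, map_one]
      have h5 := congrArg Mdl.a h4
      simp at h5
    · ext1
      · exact hv
      · exact h1

theorem hom_v_eq (hB : ∀ u : ι → ZMod 2, (∀ w, bet B u w + bet B w u = 0) → u = 0)
    (φ : MulAut (Mdl B)) (x : Mdl B) : (φ x).v = (φ (⟨x.v, 0⟩ : Mdl B)).v := by
  have hsplit : x = (⟨x.v, 0⟩ : Mdl B) * ⟨0, x.a⟩ := by
    ext1 <;> simp
  conv_lhs => rw [hsplit, map_mul, hom_fix_center B hB]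
  simp

/-- the linear map induced by an automorphism -/
noncomputable def homLin (hB : ∀ u : ι → ZMod 2, (∀ w, bet B u w + bet B w u = 0) → u = 0)
    (φ : MulAut (Mdl B)) : Module.End (ZMod 2) (ι → ZMod 2) :=
  AddMonoidHom.toZModLinearMap 2 (AddMonoidHom.mk' (fun u => (φ (⟨u, 0⟩ : Mdl B)).v) (by
    intro u w
    have h1 := hom_v_eq B hB φ ((⟨u, 0⟩ : Mdl B) * ⟨w, 0⟩)
    rw [map_mul] at h1
    simpa using h1.symm))

theorem homLin_apply (hB : ∀ u : ι → ZMod 2, (∀ w, bet B u w + bet B w u = 0) → u = 0)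
    (φ : MulAut (Mdl B)) (x : Mdl B) : homLin B hB φ x.v = (φ x).v :=
  (hom_v_eq B hB φ x).symm

theorem homLin_qf (hB : ∀ u : ι → ZMod 2, (∀ w, bet B u w + bet B w u = 0) → u = 0)
    (φ : MulAut (Mdl B)) (u : ι → ZMod 2) : qf B (homLin B hB φ u) = qf B u := by
  have h1 : (⟨u, 0⟩ : Mdl B) * ⟨u, 0⟩ = ⟨0, qf B u⟩ := by
    ext1
    · simp [vec_add_self]
    · simp [qf]
  have h2 := congrArg φ h1
  rw [map_mul, hom_fix_center B hB] at h2
  have h3 := congrArg Mdl.a h2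
  simp only [mul_a] at h3
  have h4 : homLin B hB φ u = (φ (⟨u, 0⟩ : Mdl B)).v := rfl
  rw [h4, ← h3, qf, zmod2_add_self, zero_add]

theorem exists_hom (hB : ∀ u : ι → ZMod 2, (∀ w, bet B u w + bet B w u = 0) → u = 0) :
    ∃ Ψ : MulAut (Mdl B) →* Cfsg.isometryGroup (ZMod 2) (qf B),
      ∀ (φ : MulAut (Mdl B)) (x : Mdl B),
        ((Ψ φ : Matrix.GeneralLinearGroup ι (ZMod 2)) : Matrix ι ι (ZMod 2)) *ᵥ x.v = (φ x).v := by
  let L : MulAut (Mdl B) →* Module.End (ZMod 2) (ι → ZMod 2) :=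
    { toFun := homLin B hB
      map_one' := by
        apply LinearMap.ext
        intro u
        exact homLin_apply B hB 1 ⟨u, 0⟩
      map_mul' := by
        intro φ ψ
        apply LinearMap.ext
        intro u
        rw [Module.End.mul_apply]
        have h1 := homLin_apply B hB (φ * ψ) ⟨u, 0⟩
        have h2 := homLin_apply B hB ψ ⟨u, 0⟩
        have h3 := homLin_apply B hB φ (ψ ⟨u, 0⟩)
        simp only at h1 h2
        rw [h1, h2, h3]
        rfl }
  let M : MulAut (Mdl B) →* Matrix ι ι (ZMod 2) :=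
    ((LinearMap.toMatrixAlgEquiv' : Module.End (ZMod 2) (ι → ZMod 2) ≃ₐ[ZMod 2] Matrix ι ι (ZMod 2)) :
      Module.End (ZMod 2) (ι → ZMod 2) →* Matrix ι ι (ZMod 2)).comp L
  have hM : ∀ φ u, M φ *ᵥ u = homLin B hB φ u := by
    intro φ u
    have : M φ = LinearMap.toMatrix' (homLin B hB φ) := rfl
    rw [this, LinearMap.toMatrix'_mulVec]
  let U : MulAut (Mdl B) →* Matrix.GeneralLinearGroup ι (ZMod 2) := M.toHomUnits
  have hU : ∀ φ, ((U φ : Matrix.GeneralLinearGroup ι (ZMod 2)) : Matrix ι ι (ZMod 2)) = M φ :=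
    fun φ => rfl
  refine ⟨U.codRestrict _ (fun φ => ?_), fun φ x => ?_⟩
  · intro u _
    show qf B (((U φ : Matrix.GeneralLinearGroup ι (ZMod 2)) : Matrix ι ι (ZMod 2)) *ᵥ u) = qf B u
    rw [hU, hM, homLin_qf]
  · show ((U φ : Matrix.GeneralLinearGroup ι (ZMod 2)) : Matrix ι ι (ZMod 2)) *ᵥ x.v = (φ x).v
    rw [hU, hM, homLin_apply]

end Cfsg.Agent.Lib.Helper92.Mdl
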