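import Mathlib
import Cfsg.Agent.Lib.Helper62.PGU3

set_option autoImplicit false
open Module LinearMap Finset

namespace Cfsg.Agent.Lib.Helper62.PG

variable {F V : Type*} [Field F] [AddCommGroup V] [Module F V]

theorem natCast_ne_zero_of_not_dvd_card [Fintype F] {r : ℕ} (hr : r.Prime)
    (hrq : ¬ r ∣ Fintype.card F) : (r : F) ≠ 0 := by
  intro h0
  obtain ⟨p, hp⟩ := CharP.exists F
  obtain ⟨n, hpp, hn⟩ := FiniteField.card F p
  have h1 : p ∣ r := (CharP.cast_eq_zero_iff F p r).1 h0
  have h2 : p = r := (Nat.prime_dvd_prime_iff_eq hpp hr).1 h1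
  subst h2
  apply hrq
  rw [hn]
  exact dvd_pow_self p n.ne_zero

/-- the averaging operator is self-adjoint (bilinear version) -/
theorem geom_selfadj_bilin {s : ℕ} (B : LinearMap.BilinForm F V) (hs0 : (s : F) ≠ 0)
    (β : V →ₗ[F] V) (hβ : ∀ x y, B (β x) (β y) = B x y) (hβs : β ^ s = 1) (x y : V) :
    B ((∑ i ∈ range s, β ^ i) x) y = B x ((∑ i ∈ range s, β ^ i) y) := by
  set P := ∑ i ∈ range s, β ^ i with hP
  have hfix : ∀ i z, (β ^ i) (P z) = P z := by
    intro i z
    exact LinearMap.congr_fun (pow_mul_geom β hβs i) z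
  have hPz : ∀ z, P z = ∑ i ∈ range s, (β ^ i) z := by
    intro z
    rw [hP, LinearMap.sum_apply]
  have e1 : B (P x) (P y) = (s : F) * B (P x) y := by
    rw [hPz y, map_sum]
    have : ∀ i ∈ range s, B (P x) ((β ^ i) y) = B (P x) y := by
      intro i _
      conv_lhs => rw [← hfix i x]
      exact iso_pow (H := fun a b => B a b) β hβ i _ _
    rw [Finset.sum_congr rfl this]
    simp
  have e2 : B (P x) (P y) = (s : F) * B x (P y) := by
    rw [hPz x, map_sum, LinearMap.sum_apply]
    have : ∀ i ∈ range s, B ((β ^ i) x) (P y) = B x (P y) := by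
      intro i _
      conv_lhs => rw [← hfix i y]
      exact iso_pow (H := fun a b => B a b) β hβ i _ _
    rw [Finset.sum_congr rfl this]
    simp
  exact mul_left_cancel₀ hs0 (e1.symm.trans e2)

theorem key_adj_bilin (B : LinearMap.BilinForm F V) (α : V →ₗ[F] V)
    (hα : ∀ x y, B (α x) (α y) = B x y) (j : ℕ) :
    ∀ x y, B (((α - 1) ^ j) x) ((α ^ j) y) = (-1) ^ j * B x (((α - 1) ^ j) y) := by
  have hcomm : ∀ k z, (α - 1) ((α ^ k) z) = (α ^ k) ((α - 1) z) := by
    intro k z
    have h1 : Commute (α - 1) (α ^ k) := ((Commute.refl α).sub_left (Commute.one_left α)).pow_right k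
    exact LinearMap.congr_fun h1.eq z
  have key : ∀ x y, B ((α - 1) x) (α y) = - B x ((α - 1) y) := by
    intro x y
    simp only [LinearMap.sub_apply, Module.End.one_apply, map_sub]
    rw [hα]
    ring
  induction j with
  | zero => intro x y; simp
  | succ j ih =>
    intro x y
    have e1 : ((α - 1) ^ (j + 1)) x = (α - 1) (((α - 1) ^ j) x) := by rw [pow_succ']; rfl
    have e2 : (α ^ (j + 1)) y = α ((α ^ j) y) := by rw [pow_succ']; rfl
    have e3 : ((α - 1) ^ (j + 1)) y = ((α - 1) ^ j) ((α - 1) y) := by rw [pow_succ]; rfl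
    rw [e1, e2, e3, key, hcomm, ih]
    ring

theorem ker_ne_bot_of_sq_zero (ψ : V →ₗ[F] V) (h0 : ψ ≠ 0) (hsq : ψ * ψ = 0) :
    LinearMap.ker ψ ≠ ⊥ := by
  obtain ⟨x, hx⟩ : ∃ x, ψ x ≠ 0 := by
    by_contra hcon
    push Not at hcon
    exact h0 (LinearMap.ext hcon)
  intro hbot
  have h1 : ψ x ∈ LinearMap.ker ψ := LinearMap.congr_fun hsq x
  rw [hbot, Submodule.mem_bot] at h1
  exact hx h1

variable [Fintype F] [FiniteDimensional F V]

theorem sp_adj (B : LinearMap.BilinForm F V) (hA : B.IsAlt) (hnd : ∀ x, (∀ y, B x y = 0) → x = 0)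
    {n r : ℕ} [Fact r.Prime] (hr2 : r ≠ 2) (hrq : ¬ r ∣ Fintype.card F)
    (α β : V →ₗ[F] V) (hα : ∀ x y, B (α x) (α y) = B x y) (hβ : ∀ x y, B (β x) (β y) = B x y)
    (hαn : IsNilpotent (α - 1)) (hα1 : α ≠ 1) (hβr : β ^ r = 1) (hβ1 : β ≠ 1) (hc : Commute α β)
    (hmain : ∀ ψ : V →ₗ[F] V, Commute β ψ → (∀ x y, B (ψ x) y = B x (ψ y)) →
      ψ * (∑ i ∈ range r, β ^ i) = 0 → ψ ≠ 0 → LinearMap.ker ψ ≠ ⊥ →
      ∃ i, 1 ≤ i ∧ i ≤ n - 1 ∧ r ∣ Fintype.card F ^ (2 * i) - 1) :
    ∃ i, 1 ≤ i ∧ i ≤ n - 1 ∧ r ∣ Fintype.card F ^ (2 * i) - 1 := by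
  classical
  have hr : r.Prime := Fact.out
  have hr0 : (r : F) ≠ 0 := natCast_ne_zero_of_not_dvd_card hr hrq
  suffices hex : ∃ ψ : V →ₗ[F] V, Commute β ψ ∧ (∀ x y, B (ψ x) y = B x (ψ y)) ∧
      ψ * (∑ i ∈ range r, β ^ i) = 0 ∧ ψ ≠ 0 ∧ LinearMap.ker ψ ≠ ⊥ by
    obtain ⟨ψ, h1, h2, h3, h4, h5⟩ := hex
    exact hmain ψ h1 h2 h3 h4 h5
  set P := ∑ i ∈ range r, β ^ i with hP
  set ν := α - 1 with hν
  have hβP : Commute β P := Commute.sum_right _ _ _ (fun i _ => (Commute.refl β).pow_right i)
  have hνβ : Commute ν β := hc.sub_left (Commute.one_left β)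
  have hν0 : ν ≠ 0 := fun h => hα1 (sub_eq_zero.1 h)
  by_cases hfix : ∃ x, x ≠ 0 ∧ β x = x
  · obtain ⟨x0, hx0, hx1⟩ := hfix
    set e : V →ₗ[F] V := (r : F) • 1 - P with he
    have hPP : P * P = (r : F) • P := geom_sq β hβr
    have heP : e * P = 0 := by
      rw [he, sub_mul, smul_mul_assoc, one_mul, hPP, sub_self]
    have hβe : Commute β e := ((Commute.one_right β).smul_right _).sub_right hβP
    have hPsa : ∀ x y, B (P x) y = B x (P y) := geom_selfadj_bilin B hr0 β hβ hβr
    have hesa : ∀ x y, B (e x) y = B x (e y) := by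
      intro x y
      simp only [he, LinearMap.sub_apply, LinearMap.smul_apply, Module.End.one_apply, map_sub,
        map_smul, hPsa]
    have he0 : e ≠ 0 := by
      intro h0
      apply hβ1
      have h3 : (r : F) • (1 : V →ₗ[F] V) = P := sub_eq_zero.1 h0
      have h4 : β * P = P := by simpa using pow_mul_geom β hβr 1
      rw [← h3, mul_smul_comm, mul_one] at h4
      exact smul_right_injective _ hr0 h4
    refine ⟨e, hβe, hesa, heP, he0, ?_⟩
    intro hbot
    have h1 : x0 ∈ LinearMap.ker e := by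
      rw [LinearMap.mem_ker, he, LinearMap.sub_apply, LinearMap.smul_apply, Module.End.one_apply,
        hP, sum_pow_apply_of_fixed β x0 hx1 r, sub_self]
    rw [hbot, Submodule.mem_bot] at h1
    exact hx0 h1
  · push Not at hfix
    have hfix' : ∀ x, β x = x → x = 0 := by
      intro x hx
      by_contra hne
      exact hfix x hne hx
    have hP0 : P = 0 := by
      ext x
      apply hfix'
      have h4 : β * P = P := by simpa using pow_mul_geom β hβr 1
      exact LinearMap.congr_fun h4 x
    obtain ⟨j', hj1, hj2⟩ := exists_last_pow ν ν hαn hν0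
    set j := j' + 1 with hj
    set N := ν ^ j with hN
    have hN0 : N ≠ 0 := by rw [hN, hj, pow_succ]; exact hj1
    have hνN : ν * N = 0 := by rw [hN, ← pow_succ', pow_succ]; exact hj2
    have hNN : N * N = 0 := by
      have : N = ν ^ j' * ν := by rw [hN, hj, pow_succ]
      calc N * N = (ν ^ j' * ν) * N := by rw [← this]
        _ = ν ^ j' * (ν * N) := mul_assoc _ _ _
        _ = 0 := by rw [hνN, mul_zero]
    have hβN : Commute β N := (hνβ.symm).pow_right j
    have hadj : ∀ x y, B (N x) y = (-1) ^ j * B x (N y) := by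
      intro x y
      have hw : α (N x) = N x := by
        have := LinearMap.congr_fun hνN x
        simp only [Module.End.mul_apply, hν, LinearMap.sub_apply, Module.End.one_apply,
          LinearMap.zero_apply] at this
        exact sub_eq_zero.1 this
      rw [← fixed_pow_right (H := fun a b => B a b) α hα _ hw j y]
      exact key_adj_bilin B α hα j x y
    rcases Nat.even_or_odd j with hev | hodd
    · refine ⟨N, hβN, ?_, by rw [hP0, mul_zero], hN0, ker_ne_bot_of_sq_zero N hN0 hNN⟩
      intro x y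
      rw [hadj, hev.neg_one_pow, one_mul]
    · have hr1 : 1 ≤ r := hr.one_lt.le
      set δ := β - β ^ (r - 1) with hδ
      have hββ : β * β ^ (r - 1) = 1 := by
        rw [← pow_succ', Nat.sub_add_cancel hr1, hβr]
      have hββ' : ∀ z, β ((β ^ (r - 1)) z) = z := fun z => LinearMap.congr_fun hββ z
      have hδadj : ∀ x z, B (δ x) z = - B x (δ z) := by
        intro x z
        have e1 : B (β x) z = B x ((β ^ (r - 1)) z) := by
          conv_lhs => rw [← hββ' z]
          exact hβ _ _
        have e2 : B ((β ^ (r - 1)) x) z = B x (β z) := by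
          conv_rhs => rw [← hββ' x]
          exact (hβ _ _).symm
        simp only [hδ, LinearMap.sub_apply, map_sub, e1, e2]
        ring
      have hβδ : Commute β δ := (Commute.refl β).sub_right ((Commute.refl β).pow_right _)
      have hNδ : Commute N δ := (hβN.symm).sub_right ((hβN.symm).pow_right _)
      have hδinj : Function.Injective δ := by
        rw [← LinearMap.ker_eq_bot, LinearMap.ker_eq_bot']
        intro x hx
        apply hfix'
        have h1 : β x = (β ^ (r - 1)) x := by
          simp only [hδ, LinearMap.sub_apply] at hx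
          exact sub_eq_zero.1 hx
        have h2 : β (β x) = x := by rw [h1, hββ']
        obtain ⟨k, hk⟩ := hr.odd_of_ne_two hr2
        have h3 : ∀ i : ℕ, (β ^ (2 * i)) x = x := by
          intro i
          induction i with
          | zero => rfl
          | succ i ih =>
            have : β ^ (2 * (i + 1)) = β ^ (2 * i) * (β * β) := by
              rw [← pow_two, ← pow_add]; congr 1
            rw [this, Module.End.mul_apply, Module.End.mul_apply, h2, ih]
        have h4 : (β ^ r) x = β x := by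
          rw [hk, pow_succ', Module.End.mul_apply, h3]
        rw [← h4, hβr]
        rfl
      have hδsurj : Function.Surjective δ := LinearMap.injective_iff_surjective.1 hδinj
      have hψ0 : N * δ ≠ 0 := by
        intro h0
        apply hN0
        ext y
        obtain ⟨x, rfl⟩ := hδsurj y
        exact LinearMap.congr_fun h0 x
      have hψsq : (N * δ) * (N * δ) = 0 := by
        rw [mul_assoc, ← mul_assoc δ, ← hNδ.eq, mul_assoc, ← mul_assoc, hNN, zero_mul]
      refine ⟨N * δ, hβN.mul_right hβδ, ?_, by rw [hP0, mul_zero], hψ0,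
        ker_ne_bot_of_sq_zero _ hψ0 hψsq⟩
      intro x y
      have e1 : δ (N y) = N (δ y) := (LinearMap.congr_fun hNδ.eq y).symm
      rw [Module.End.mul_apply, Module.End.mul_apply, hadj, hodd.neg_one_pow, hδadj, e1]
      ring

end Cfsg.Agent.Lib.Helper62.PG
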