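import Mathlib
import Cfsg.Prelude.Def_FusionSystem
import Cfsg.Agent.Lib.Helper62.PSCtl
import Cfsg.Agent.Lib.Helper87.FusionGroup

set_option autoImplicit false

/-! Translation between `p`-stability / control of strong fusion in a group and its fusion system. -/

namespace Cfsg.Agent.Lib.Helper62

open Cfsg Cfsg.Agent.Lib.Helper39 Cfsg.Agent.Lib.Helper57 Cfsg.Agent.Lib.Helper57.FC
open scoped commutatorElement

variable {p : ℕ} [Fact p.Prime] {Ω : Type*} [Group Ω]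

/-- `p`-stability of a fusion system, as written in the statements -/
def FusPS (p : ℕ) {S : Subgroup Ω} (F : FusionSystem S) : Prop :=
  ∀ Q : Subgroup Ω, F.IsFullyNormalized Q → ∀ χ : MulAut ↥Q, χ ∈ F.autGroup Q →
    (∀ a : ↥Q, (χ a⁻¹) * a * (χ a⁻¹) * (χ (χ a)) = 1) →
    χ ∈ ((Cfsg.pCore p ↥(F.autGroup Q)).map (F.autGroup Q).subtype : Subgroup (MulAut ↥Q))

omit [Fact p.Prime] in
/-- the conclusion of `PS` is invariant under conjugation -/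
theorem ps_concl_conj (k : Ω) {U : Subgroup Ω} {g : Ω}
    (h : ∃ K : Subgroup Ω, k * g * k⁻¹ ∈ K ∧
      Subgroup.normalizer ((cj k U : Subgroup Ω) : Set Ω) ≤ Subgroup.normalizer (K : Set Ω) ∧
      ∀ x ∈ K, ∃ n : ℕ, x ^ (p ^ n) ∈ Subgroup.centralizer ((cj k U : Subgroup Ω) : Set Ω)) :
    ∃ K : Subgroup Ω, g ∈ K ∧
      Subgroup.normalizer (U : Set Ω) ≤ Subgroup.normalizer (K : Set Ω) ∧
      ∀ x ∈ K, ∃ n : ℕ, x ^ (p ^ n) ∈ Subgroup.centralizer (U : Set Ω) := by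
  obtain ⟨K, hgK, hNK, hpow⟩ := h
  refine ⟨cj k⁻¹ K, ?_, ?_, ?_⟩
  · rw [mem_cj, inv_inv]; exact hgK
  · rw [← cj_normalizer] at hNK
    rw [← cj_normalizer]
    intro x hx
    rw [mem_cj, inv_inv]
    exact hNK (conj_mem_cj hx)
  · intro x hx
    rw [mem_cj, inv_inv] at hx
    obtain ⟨n, hn⟩ := hpow _ hx
    refine ⟨n, ?_⟩
    rw [← cj_centralizer, mem_cj, conj_pow] at hn
    have : k⁻¹ * (k * x ^ (p ^ n) * k⁻¹) * k = x ^ (p ^ n) := by group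
    rwa [this] at hn

theorem ps_of_fusPS [Finite Ω] (P : Sylow p Ω)
    (hst : FusPS p (groupFusionSystem (P : Subgroup Ω))) : ZJ.PS p Ω := by
  intro U hU g hg hq
  -- a fully normalized conjugate
  let T : Set Ω := {k | cj k U ≤ (P : Subgroup Ω)}
  have hT : T.Nonempty := by
    obtain ⟨k, -, hk⟩ := exists_conj_le_of_relIndex le_top P.2 (sylow_relIndex_top P) le_top hU
    exact ⟨k, hk⟩
  obtain ⟨k, hk, hmax⟩ := Set.exists_max_image T
    (fun k => Nat.card (FusionSystem.normalizerIn (P : Subgroup Ω) (cj k U))) (Set.toFinite T) hT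
  apply ps_concl_conj k
  set Q := cj k U with hQ
  set γ := k * g * k⁻¹ with hγ
  have hQP : Q ≤ (P : Subgroup Ω) := hk
  have hfn : (groupFusionSystem (P : Subgroup Ω)).IsFullyNormalized Q := by
    refine ⟨hQP, ?_⟩
    intro Q' hQ'
    obtain ⟨-, hQ'P, x, rfl⟩ := (Cfsg.Agent.Lib.Helper87.isConj_group_iff _ _ _).1 hQ'
    have h1 : Cfsg.Agent.Lib.Helper87.cj x Q = cj (x * k) U := by
      rw [cj_mul]
    rw [h1] at hQ'P ⊢
    exact hmax (x * k) hQ'P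
  have hγN : γ ∈ Subgroup.normalizer (Q : Set Ω) := by
    rw [hQ, ← cj_normalizer]
    exact conj_mem_cj hg
  have hqQ : ⁅⁅Q, Subgroup.zpowers γ⁆, Subgroup.zpowers γ⁆ = ⊥ := by
    have hz : Subgroup.zpowers γ = (Subgroup.zpowers g).map (MulAut.conj k).toMonoidHom := by
      rw [MonoidHom.map_zpowers]; rfl
    rw [hz, hQ]
    unfold cj
    rw [← Subgroup.map_commutator, ← Subgroup.map_commutator, hq, Subgroup.map_bot]
  let θ := Q.normalizerMonoidHom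
  set F := groupFusionSystem (P : Subgroup Ω) with hF
  have hθF : ∀ x : Subgroup.normalizer (Q : Set Ω), θ x ∈ F.autGroup Q := by
    intro x
    apply Subgroup.subset_closure
    refine ⟨hQP, fun y => hQP (θ x y).2, (x : Ω), fun y => rfl⟩
  have hquad : ∀ a : ↥Q, (θ ⟨γ, hγN⟩ a⁻¹) * a * (θ ⟨γ, hγN⟩ a⁻¹) *
      (θ ⟨γ, hγN⟩ (θ ⟨γ, hγN⟩ a)) = 1 := by
    intro a
    apply Subtype.ext
    change (γ * (a : Ω)⁻¹ * γ⁻¹) * a * (γ * (a : Ω)⁻¹ * γ⁻¹) * (γ * (γ * a * γ⁻¹) * γ⁻¹) = 1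
    have hc : ⁅(a : Ω)⁻¹, γ⁆ ∈ ⁅Q, Subgroup.zpowers γ⁆ :=
      Subgroup.commutator_mem_commutator (Q.inv_mem a.2) (Subgroup.mem_zpowers γ)
    have h2 : ⁅⁅(a : Ω)⁻¹, γ⁆, γ⁆ = 1 := by
      rw [← Subgroup.mem_bot, ← hqQ]
      exact Subgroup.commutator_mem_commutator hc (Subgroup.mem_zpowers γ)
    rw [commutatorElement_eq_one_iff_mul_comm, commutatorElement_def, inv_inv] at h2
    -- `c γ = γ c` with `c = a⁻¹ γ a γ⁻¹`
    set x := (a : Ω) with hx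
    have h3 : γ * (x⁻¹ * γ * x * γ⁻¹) * γ⁻¹ = x⁻¹ * γ * x * γ⁻¹ := by
      rw [← h2]; group
    calc γ * x⁻¹ * γ⁻¹ * x * (γ * x⁻¹ * γ⁻¹) * (γ * (γ * x * γ⁻¹) * γ⁻¹)
        = γ * x⁻¹ * γ⁻¹ * x * (γ * (x⁻¹ * γ * x * γ⁻¹) * γ⁻¹) := by group
      _ = 1 := by rw [h3]; group
  have hχ := hst Q hfn (θ ⟨γ, hγN⟩) (hθF _) hquad
  set O : Subgroup (MulAut ↥Q) := (Cfsg.pCore p ↥(F.autGroup Q)).map (F.autGroup Q).subtype with hO
  refine ⟨(O.comap θ).map (Subgroup.normalizer (Q : Set Ω)).subtype, ⟨⟨γ, hγN⟩, hχ, rfl⟩, ?_, ?_⟩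
  · rw [Subgroup.le_normalizer_iff]
    rintro n hn _ ⟨y, hy, rfl⟩
    refine ⟨⟨n, hn⟩ * y * ⟨n, hn⟩⁻¹, ?_, rfl⟩
    rw [SetLike.mem_coe, Subgroup.mem_comap, map_mul, map_mul, map_inv]
    obtain ⟨o, ho, hoy⟩ := hy
    refine ⟨⟨θ ⟨n, hn⟩, hθF _⟩ * o * ⟨θ ⟨n, hn⟩, hθF _⟩⁻¹, ?_, ?_⟩
    · exact (inferInstance : (Cfsg.pCore p ↥(F.autGroup Q)).Normal).conj_mem o ho _
    · simp only [map_mul, map_inv, Subgroup.subtype_apply]
      rw [← hoy]; rfl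
  · rintro _ ⟨y, hy, rfl⟩
    obtain ⟨o, ho, hoy⟩ := hy
    obtain ⟨n, hn⟩ := (isPGroup_pCore p ↥(F.autGroup Q)) ⟨o, ho⟩
    refine ⟨n, ?_⟩
    have h1 : o ^ (p ^ n) = 1 := by simpa using congrArg Subtype.val hn
    have h2 : θ (y ^ (p ^ n)) = 1 := by
      rw [map_pow, ← hoy, ← map_pow, h1, map_one]
    rw [← MonoidHom.mem_ker, Subgroup.normalizerMonoidHom_ker, Subgroup.mem_subgroupOf] at h2
    exact h2

omit [Fact p.Prime] in
/-- control of strong fusion by `N(W)` makes `W` normal in the fusion system -/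
theorem isNormal_of_ctl {P W : Subgroup Ω} (hWP : W ≤ P)
    (h : Ctl {Subgroup.normalizer (W : Set Ω)} P) : (groupFusionSystem P).IsNormal W := by
  refine ⟨hWP, ?_⟩
  rintro P₁ φ ⟨hP₁, hφP, g, hg⟩
  have hgP : cj g P₁ ≤ P := by
    rintro _ ⟨x, hx, rfl⟩
    have := hφP ⟨x, hx⟩
    rw [hg] at this
    exact this
  obtain ⟨n, hn, hng⟩ := (h P₁ hP₁ g hgP).exists_of_singleton
  have hle : P₁ ⊔ W ≤ P := sup_le hP₁ hWP
  have hval : ∀ y ∈ P₁ ⊔ W, n * y * n⁻¹ ∈ P := by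
    have : P₁ ⊔ W ≤ P.comap (MulAut.conj n).toMonoidHom := by
      apply sup_le
      · intro x hx
        change n * x * n⁻¹ ∈ P
        rw [hng x hx]
        exact hgP (conj_mem_cj hx)
      · intro w hw
        change n * w * n⁻¹ ∈ P
        exact hWP ((Subgroup.mem_normalizer_iff.mp hn w).1 hw)
    exact fun y hy => this hy
  refine ⟨conjHom (P₁ ⊔ W) n, ⟨hle, fun y => hval y y.2, n, fun _ => rfl⟩, ?_, ?_⟩
  · intro x
    change n * (x : Ω) * n⁻¹ = φ x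
    rw [hng x x.2, hg]
  · ext y
    constructor
    · rintro ⟨w, hw, rfl⟩
      change n * (w : Ω) * n⁻¹ ∈ W
      exact (Subgroup.mem_normalizer_iff.mp hn w).1 hw
    · intro hy
      have h1 : n⁻¹ * y * n ∈ W := by
        rw [Subgroup.mem_normalizer_iff] at hn
        rw [hn]
        have : n * (n⁻¹ * y * n) * n⁻¹ = y := by group
        rwa [this]
      refine ⟨⟨n⁻¹ * y * n, (le_sup_right : W ≤ P₁ ⊔ W) h1⟩, h1, ?_⟩
      change n * (n⁻¹ * y * n) * n⁻¹ = y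
      group

end Cfsg.Agent.Lib.Helper62
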